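import Mathlib

/-!
Numbers attached to `q = 3 ^ (2m+1)`.
-/

set_option autoImplicit false

namespace Cfsg.Agent.Chev.Ree

theorem pow_odd_mod (m : ℕ) : 3 ^ (2 * m + 1) % 8 = 3 := by
  induction m with
  | zero => rfl
  | succ n ih =>
    rw [show 2 * (n + 1) + 1 = 2 * n + 1 + 2 by ring, pow_add, Nat.mul_mod, ih]
    norm_num

theorem le_pow_odd {m : ℕ} (hm : 1 ≤ m) : 27 ≤ 3 ^ (2 * m + 1) :=
  le_trans (by norm_num) (Nat.pow_le_pow_right (by norm_num) (show 3 ≤ 2 * m + 1 by omega))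

theorem le_pow_succ {m : ℕ} (hm : 1 ≤ m) : 9 ≤ 3 ^ (m + 1) :=
  le_trans (by norm_num) (Nat.pow_le_pow_right (by norm_num) (show 2 ≤ m + 1 by omega))

theorem sq_pow_succ (m : ℕ) : 3 ^ (m + 1) * 3 ^ (m + 1) = 3 * 3 ^ (2 * m + 1) := by
  rw [← pow_add, ← pow_succ']
  ring_nf

theorem pow_succ_le (m : ℕ) : 3 ^ (m + 1) ≤ 3 ^ (2 * m + 1) :=
  Nat.pow_le_pow_right (by norm_num) (by omega)

/-- The two factors of `q² - q + 1`. -/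
theorem nminus_mul_nplus (m : ℕ) :
    (3 ^ (2 * m + 1) - 3 ^ (m + 1) + 1) * (3 ^ (2 * m + 1) + 3 ^ (m + 1) + 1) =
      (3 ^ (2 * m + 1)) ^ 2 - 3 ^ (2 * m + 1) + 1 := by
  have h1 := sq_pow_succ m
  have h2 := pow_succ_le m
  have h3 : 3 ^ (2 * m + 1) ≤ (3 ^ (2 * m + 1)) ^ 2 := Nat.le_self_pow two_ne_zero _
  generalize 3 ^ (2 * m + 1) = q at *
  generalize 3 ^ (m + 1) = r at *
  zify [h2, h3]
  have h1' : (r : ℤ) * r = 3 * q := by exact_mod_cast h1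
  linear_combination -h1'

theorem cube_add_one (q : ℕ) : q ^ 3 + 1 = (q + 1) * (q ^ 2 - q + 1) := by
  have h3 : q ≤ q ^ 2 := Nat.le_self_pow two_ne_zero _
  zify [h3]
  ring

theorem sq_sub_one (q : ℕ) : q ^ 2 - 1 = (q - 1) * (q + 1) := by
  rw [mul_comm]
  simpa using Nat.sq_sub_sq q 1

/-- A prime divisor of `q + 1` and of `q - 1` is two; of `q ² - q + 1` and of `q ± 1` is three. -/
theorem prime_facts {q r : ℕ} (hq : 1 ≤ q) (hr : r.Prime) :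
    (r ∣ q - 1 → r ∣ q + 1 → r = 2) ∧ (r ∣ q + 1 → r ∣ q ^ 2 - q + 1 → r = 3) ∧
      ¬ (r ∣ q - 1 ∧ r ∣ q ^ 2 - q + 1) ∧ ¬ (r ∣ q ∧ r ∣ q - 1) ∧ ¬ (r ∣ q ∧ r ∣ q + 1) ∧
      ¬ (r ∣ q ∧ r ∣ q ^ 2 - q + 1) := by
  obtain ⟨k, rfl⟩ : ∃ k, q = k + 1 := ⟨q - 1, by omega⟩
  have e : (k + 1) ^ 2 - (k + 1) + 1 = k * (k + 1) + 1 := by
    have : (k + 1) ^ 2 = k * (k + 1) + (k + 1) := by ring
    omega
  rw [e, Nat.add_sub_cancel]
  have h1 : ∀ n : ℕ, r ∣ n → r ∣ n + 1 → False := fun n a b =>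
    hr.one_lt.ne' (Nat.dvd_one.1 ((Nat.dvd_add_right a).1 b))
  refine ⟨fun a b => ?_, fun a b => ?_, fun ⟨a, b⟩ => h1 _ (dvd_mul_of_dvd_left a _) b,
    fun ⟨a, b⟩ => h1 _ b a, fun ⟨a, b⟩ => h1 _ a b, fun ⟨a, b⟩ => h1 _ (dvd_mul_of_dvd_right a _) b⟩
  · have : r ∣ 2 := (Nat.dvd_add_right a).1 (by rwa [add_assoc] at b)
    exact (Nat.prime_dvd_prime_iff_eq hr Nat.prime_two).1 this
  · have h2 : r ∣ (k + 2) * (k + 2) := dvd_mul_of_dvd_left a _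
    have h3 : (k + 2) * (k + 2) = (k * (k + 1) + 1) + 3 * (k + 1) := by ring
    rw [h3] at h2
    have h4 : r ∣ 3 * (k + 1) := (Nat.dvd_add_right b).1 h2
    rcases hr.dvd_mul.1 h4 with h | h
    · exact (Nat.prime_dvd_prime_iff_eq hr Nat.prime_three).1 h
    · exact absurd a fun a => h1 _ h a

end Cfsg.Agent.Chev.Ree
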