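import Cfsg.Agent.Chev.Ree.Point
import Cfsg.Agent.Chev.Functorial
import Cfsg.Prelude.Def_KGroupFacts

/-!
The automorphisms of `²G₂(q)`.
-/

set_option autoImplicit false
set_option maxRecDepth 100000
set_option maxHeartbeats 1000000

namespace Cfsg.Agent.Chev

open Cfsg.Lie
open scoped MatrixGroups

universe u

namespace Ree

section Field

variable {K : Type u} [Field K] [CharP K 3] {m : ℕ}

theorem gmap_R (f : K →+* K) (t u v : K) :
    gmap chevG2 f (R m t u v) = R m (f t) (f u) (f v) := by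
  rw [← wordG_R, ← wordG_R, gmap_wordG facts_chevG2 facts_chevG2]
  congr 1
  simp [reeWordU, map_add, map_pow]

theorem gmap_om (f : K →+* K) (g : GL chevG2.Idx K) : gmap chevG2 f (om g) = om (gmap chevG2 f g) := by
  apply Units.ext
  ext a b
  rw [gmap_apply, om_val, om_val, gmap_apply]

theorem gmap_mem_G1 (f : K →+* K) {g : GL chevG2.Idx K} (hg : g ∈ twistedG2 K (3 ^ m)) :
    gmap chevG2 f g ∈ twistedG2 K (3 ^ m) := by
  refine ((Subgroup.closure_le _).2 ?_ :
    twistedG2 K (3 ^ m) ≤ (twistedG2 K (3 ^ m)).comap (gmap chevG2 f)) hg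
  rintro g ⟨w, ⟨t, u, v, rfl | rfl⟩, e⟩
  · obtain rfl : g = R m t u v := Units.ext (by rw [e, ← wordG_R, wordG_val])
    rw [SetLike.mem_coe, Subgroup.mem_comap, gmap_R]
    exact R_mem_G1 _ _ _
  · obtain rfl : g = om (R m t u v) := Units.ext (by rw [e, ← wordG_reeV, wordG_val])
    rw [SetLike.mem_coe, Subgroup.mem_comap, gmap_om, gmap_R]
    exact omR_mem_G1 _ _ _

theorem gmap_gmap (f g : K →+* K) (x : GL chevG2.Idx K) :
    gmap chevG2 f (gmap chevG2 g x) = gmap chevG2 (f.comp g) x := by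
  apply Units.ext
  ext a b
  simp only [gmap_apply, RingHom.comp_apply]

theorem gmap_one_field (x : GL chevG2.Idx K) : gmap chevG2 (RingHom.id K) x = x := by
  apply Units.ext
  ext a b
  rw [gmap_apply, RingHom.id_apply]

/-- The automorphisms of the field act on the group. -/
noncomputable def fieldAut : (K ≃+* K) →* MulAut (G1 K m) where
  toFun σ :=
    { toFun := fun g => ⟨gmap chevG2 σ.toRingHom g, gmap_mem_G1 _ g.2⟩
      invFun := fun g => ⟨gmap chevG2 σ.symm.toRingHom g, gmap_mem_G1 _ g.2⟩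
      left_inv := fun g => Subtype.ext (by
        show gmap chevG2 σ.symm.toRingHom (gmap chevG2 σ.toRingHom _) = _
        rw [gmap_gmap, RingEquiv.symm_toRingHom_comp_toRingHom, gmap_one_field])
      right_inv := fun g => Subtype.ext (by
        show gmap chevG2 σ.toRingHom (gmap chevG2 σ.symm.toRingHom _) = _
        rw [gmap_gmap, RingEquiv.toRingHom_comp_symm_toRingHom, gmap_one_field])
      map_mul' := fun g h => Subtype.ext (map_mul _ _ _) }
  map_one' := MulEquiv.ext fun g => Subtype.ext (gmap_one_field _)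
  map_mul' σ τ := MulEquiv.ext fun g => Subtype.ext (gmap_gmap σ.toRingHom τ.toRingHom _).symm

theorem fieldAut_rr (σ : K ≃+* K) (t u v : K) :
    fieldAut σ (rr (t, u, v) : G1 K m) = rr (σ t, σ u, σ v) :=
  Subtype.ext (gmap_R σ.toRingHom t u v)

theorem fieldAut_nn (σ : K ≃+* K) : fieldAut σ (nn : G1 K m) = nn :=
  Subtype.ext (gmap_nWord facts_chevG2 facts_chevG2 σ.toRingHom w0)

end Field

section Rigid

variable {K : Type u} [Field K] [Fintype K] [CharP K 3] {m : ℕ}
  (hK : Fintype.card K = 3 ^ (2 * m + 1))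

/-- An automorphism fixing `U` and the opposite subgroup. -/
def Norm (θ : MulAut (G1 K m)) : Prop :=
  (∀ x, θ x ∈ U1 K m ↔ x ∈ U1 K m) ∧
    ∀ x, nn * θ x * nn ∈ U1 K m ↔ nn * x * nn ∈ U1 K m

omit [Fintype K] in
theorem Norm.mul {θ φ : MulAut (G1 K m)} (h : Norm θ) (h' : Norm φ) : Norm (θ * φ) :=
  ⟨fun x => (h.1 (φ x)).trans (h'.1 x), fun x => (h.2 (φ x)).trans (h'.2 x)⟩

omit [Fintype K] in
theorem Norm.inv {θ : MulAut (G1 K m)} (h : Norm θ) : Norm θ⁻¹ := by
  have e : ∀ x, θ (θ⁻¹ x) = x := fun x => θ.apply_symm_apply x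
  refine ⟨fun x => ?_, fun x => ?_⟩
  · rw [← h.1, e]
  · rw [← h.2, e]

include hK

theorem fieldAut_mem_U1 (σ : K ≃+* K) {x : G1 K m} (hx : x ∈ U1 K m) :
    fieldAut σ x ∈ U1 K m := by
  obtain ⟨⟨t, u, v⟩, rfl⟩ := (mem_U1 hK).1 hx
  rw [fieldAut_rr]
  exact rr_mem_U1 hK _

theorem norm_fieldAut (σ : K ≃+* K) : Norm (fieldAut (m := m) σ) := by
  have h : ∀ x, fieldAut σ x ∈ U1 K m ↔ x ∈ U1 K m := fun x => by
    refine ⟨fun hx => ?_, fieldAut_mem_U1 hK σ⟩
    have := fieldAut_mem_U1 hK σ⁻¹ hx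
    rwa [map_inv, MulAut.inv_def, MulEquiv.symm_apply_apply] at this
  refine ⟨h, fun x => ?_⟩
  rw [← h (nn * x * nn), map_mul, map_mul, fieldAut_nn]

theorem tt_conj_mem_U1 (c : Kˣ) {x : G1 K m} : tt hK c * x * (tt hK c)⁻¹ ∈ U1 K m ↔ x ∈ U1 K m := by
  refine ⟨fun h => ?_, fun h => B1_conj_U1 hK (tt_mem_B1 hK c) h⟩
  have := B1_conj_U1 hK (inv_mem (tt_mem_B1 hK c)) h
  simpa [mul_assoc] using this

theorem rr_conj_mem_U1 (p : K × K × K) {x : G1 K m} : rr p * x * (rr p)⁻¹ ∈ U1 K m ↔ x ∈ U1 K m := by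
  rw [Subgroup.mul_mem_cancel_right _ (inv_mem (rr_mem_U1 hK p)),
    Subgroup.mul_mem_cancel_left _ (rr_mem_U1 hK p)]

theorem norm_conj_tt (c : Kˣ) : Norm (MulAut.conj (tt hK c) : MulAut (G1 K m)) := by
  refine ⟨fun x => tt_conj_mem_U1 hK c, fun x => ?_⟩
  rw [MulAut.conj_apply, ← tt_conj_mem_U1 hK c⁻¹ (x := nn * x * nn)]
  have e : nn * (tt hK c * x * (tt hK c)⁻¹) * nn =
      tt hK c⁻¹ * (nn * x * nn) * (tt hK c⁻¹)⁻¹ := by
    calc nn * (tt hK c * x * (tt hK c)⁻¹) * nn
        = nn * tt hK c * nn * (nn * x * nn) * (nn * tt hK c * nn)⁻¹ := by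
          rw [mul_inv_rev, mul_inv_rev, nn_inv hK]
          simp only [mul_assoc]
          rw [← mul_assoc nn nn, nn_sq hK, one_mul]
          simp only [← mul_assoc, mul_inv_cancel_right]
          simp only [mul_assoc]
          rw [← mul_assoc nn nn, nn_sq hK, one_mul]
      _ = _ := by rw [nn_conj_tt' hK]
  rw [e]

omit hK [Fintype K] in
/-- A nontrivial element of `U`. -/
def r1 : G1 K m := rr (0, 0, 1)

theorem r1_mem : (r1 : G1 K m) ∈ U1 K m := rr_mem_U1 hK _

omit hK [Fintype K] in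
theorem r1_ne : (r1 : G1 K m) ≠ 1 := fun h =>
  one_ne_zero (congrArg (fun p : K × K × K => p.2.2) (rr_eq_one h) :)

/-- The common normaliser of `U` and its opposite is the torus. -/
theorem exists_tt_of_norm {g : G1 K m} (h : Norm (MulAut.conj g)) : ∃ c, g = tt hK c := by
  have h1 := (h.1 r1).2 (r1_mem hK)
  rw [MulAut.conj_apply] at h1
  have hg1 : g ∈ B1 K m := by
    refine mem_B1_of_conj hK h1 ?_ (fun e => r1_ne (m := m) (K := K) ?_)
    · simpa [mul_assoc] using r1_mem hK (m := m)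
    · exact conj_eq_one_iff.1 e
  refine exists_tt_of_two hK hg1 ?_
  set x : G1 K m := nn * r1 * nn with hx
  have hx1 : nn * x * nn = r1 := by
    rw [hx]
    simp only [mul_assoc, nn_sq hK, mul_one]
    rw [← mul_assoc, nn_sq hK, one_mul]
  have h2 := (h.2 x).2 (hx1 ▸ r1_mem hK)
  rw [MulAut.conj_apply] at h2
  refine mem_B1_of_conj hK h2 ?_ (fun e => r1_ne (m := m) (K := K) ?_)
  · convert r1_mem hK (m := m) (K := K) using 1
    rw [← hx1, nn_inv hK]
    simp only [mul_inv_rev, nn_inv hK, mul_assoc, ← mul_assoc nn nn, nn_sq hK, one_mul,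
      inv_mul_cancel_left]
  · rw [← hx1]
    have e2 : g * x * g⁻¹ = 1 := by
      have := congrArg (fun z => nn * z * nn) e
      simpa [mul_assoc, nn_sq hK, ← mul_assoc (nn : G1 K m) nn] using this
    rw [conj_eq_one_iff.1 e2, mul_one, nn_sq hK]

theorem exists_conj_norm (θ : MulAut (G1 K m)) : ∃ g, Norm (MulAut.conj g * θ) := by
  haveI : Fact (Nat.Prime 3) := ⟨Nat.prime_three⟩
  obtain ⟨g, hg⟩ : ∃ g, ∀ x, x ∈ U1 K m ↔ g * θ x * g⁻¹ ∈ U1 K m := by
    let P : Sylow 3 (G1 K m) := Sylow.ofCard ((U1 K m).map θ.toMonoidHom) (by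
      rw [Nat.card_congr (Subgroup.equivMapOfInjective _ θ.toMonoidHom θ.injective).toEquiv.symm,
        card_U1_eq hK, factorization_three hK, ← pow_mul, mul_comm])
    obtain ⟨g, hg⟩ := MulAction.exists_smul_eq (G1 K m) P (U1s hK)
    refine ⟨g, fun x => ?_⟩
    have e : U1 K m = ((U1 K m).map θ.toMonoidHom).map (MulAut.conj g).toMonoidHom := by
      have := congrArg (fun S : Sylow 3 (G1 K m) => (S : Subgroup (G1 K m))) hg
      simp only [Sylow.coe_subgroup_smul, coe_U1s] at this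
      exact this.symm
    conv_rhs => rw [e]
    constructor
    · intro hx
      exact ⟨θ x, ⟨x, hx, rfl⟩, rfl⟩
    · rintro ⟨_, ⟨y, hy, rfl⟩, ey⟩
      rwa [← θ.injective ((MulAut.conj g).injective ey)]
  set φ := MulAut.conj g * θ with hφ
  have hU : ∀ x, φ x ∈ U1 K m ↔ x ∈ U1 K m := fun x => (hg x).symm
  rcases cases_cell hK (φ nn) with h | ⟨p, c, q, h⟩
  · exfalso
    have h1 : φ (nn * r1 * nn) ∈ U1 K m := by
      have := B1_conj_U1 hK h ((hU r1).2 (r1_mem hK))
      rwa [show (φ nn)⁻¹ = φ nn by rw [← map_inv, nn_inv hK], ← map_mul, ← map_mul] at this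
    exact nn_not_mem_B1 hK (mem_B1_of_conj hK ((hU _).1 h1)
      (by rw [nn_inv hK]
          simpa [mul_assoc, nn_sq hK, ← mul_assoc (nn : G1 K m) nn] using r1_mem hK (m := m) (K := K))
      (fun e => r1_ne (m := m) (K := K) (by
        have := congrArg (fun z => nn * z * nn) e
        simpa [mul_assoc, nn_sq hK, ← mul_assoc (nn : G1 K m) nn] using this)))
  refine ⟨(rr p)⁻¹ * g, ?_⟩
  rw [map_mul, mul_assoc, ← hφ]
  set ψ := MulAut.conj (rr p)⁻¹ * φ with hψ
  have hψU : ∀ x, ψ x ∈ U1 K m ↔ x ∈ U1 K m := fun x => by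
    rw [hψ, MulAut.mul_apply, MulAut.conj_apply, inv_inv, ← hU x, ← rr_conj_mem_U1 hK p,
      show rr p * ((rr p)⁻¹ * φ x * rr p) * (rr p)⁻¹ = φ x by group]
  obtain ⟨w, hw⟩ := (mem_U1 hK).1 (mul_mem (rr_mem_U1 hK q) (rr_mem_U1 hK p))
  have hn : ψ nn = tt hK c * nn * rr w := by
    rw [hψ, MulAut.mul_apply, MulAut.conj_apply, h, inv_inv, ← hw]
    group
  refine ⟨hψU, fun x => ?_⟩
  rw [← hψU (nn * x * nn), map_mul, map_mul]
  have ha : ψ nn * ψ x * ψ nn =
      (rr w)⁻¹ * (tt hK c * (nn * ψ x * nn) * (tt hK c)⁻¹) * rr w := by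
    have h1 : (ψ nn)⁻¹ = ψ nn := by rw [← map_inv, nn_inv hK]
    nth_rewrite 1 [← h1]
    rw [hn, mul_inv_rev, mul_inv_rev, nn_inv hK]
    calc (rr w)⁻¹ * (nn * (tt hK c)⁻¹) * ψ x * (tt hK c * nn * rr w)
        = (rr w)⁻¹ * ((nn * tt hK c⁻¹ * nn) * (nn * ψ x * nn) * (nn * tt hK c * nn)) * rr w := by
          simp only [mul_assoc, map_inv]
          rw [← mul_assoc nn nn, nn_sq hK, one_mul, ← mul_assoc nn nn, nn_sq hK, one_mul]
      _ = _ := by rw [nn_conj_tt' hK, nn_conj_tt' hK, inv_inv, map_inv]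
  rw [ha, Subgroup.mul_mem_cancel_right _ (rr_mem_U1 hK w),
    Subgroup.mul_mem_cancel_left _ (inv_mem (rr_mem_U1 hK w)), tt_conj_mem_U1 hK]

theorem rr_lam_cube (c : Kˣ) :
    (rr ((lam m c : K), 0, 0) : G1 K m) ^ 3 = rr (0, 0, -(c : K)) := by
  have h := tt_conj_rr hK c (1 : K) 0 0 (m := m)
  rw [mul_one, mul_zero, mul_zero] at h
  rw [← h, conj_pow, rr_cube hK, tt_conj_rr hK, tw_one]
  simp

theorem val_eq_cube (c : Kˣ) : (c : K) = tw m (lam m c : K) * (lam m c : K) ^ 2 := by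
  have h := rr_lam_cube hK c (m := m)
  rw [rr_cube hK] at h
  exact (neg_injective (congrArg (fun p : K × K × K => p.2.2) (rr_injective h) :)).symm

theorem exists_tw_ne (hm : 1 ≤ m) : ∃ t : K, tw m t ≠ t := by
  obtain ⟨c, hc⟩ := exists_free hK hm
  refine ⟨c, fun e => hc (mu_eq_one hK (Units.ext ?_))⟩
  rw [mu_val, ← tw_eq, e, div_self c.ne_zero, Units.val_one]

theorem mu_signs (u : Kˣ) : ∃ c : Kˣ, (mu m c : K) = u ∨ (mu m c : K) = -u := by
  classical
  set n := 3 ^ (2 * m + 1) / 2 with hn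
  have hq : Fintype.card Kˣ = 2 * n ∧ Odd n := by
    have h4 : ∀ k : ℕ, 3 ^ (2 * k + 1) % 4 = 3 := fun k => by
      induction k with
      | zero => rfl
      | succ k ih =>
        rw [show 2 * (k + 1) + 1 = 2 * k + 1 + 2 by ring, pow_add, Nat.mul_mod, ih]
        norm_num
    have := h4 m
    rw [Fintype.card_units, hK]
    exact ⟨by omega, Nat.odd_iff.2 (by omega)⟩
  let g : Kˣ →* Kˣ := mu (K := K) m * powMonoidHom n
  have hsign : ∀ c : Kˣ, c ^ n = 1 ∨ c ^ n = -1 := fun c => by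
    have h2 : ((c ^ n : Kˣ) : K) ^ 2 = 1 := by
      rw [← Units.val_pow_eq_pow_val, ← pow_mul, mul_comm, ← hq.1, pow_card_eq_one, Units.val_one]
    exact (sq_eq_one_iff.1 h2).imp (fun e => Units.ext e)
      fun e => Units.ext (by rw [e, Units.val_neg, Units.val_one])
  have hinj : Function.Injective g := by
    refine (injective_iff_map_eq_one g).2 fun c hc => ?_
    change mu m c * c ^ n = 1 at hc
    have hmu : mu m c * mu m c = 1 := by
      rw [eq_inv_of_mul_eq_one_left hc]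
      rcases hsign c with e | e <;> rw [e] <;> simp
    rw [← map_mul] at hmu
    have h4 := mu_eq_one hK hmu
    have hc4 : c ^ 4 = 1 := by rw [← pow_two] at h4; rw [← h4]; group
    have hcard : c ^ Fintype.card Kˣ = 1 := pow_card_eq_one
    have h2 : c ^ 2 = 1 := by
      obtain ⟨j, hj⟩ := hq.2
      rw [hq.1, hj, show 2 * (2 * j + 1) = 4 * j + 2 by ring, pow_add, pow_mul, hc4, one_pow,
        one_mul] at hcard
      exact hcard
    have h3 : (c : K) ^ 2 = 1 := by rw [← Units.val_pow_eq_pow_val, h2, Units.val_one]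
    rcases sq_eq_one_iff.1 h3 with e | e
    · exact Units.ext e
    · exfalso
      have hc1 : c = -1 := Units.ext (by rw [e, Units.val_neg, Units.val_one])
      have hm1 : mu m (-1 : Kˣ) = 1 := Units.ext (by
        rw [mu_val, Units.val_neg, Units.val_one, map_neg, map_one]; norm_num)
      rw [hc1, hm1, one_mul, hq.2.neg_one_pow] at hc
      exact neg_one_ne_one hc
  obtain ⟨c, rfl⟩ := (Finite.injective_iff_surjective.1 hinj) u
  refine ⟨c, ?_⟩
  rcases hsign c with e | e
  · left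
    show _ = ((mu m c * c ^ n : Kˣ) : K)
    rw [e, mul_one]
  · right
    show _ = -((mu m c * c ^ n : Kˣ) : K)
    rw [e]
    simp

/-- An automorphism fixing `U`, its opposite and the `t`-coordinate is trivial. -/
theorem rigid (hm : 1 ≤ m) {θ : MulAut (G1 K m)} (hθ : Norm θ)
    (ht : ∀ t : K, ∃ a b, θ (rr (t, 0, 0)) = rr (t, a, b)) : θ = 1 := by
  -- the torus is fixed
  have himg : ∀ c, ∃ d, θ (tt hK c) = tt hK d := fun c => by
    refine exists_tt_of_norm hK ?_
    have e : MulAut.conj (θ (tt hK c)) = θ * MulAut.conj (tt hK c) * θ⁻¹ := by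
      refine MulEquiv.ext fun x => ?_
      simp [MulAut.conj_apply, MulAut.mul_apply, map_mul]
    rw [e]
    exact (hθ.mul (norm_conj_tt hK c)).mul hθ.inv
  choose A B hAB using ht
  have hfix : ∀ c, θ (tt hK c) = tt hK c := fun c => by
    obtain ⟨d, hd⟩ := himg c
    have e := congrArg θ (tt_conj_rr hK c 1 0 0)
    rw [map_mul, map_mul, map_inv, hd, hAB, tt_conj_rr hK, mul_one, mul_zero, mul_zero, hAB] at e
    have h1 := congrArg Prod.fst (rr_injective e)
    simp only [mul_one] at h1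
    rw [hd, lam_injective hK (Units.ext h1)]
  have heq : ∀ (c : Kˣ) (x : G1 K m), θ (tt hK c * x * (tt hK c)⁻¹) =
      tt hK c * θ x * (tt hK c)⁻¹ := fun c x => by rw [map_mul, map_mul, map_inv, hfix]
  -- `v` is fixed
  have hv : ∀ v, θ (rr (0, 0, v)) = rr (0, 0, v) := by
    intro v
    by_cases hv : v = 0
    · rw [hv, rr_zero, map_one]
    let c : Kˣ := -Units.mk0 v hv
    have e : (rr ((lam m c : K), 0, 0) : G1 K m) ^ 3 = rr (0, 0, v) := by
      rw [rr_lam_cube hK]
      simp [c]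
    rw [← e, map_pow, hAB, rr_cube hK, rr_cube hK]
  -- `u` stays in its coordinate
  have hu : ∀ u, ∃ u', θ (rr (0, u, 0)) = rr (0, u', 0) := by
    intro u
    obtain ⟨⟨t', u', v'⟩, e⟩ := (mem_U1 hK).1 ((hθ.1 _).2 (rr_mem_U1 hK ((0, u, 0) : K × K × K)))
    have h := heq (-1) (rr (0, u, 0))
    rw [tt_neg_one, invJ_conj_rr hK, neg_zero, e, invJ_conj_rr hK] at h
    have h' := rr_injective h
    simp only [Prod.mk.injEq, true_and] at h'
    have e1 : ∀ x : K, x = -x → x = 0 := fun x hx => by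
      linear_combination -hx + x * three_eq (K := K)
    exact ⟨u', by rw [e, e1 _ h'.1, e1 _ h'.2]⟩
  choose P hP using hu
  have hP_add : ∀ u u', P (u + u') = P u + P u' := by
    intro u u'
    have e : (rr (0, u, 0) : G1 K m) * rr (0, u', 0) = rr (0, u + u', 0) := by
      rw [rr_mul hK]
      simp [tw_zero]
    have e' := congrArg θ e
    rw [map_mul, hP, hP, hP, rr_mul hK] at e'
    have h := rr_injective e'
    simp [tw_zero] at h
    exact h.symm
  have hP_mu : ∀ (c : Kˣ) u, P ((mu m c : K) * u) = (mu m c : K) * P u := by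
    intro c u
    have e := heq c (rr (0, u, 0))
    rw [tt_conj_rr hK, hP, tt_conj_rr hK, mul_zero, mul_zero, hP] at e
    simpa using rr_injective e
  have hgen : ∀ t u v, θ (rr (t, u, v)) = rr (t, A t + P u, B t + v) := by
    intro t u v
    rw [rr_split hK, map_mul, map_mul, hAB, hP, hv, rr_mul hK, rr_mul hK]
    simp [tw_zero]
  -- products
  have hprod : ∀ t t', A t + A t' - tw m t' * t = A (t + t') + P (-(tw m t' * t)) ∧
      B t + B t' - tw m t' * t ^ 2 - t' * (A t - tw m t' * t) =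
        B (t + t') + (-(tw m t' * t ^ 2) + t' * (tw m t' * t)) := by
    intro t t'
    have e := congrArg θ (rr_mul hK (m := m) t 0 0 t' 0 0)
    rw [map_mul, hAB, hAB, hgen, rr_mul hK] at e
    have h := rr_injective e
    simp at h
    exact ⟨by linear_combination h.1, by linear_combination h.2⟩
  have hP0 : P 0 = 0 := by
    have := hP_add 0 0
    rw [add_zero] at this
    exact left_eq_add.1 this
  have hP_neg : ∀ u, P (-u) = -P u := fun u => by
    have := hP_add u (-u)
    rw [add_neg_cancel, hP0] at this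
    exact eq_neg_of_add_eq_zero_right this.symm
  have hP1 : ∀ u, P u = u := by
    obtain ⟨w, hw⟩ := exists_tw_ne hK hm
    have hfixed : P (tw m w - w) = tw m w - w := by
      have h1 := (hprod 1 w).1
      have h2 := (hprod w 1).1
      rw [add_comm w 1, tw_one] at h2
      have h3 : P (tw m w - w) = P (tw m w) + P (-w) := by rw [← hP_add, sub_eq_add_neg]
      rw [hP_neg] at h1 h2 h3
      rw [mul_one] at h1
      rw [one_mul] at h2
      rw [h3]
      linear_combination h1 - h2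
    intro u
    by_cases hu : u = 0
    · rw [hu, hP0]
    have hd : tw m w - w ≠ 0 := sub_ne_zero.2 hw
    obtain ⟨c, hc | hc⟩ := mu_signs hK (Units.mk0 (u / (tw m w - w)) (div_ne_zero hu hd))
    · have := hP_mu c (tw m w - w)
      rwa [hfixed, hc, Units.val_mk0, div_mul_cancel₀ _ hd] at this
    · have := hP_mu c (tw m w - w)
      rw [hfixed, hc, Units.val_mk0, neg_mul, div_mul_cancel₀ _ hd, hP_neg] at this
      exact neg_injective this
  have hA_add : ∀ t t', A (t + t') = A t + A t' := fun t t' => by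
    have := (hprod t t').1
    rw [hP1] at this
    linear_combination -this
  have hA : ∀ t, A t = 0 := fun t => by
    have e := heq (-1) (rr (t, 0, 0))
    rw [tt_neg_one, invJ_conj_rr hK, neg_zero, hAB, hAB, invJ_conj_rr hK] at e
    have h := congrArg (fun p : K × K × K => p.2.1) (rr_injective e)
    simp only at h
    have h0 := hA_add t (-t)
    rw [add_neg_cancel, h] at h0
    have h00 : A 0 = 0 := by
      have := hA_add 0 0
      rw [add_zero] at this
      exact left_eq_add.1 this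
    linear_combination h0 - h00 + A t * three_eq (K := K)
  have hB_add : ∀ t t', B (t + t') = B t + B t' := fun t t' => by
    have := (hprod t t').2
    rw [hA] at this
    linear_combination -this
  have hB_cube : ∀ x : K, x ≠ 0 → B x = B 1 * (tw m x * x ^ 2) := by
    intro x hx
    obtain ⟨c, hc⟩ := (lam_bijective hK (m := m)).2 (Units.mk0 x hx)
    have hx' : x = (lam m c : K) := by rw [hc, Units.val_mk0]
    have hcx : (c : K) = tw m x * x ^ 2 := by rw [hx']; exact val_eq_cube hK c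
    have e := heq c (rr (1, 0, 0))
    rw [tt_conj_rr hK, mul_one, mul_zero, mul_zero, hAB, hAB, tt_conj_rr hK, ← hx'] at e
    have h := congrArg (fun p : K × K × K => p.2.2) (rr_injective e)
    simp only at h
    rw [h, hcx]
    ring
  have hB : ∀ t, B t = 0 := by
    have hB1 : B 1 = 0 := by
      obtain ⟨w, hw⟩ := exists_tw_ne hK hm
      have hw0 : w ≠ 0 := fun e => hw (by rw [e, tw_zero])
      have hw1 : w ≠ 1 := fun e => hw (by rw [e, tw_one])
      have hw2 : w + 1 ≠ 0 := fun e => hw (by rw [eq_neg_of_add_eq_zero_left e, tw_neg, tw_one])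
      have e := hB_add w 1
      rw [hB_cube _ hw2, hB_cube _ hw0, tw_add, tw_one] at e
      have e2 : B 1 * ((1 - w) * (tw m w - w)) = 0 := by
        linear_combination e - B 1 * (tw m w * w + w) * three_eq (K := K)
      exact (mul_eq_zero.1 e2).resolve_right
        (mul_ne_zero (sub_ne_zero.2 (Ne.symm hw1)) (sub_ne_zero.2 hw))
    intro t
    by_cases ht0 : t = 0
    · subst ht0
      have := hB_add 0 0
      rw [add_zero] at this
      exact left_eq_add.1 this
    · rw [hB_cube t ht0, hB1, zero_mul]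
  have hU : ∀ p, θ (rr p) = rr p := by
    rintro ⟨t, u, v⟩
    rw [hgen, hA, hB, hP1, zero_add, zero_add]
  -- the element exchanging the points
  have hn : θ nn = nn := by
    have hN : Norm (MulAut.conj (nn * θ nn) : MulAut (G1 K m)) := by
      have ha : (θ nn)⁻¹ = θ nn := by rw [← map_inv, nn_inv hK]
      have key : ∀ x, θ nn * θ x * θ nn = θ (nn * x * nn) := fun x => by rw [map_mul, map_mul]
      have hnn : ∀ y : G1 K m, nn * (nn * y * nn) * nn = y := fun y => by
        simp only [mul_assoc, nn_sq hK, mul_one]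
        rw [← mul_assoc, nn_sq hK, one_mul]
      refine ⟨fun x => ?_, fun x => ?_⟩ <;>
        obtain ⟨y, rfl⟩ := θ.surjective x <;>
        rw [MulAut.conj_apply, mul_inv_rev, ha, nn_inv hK,
          show nn * θ nn * θ y * (θ nn * nn) = nn * (θ nn * θ y * θ nn) * nn by group, key]
      · rw [hθ.2, hθ.1, hnn]
      · rw [hnn, hθ.1, hθ.2]
    obtain ⟨h, hh⟩ := exists_tt_of_norm hK hN
    have hθn : θ nn = nn * tt hK h := by
      rw [← hh, ← mul_assoc, nn_sq hK, one_mul]
    obtain ⟨p, c, q, hpq⟩ : ∃ p c q, (nn : G1 K m) * rr (0, 0, 1) * nn =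
        rr p * tt hK c * nn * rr q := by
      refine (cases_cell hK _).resolve_left fun hb => ?_
      exact one_ne_zero (congrArg (fun p : K × K × K => p.2.2) (nn_rr_nn_mem_B1 hK hb) :)
    have e1 := congrArg θ hpq
    rw [map_mul, map_mul, map_mul, map_mul, map_mul, hU, hU, hU, hfix, hθn] at e1
    obtain ⟨p', hp'⟩ := (mem_U1 hK).1
      (B1_conj_U1 hK (tt_mem_B1 hK h) (rr_mem_U1 hK ((0, 0, 1) : K × K × K)))
    obtain ⟨p₂, hp₂⟩ := (mem_U1 hK).1
      (B1_conj_U1 hK (tt_mem_B1 hK h⁻¹) (rr_mem_U1 hK p))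
    obtain ⟨q₂, hq₂⟩ := (mem_U1 hK).1
      (B1_conj_U1 hK (tt_mem_B1 hK h⁻¹) (rr_mem_U1 hK q))
    have e2 : nn * tt hK h * rr (0, 0, 1) * (nn * tt hK h) = nn * rr p' * nn := by
      rw [← hp']
      have : tt hK h * nn * tt hK h = nn := by
        rw [mul_assoc, nn_tt hK, ← mul_assoc, ← map_mul, mul_inv_cancel, map_one, one_mul]
      calc nn * tt hK h * rr (0, 0, 1) * (nn * tt hK h)
          = nn * (tt hK h * rr (0, 0, 1) * (tt hK h)⁻¹) * (tt hK h * nn * tt hK h) := by group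
        _ = _ := by rw [this]
    have e3 : nn * rr p' * nn = rr p₂ * tt hK (h⁻¹ * c * h⁻¹) * nn * rr q₂ := by
      rw [← hp', ← hp₂, ← hq₂]
      calc nn * (tt hK h * rr (0, 0, 1) * (tt hK h)⁻¹) * nn
          = (nn * tt hK h * nn) * (nn * rr (0, 0, 1) * nn) * (nn * tt hK h * nn)⁻¹ := by
            rw [mul_inv_rev, mul_inv_rev, nn_inv hK]
            simp only [mul_assoc]
            rw [← mul_assoc nn nn, nn_sq hK, one_mul, ← mul_assoc nn nn, nn_sq hK, one_mul]
        _ = tt hK h⁻¹ * (rr p * tt hK c * nn * rr q) * (tt hK h⁻¹)⁻¹ := by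
            rw [nn_conj_tt' hK, hpq]
        _ = (tt hK h⁻¹ * rr p * (tt hK h⁻¹)⁻¹) * (tt hK h⁻¹ * tt hK c) * (nn * (tt hK h⁻¹)⁻¹) *
              (tt hK h⁻¹ * rr q * (tt hK h⁻¹)⁻¹) := by group
        _ = _ := by
            rw [← map_inv (tt hK) h⁻¹, inv_inv, nn_tt hK, map_mul, map_mul]
            simp only [mul_assoc]
    have e4 : rr p * tt hK c * (nn * tt hK h) * rr q = rr p * tt hK (c * h⁻¹) * nn * rr q := by
      rw [nn_tt hK, map_mul]
      simp only [mul_assoc]
    rw [e4, e2, e3] at e1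
    obtain ⟨-, hc, -⟩ := cell_unique hK e1
    have h1 : h = 1 := by
      rw [mul_comm h⁻¹ c, mul_assoc, mul_right_inj] at hc
      exact inv_eq_one.1 (mul_eq_right.1 hc)
    rw [hθn, h1, map_one, mul_one]
  refine MulEquiv.ext fun g => ?_
  show θ g = g
  rcases cases_cell hK g with h | ⟨p, c, q, rfl⟩
  · obtain ⟨p, c, rfl⟩ := (mem_B1 hK).1 h
    rw [map_mul, hU, hfix]
  · simp only [map_mul, hU, hfix, hn]

theorem exists_decomp (hm : 1 ≤ m) (θ : MulAut (G1 K m)) :
    ∃ g σ, θ = MulAut.conj g * fieldAut σ := by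
  obtain ⟨g, hg⟩ := exists_conj_norm hK θ
  set φ := MulAut.conj g * θ with hφ
  have hex : ∀ p, ∃ p', φ (rr p) = rr p' := fun p => (mem_U1 hK).1 ((hg.1 _).2 (rr_mem_U1 hK p))
  choose Θ hΘ using hex
  have hfst_mul : ∀ p q r : K × K × K, (rr p : G1 K m) * rr q = rr r → r.1 = p.1 + q.1 := by
    rintro ⟨t, u, v⟩ ⟨t', u', v'⟩ r e
    rw [rr_mul hK] at e
    rw [← rr_injective e]
  have hfst : ∀ t u v, (Θ (t, u, v)).1 = (Θ (t, 0, 0)).1 := by
    intro t u v
    obtain ⟨w, hw⟩ := (mem_U1 hK).1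
      (mul_mem (rr_mem_U1 hK (m := m) ((0, u, 0) : K × K × K)) (rr_mem_U1 hK ((0, 0, v) : K × K × K)))
    have hw0 : w.1 = 0 := by simpa using hfst_mul _ _ _ hw
    have h0 : (Θ w).1 = 0 := by
      rw [← rr_cube_eq_one hK (m := m), ← hΘ, ← map_pow, (rr_cube_eq_one hK).2 hw0, map_one]
    have e : φ (rr (t, u, v)) = φ (rr (t, 0, 0)) * φ (rr w) := by
      rw [← map_mul, ← hw, ← mul_assoc, ← rr_split hK]
    rw [hΘ, hΘ, hΘ] at e
    rw [hfst_mul _ _ _ e.symm, h0, add_zero]
  let f : K → K := fun t => (Θ (t, 0, 0)).1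
  have hadd : ∀ t t', f (t + t') = f t + f t' := by
    intro t t'
    have e := congrArg φ (rr_mul hK (m := m) t 0 0 t' 0 0)
    rw [map_mul, hΘ, hΘ, hΘ] at e
    have := hfst_mul _ _ _ e
    rwa [hfst] at this
  have hker : ∀ t, f t = 0 → t = 0 := fun t h => by
    have e : φ ((rr (t, 0, 0)) ^ 3) = φ 1 := by
      rw [map_pow, hΘ, map_one]
      exact (rr_cube_eq_one hK).2 h
    exact (rr_cube_eq_one hK (m := m) (p := (t, 0, 0))).1 (φ.injective e)
  have himg : ∀ c, ∃ d, φ (tt hK c) = tt hK d := fun c => by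
    refine exists_tt_of_norm hK ?_
    have e : MulAut.conj (φ (tt hK c)) = φ * MulAut.conj (tt hK c) * φ⁻¹ := by
      refine MulEquiv.ext fun x => ?_
      simp [MulAut.conj_apply, MulAut.mul_apply, map_mul]
    rw [e]
    exact (hg.mul (norm_conj_tt hK c)).mul hg.inv
  choose δ hδ using himg
  have hsemi : ∀ (c : Kˣ) t, f ((lam m c : K) * t) = (lam m (δ c) : K) * f t := by
    intro c t
    have e := congrArg φ (tt_conj_rr hK c t 0 0)
    rw [map_mul, map_mul, map_inv, hδ, hΘ, hΘ] at e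
    obtain ⟨a, b, b', d⟩ : ∃ a b b', Θ (t, 0, 0) = (a, b, b') := ⟨_, _, _, rfl⟩
    simp only [f]
    rw [mul_zero, mul_zero] at e
    rw [d, tt_conj_rr hK] at e
    rw [← rr_injective e, d]
  have ha : f 1 ≠ 0 := fun h => one_ne_zero (hker 1 h)
  let s : K → K := fun t => f t / f 1
  have hs1 : s 1 = 1 := div_self ha
  have hsmul : ∀ x y, s (x * y) = s x * s y := by
    intro x y
    have hf0 : f 0 = 0 := by
      have := hadd 0 0
      rw [add_zero] at this
      exact left_eq_add.1 this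
    by_cases hx : x = 0
    · simp [s, hx, hf0]
    obtain ⟨c, hc⟩ := (lam_bijective hK (m := m)).2 (Units.mk0 x hx)
    have h1 := hsemi c 1
    have h2 := hsemi c y
    rw [hc, Units.val_mk0, mul_one] at h1
    rw [hc, Units.val_mk0] at h2
    simp only [s, h1, h2]
    field_simp
  have hsadd : ∀ x y, s (x + y) = s x + s y := fun x y => by simp only [s, hadd, add_div]
  let sh : K →+* K :=
    { toFun := s, map_one' := hs1, map_mul' := hsmul, map_zero' := (by
        have := hsadd 0 0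
        rw [add_zero] at this
        exact left_eq_add.1 this), map_add' := hsadd }
  let σ : K ≃+* K := RingEquiv.ofBijective sh
    ⟨sh.injective, Finite.injective_iff_surjective.1 sh.injective⟩
  obtain ⟨c, hc⟩ := (lam_bijective hK (m := m)).2 (Units.mk0 (f 1)⁻¹ (inv_ne_zero ha))
  have key : (fieldAut (m := m) σ)⁻¹ * (MulAut.conj (tt hK c) * φ) = 1 := by
    refine rigid hK hm ((norm_fieldAut hK σ).inv.mul ((norm_conj_tt hK c).mul hg)) fun t => ?_
    obtain ⟨a, b, b', d⟩ : ∃ a b b', Θ (t, 0, 0) = (a, b, b') := ⟨_, _, _, rfl⟩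
    refine ⟨σ.symm ((mu m c : K) * b), σ.symm ((c : K) * b'), ?_⟩
    rw [MulAut.mul_apply, MulAut.mul_apply, hΘ, d, MulAut.conj_apply, tt_conj_rr hK, ← map_inv,
      fieldAut_rr]
    have hσ : σ t = (lam m c : K) * a := by
      show f t / f 1 = _
      rw [hc, Units.val_mk0, div_eq_inv_mul]
      simp only [f, d]
    rw [← hσ]
    congr 2
    exact σ.symm_apply_apply t
  refine ⟨g⁻¹ * (tt hK c)⁻¹, σ, ?_⟩
  rw [inv_mul_eq_one] at key
  rw [map_mul, map_inv, map_inv, key, hφ]
  group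

theorem fieldAut_inner {σ : K ≃+* K} {g : G1 K m}
    (h : fieldAut σ = MulAut.conj g) : σ = RingEquiv.refl K := by
  obtain ⟨c, rfl⟩ := exists_tt_of_norm hK (h ▸ norm_fieldAut hK σ)
  have e : ∀ t : K, σ t = (lam m c : K) * t := fun t => by
    have := congrArg (fun θ : MulAut (G1 K m) => θ (rr (t, 0, 0))) h
    simp only [fieldAut_rr, MulAut.conj_apply, tt_conj_rr hK] at this
    exact congrArg Prod.fst (rr_injective this)
  have h1 := e 1
  rw [map_one, mul_one] at h1
  refine RingEquiv.ext fun t => ?_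
  rw [e, ← h1, one_mul]
  rfl

theorem card_ringAut : Nat.card (K ≃+* K) = 2 * m + 1 := by
  haveI : Fact (Nat.Prime 3) := ⟨Nat.prime_three⟩
  letI : Algebra (ZMod 3) K := ZMod.algebra K 3
  have hn : Module.finrank (ZMod 3) K = 2 * m + 1 := by
    have := Module.natCard_eq_pow_finrank (K := ZMod 3) (V := K)
    rw [Nat.card_zmod, Nat.card_eq_fintype_card, hK] at this
    exact (Nat.pow_right_injective (by norm_num) this).symm
  have e : (K ≃ₐ[ZMod 3] K) ≃ (K ≃+* K) :=
    { toFun := fun σ => σ.toRingEquiv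
      invFun := fun σ => AlgEquiv.ofRingEquiv (f := σ) (fun c => by
        exact RingHom.congr_fun
          (Subsingleton.elim (σ.toRingHom.comp (algebraMap (ZMod 3) K)) (algebraMap (ZMod 3) K)) c)
      left_inv := fun σ => AlgEquiv.ext fun x => rfl
      right_inv := fun σ => RingEquiv.ext fun x => rfl }
  rw [← Nat.card_congr e, ← hn]
  exact IsGalois.card_aut_eq_finrank (ZMod 3) K

theorem card_out (hm : 1 ≤ m) : Nat.card (Cfsg.Out (G1 K m)) = 2 * m + 1 := by
  rw [← card_ringAut hK]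
  refine (Nat.card_eq_of_bijective
    (fun σ : K ≃+* K => (QuotientGroup.mk (fieldAut σ) : Cfsg.Out (G1 K m))) ⟨?_, ?_⟩).symm
  · intro φ ψ e
    obtain ⟨g, hg⟩ := QuotientGroup.eq.mp e
    rw [← map_inv, ← map_mul] at hg
    exact inv_mul_eq_one.mp (fieldAut_inner hK hg.symm)
  · intro x
    obtain ⟨α, rfl⟩ := QuotientGroup.mk_surjective x
    obtain ⟨g, φ, rfl⟩ := exists_decomp hK hm α
    refine ⟨φ, QuotientGroup.eq.mpr ?_⟩
    rw [← mul_assoc]
    have : (fieldAut (m := m) φ)⁻¹ * MulAut.conj g * fieldAut φ =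
        MulAut.conj ((fieldAut (m := m) φ)⁻¹ g) := by
      refine MulEquiv.ext fun y => ?_
      simp only [MulAut.mul_apply, MulAut.conj_apply, map_mul, map_inv]
      rw [← MulAut.mul_apply, inv_mul_cancel, MulAut.one_apply]
    exact ⟨_, this.symm⟩

end Rigid

end Ree

end Cfsg.Agent.Chev
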