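import Cfsg.Agent.Chev.Ree.Point
import Cfsg.Agent.Chev.Ree.Arith
import Cfsg.Agent.Classical.Dickson2.Tools

/-!
The points of `²G₂(q)` and the single class of involutions.
-/

set_option autoImplicit false
set_option maxRecDepth 100000
set_option maxHeartbeats 1000000

namespace Cfsg.Agent.Chev

open Cfsg.Lie
open scoped MatrixGroups

universe u

namespace Ree

variable {K : Type u} [Field K] [Fintype K] [CharP K 3] {m : ℕ}
  (hK : Fintype.card K = 3 ^ (2 * m + 1))
include hK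

/-- The points: the cosets of `B`. -/
theorem smul_mk (g h : G1 K m) :
    g • (QuotientGroup.mk h : G1 K m ⧸ B1 K m) = QuotientGroup.mk (g * h) := rfl

theorem mk_eq {g h : G1 K m} :
    (QuotientGroup.mk g : G1 K m ⧸ B1 K m) = QuotientGroup.mk h ↔ g⁻¹ * h ∈ B1 K m :=
  QuotientGroup.eq

theorem exists_pair_to {x y : G1 K m ⧸ B1 K m} (h : x ≠ y) :
    ∃ g, QuotientGroup.mk g = x ∧ QuotientGroup.mk (g * nn) = y := by
  induction x using QuotientGroup.induction_on with | _ a =>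
  induction y using QuotientGroup.induction_on with | _ b =>
  rcases cases_point hK (a⁻¹ * b) with h1 | ⟨p, b', hb', e⟩
  · exact absurd ((mk_eq hK).2 h1) h
  refine ⟨a * rr p, (mk_eq hK).2 ?_, (mk_eq hK).2 ?_⟩
  · rw [mul_inv_rev, inv_mul_cancel_right]
    exact inv_mem (rr_mem_B1 hK p)
  · have : (a * rr p * nn)⁻¹ * b = b' := by
      rw [mul_inv_rev, mul_inv_rev, mul_assoc, mul_assoc, e]
      group
    rwa [this]

/-- The points in coordinates. -/
theorem points_bij : Function.Bijective (fun o : Option (K × K × K) =>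
    (QuotientGroup.mk (o.elim 1 fun p => rr p * nn) : G1 K m ⧸ B1 K m)) := by
  constructor
  · rintro (_ | p) (_ | q) e <;> have e' := (mk_eq hK).1 e
    · rfl
    · exfalso
      simp only [Option.elim, inv_one, one_mul] at e'
      exact nn_not_mem_B1 hK ((Subgroup.mul_mem_cancel_left _ (rr_mem_B1 hK q)).1 e')
    · exfalso
      simp only [Option.elim, mul_one] at e'
      exact nn_not_mem_B1 hK ((Subgroup.mul_mem_cancel_left _ (rr_mem_B1 hK p)).1 (inv_mem_iff.1 e'))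
    · exact congrArg some (point_unique hK e')
  · intro x
    induction x using QuotientGroup.induction_on with | _ g =>
    rcases cases_point hK g with h | ⟨p, b, hb, e⟩
    · exact ⟨none, (mk_eq hK).2 (by simpa using h)⟩
    · refine ⟨some p, (mk_eq hK).2 ?_⟩
      simp only [Option.elim, e, inv_mul_cancel_left]
      exact hb

theorem mk_one_ne : (QuotientGroup.mk 1 : G1 K m ⧸ B1 K m) ≠ QuotientGroup.mk nn := fun e =>
  nn_not_mem_B1 hK (by simpa using (mk_eq hK).1 e)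

theorem card_centralizer_invJ :
    Nat.card (Subgroup.centralizer {(invJ : G1 K m)}) =
      3 ^ (2 * m + 1) * ((3 ^ (2 * m + 1) - 1) * (3 ^ (2 * m + 1) + 1)) := by
  obtain ⟨e⟩ := centralizer_iso hK
  have h := Classical.Dickson2.card_pg (F := K)
  have h8 := pow_odd_mod m
  have hg : Nat.gcd 2 (Fintype.card K - 1) = 2 := by
    rw [hK]
    exact Nat.gcd_eq_left (by omega)
  rw [hg, hK, sq_sub_one] at h
  rw [Nat.card_congr e.toEquiv, Nat.card_prod, show Nat.card (Multiplicative (ZMod 2)) = 2 by simp, h]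

/-- Elements whose conjugate of `invJ` lies outside `B` in the torus normaliser. -/
theorem card_moved_le :
    ((3 ^ (2 * m + 1)) ^ 3 - 3 ^ (2 * m + 1)) * (3 ^ (2 * m + 1) - 1) ≤
      Nat.card {g : G1 K m // ∃ d, g⁻¹ * invJ * g = nn * tt hK d} := by
  classical
  let S : Set (K × K × K) := {p | ¬ (p.1 = 0 ∧ p.2.2 = 0)}
  let pt : K × K × K → G1 K m ⧸ B1 K m := fun p => QuotientGroup.mk (rr p * nn)
  have hmove : ∀ p : S, (invJ : G1 K m) • pt p.1 ≠ pt p.1 := by
    rintro ⟨⟨t, u, v⟩, hp⟩ e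
    have e1 : (invJ : G1 K m) • pt (t, u, v) = pt (-t, u, -v) := by
      simp only [pt]
      rw [smul_mk hK]
      refine (mk_eq hK).2 ?_
      rw [show (invJ : G1 K m) * (rr (t, u, v) * nn) = invJ * rr (t, u, v) * (invJ : G1 K m)⁻¹ * (invJ * nn) by
        group, invJ_conj_rr hK, mul_inv_rev, mul_inv_rev, mul_assoc, inv_mul_cancel_left,
        nn_inv hK, ← tt_neg_one hK, ← map_inv, mul_assoc,
        ← mul_assoc, nn_conj_tt' hK]
      exact tt_mem_B1 hK _
    rw [e1] at e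
    have h := point_unique hK ((mk_eq hK).1 e.symm)
    simp only [Prod.mk.injEq, true_and] at h
    have e0 : ∀ x : K, x = -x → x = 0 := fun x hx => by
      linear_combination -hx + x * three_eq (K := K)
    exact hp ⟨e0 _ h.1, e0 _ h.2⟩
  have hpair : ∀ p : S, ∃ g, QuotientGroup.mk g = pt p.1 ∧
      QuotientGroup.mk (g * nn) = (invJ : G1 K m) • pt p.1 := fun p => exists_pair_to hK (hmove p).symm
  choose gp h1 h2 using hpair
  have hQ : ∀ (p : S) (c : Kˣ), ∃ d,
      (gp p * tt hK c)⁻¹ * invJ * (gp p * tt hK c) = nn * tt hK d := by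
    intro p c
    set g := gp p * tt hK c with hg
    have a1 : (QuotientGroup.mk g : G1 K m ⧸ B1 K m) = pt p.1 := by
      rw [← h1 p]
      exact (mk_eq hK).2 (by rw [hg, mul_inv_rev, inv_mul_cancel_right]; exact inv_mem (tt_mem_B1 hK c))
    have a2 : (QuotientGroup.mk (g * nn) : G1 K m ⧸ B1 K m) = (invJ : G1 K m) • pt p.1 := by
      rw [← h2 p]
      refine (mk_eq hK).2 ?_
      rw [show (g * nn)⁻¹ * (gp p * nn) = nn⁻¹ * (tt hK c)⁻¹ * nn by rw [hg]; group, nn_inv hK,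
        ← map_inv, nn_conj_tt' hK]
      exact tt_mem_B1 hK _
    have b1 : (g * nn)⁻¹ * (invJ * g) ∈ B1 K m := by
      refine (mk_eq hK).1 ?_
      rw [a2, ← a1]
      rfl
    have b2 : g⁻¹ * (invJ * (g * nn)) ∈ B1 K m := by
      refine (mk_eq hK).1 ?_
      rw [a1, ← smul_mk hK, a2, smul_smul, invJ_sq, one_smul]
    obtain ⟨d, hd⟩ := exists_tt_of_two hK (g := nn * (g⁻¹ * invJ * g))
      (by rw [mul_inv_rev, nn_inv hK] at b1; simpa [mul_assoc] using b1)
      (by rw [nn_inv hK, ← mul_assoc nn nn, nn_sq hK, one_mul]; simpa [mul_assoc] using b2)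
    exact ⟨d, by rw [← hd, ← mul_assoc nn nn, nn_sq hK, one_mul]⟩
  have hcard : Nat.card (S × Kˣ) =
      ((3 ^ (2 * m + 1)) ^ 3 - 3 ^ (2 * m + 1)) * (3 ^ (2 * m + 1) - 1) := by
    have e : Nat.card {p : K × K × K // p.1 = 0 ∧ p.2.2 = 0} = 3 ^ (2 * m + 1) := by
      rw [← hK, ← Nat.card_eq_fintype_card]
      exact Nat.card_eq_of_bijective (fun p => p.1.2.1) ⟨fun p q h => Subtype.ext (Prod.ext
        (p.2.1.trans q.2.1.symm) (Prod.ext h (p.2.2.trans q.2.2.symm))),
        fun u => ⟨⟨(0, u, 0), rfl, rfl⟩, rfl⟩⟩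
    rw [Nat.card_eq_fintype_card] at e
    rw [Nat.card_prod, Nat.card_units, Nat.card_eq_fintype_card, Nat.card_eq_fintype_card, hK]
    congr 1
    rw [Fintype.card_congr (Equiv.subtypeEquivRight (fun p => Iff.rfl) : ↥S ≃ {p : K × K × K //
      ¬ (p.1 = 0 ∧ p.2.2 = 0)}), Fintype.card_subtype_compl, e, Fintype.card_prod,
      Fintype.card_prod, hK]
    ring_nf
  rw [← hcard]
  refine Nat.card_le_card_of_injective (fun pc => ⟨gp pc.1 * tt hK pc.2, hQ pc.1 pc.2⟩) ?_
  rintro ⟨p, c⟩ ⟨p', c'⟩ e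
  have e' : gp p * tt hK c = gp p' * tt hK c' := congrArg Subtype.val e
  have : pt p.1 = pt p'.1 := by
    rw [← h1 p, ← h1 p']
    refine (mk_eq hK).2 ?_
    rw [show (gp p)⁻¹ * gp p' = tt hK c * (tt hK c')⁻¹ by
      rw [← mul_inv_eq_iff_eq_mul.2 e']; group]
    exact mul_mem (tt_mem_B1 hK c) (inv_mem (tt_mem_B1 hK c'))
  obtain rfl : p = p' := Subtype.ext (point_unique hK ((mk_eq hK).1 this))
  rw [tt_injective hK (mul_left_cancel e')]

theorem exists_conj_nn_tt (hm : 1 ≤ m) (d : Kˣ) :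
    ∃ g : G1 K m, g⁻¹ * invJ * g = nn * tt hK d := by
  classical
  by_contra hd
  push Not at hd
  have hle := card_moved_le hK (m := m)
  let C := Subgroup.centralizer {(invJ : G1 K m)}
  have hsec : ∀ d' : {d' : Kˣ // d' ≠ d}, ∃ g0 : G1 K m,
      (∃ g : G1 K m, g⁻¹ * invJ * g = nn * tt hK d'.1) → g0⁻¹ * invJ * g0 = nn * tt hK d'.1 := fun d' => by
    by_cases h : ∃ g : G1 K m, g⁻¹ * invJ * g = nn * tt hK d'.1
    · exact ⟨h.choose, fun _ => h.choose_spec⟩
    · exact ⟨1, fun h' => absurd h' h⟩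
  choose g0 hg0 using hsec
  let Φ : {g : G1 K m // ∃ d, g⁻¹ * invJ * g = nn * tt hK d} → {d' : Kˣ // d' ≠ d} × ↥C := fun g =>
    let d' : {d' : Kˣ // d' ≠ d} :=
      ⟨g.2.choose, fun e => hd g.1 (g.2.choose_spec.trans (by rw [e]))⟩
    (d', ⟨g.1 * (g0 d')⁻¹, by
      rw [Subgroup.mem_centralizer_singleton_iff]
      have h := (hg0 d' ⟨g.1, g.2.choose_spec⟩).trans g.2.choose_spec.symm
      calc g.1 * (g0 d')⁻¹ * invJ = g.1 * ((g0 d')⁻¹ * invJ * g0 d') * (g0 d')⁻¹ := by group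
        _ = invJ * (g.1 * (g0 d')⁻¹) := by rw [h]; group⟩)
  have hΦ : Function.Injective Φ := by
    rintro g g' e
    have e1 := congrArg Prod.fst e
    have e2 := congrArg (fun z => (z.2 : G1 K m)) e
    simp only [Φ] at e1 e2
    rw [e1] at e2
    exact Subtype.ext (mul_right_cancel e2)
  have h2 := Nat.card_le_card_of_injective Φ hΦ
  rw [Nat.card_prod, card_centralizer_invJ hK] at h2
  have h3 : Nat.card {d' : Kˣ // d' ≠ d} = 3 ^ (2 * m + 1) - 2 := by
    rw [Nat.card_eq_fintype_card, Fintype.card_subtype_compl, Fintype.card_subtype_eq,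
      Fintype.card_units, hK]
    omega
  rw [h3] at h2
  have h5 := le_pow_odd hm
  generalize 3 ^ (2 * m + 1) = q at hle h2 h5
  have h4 := hle.trans h2
  obtain ⟨k, rfl⟩ : ∃ k, q = k + 2 := ⟨q - 2, by omega⟩
  rw [show (k + 2) ^ 3 - (k + 2) = (k + 2) * ((k + 1) * (k + 3)) from
      Nat.sub_eq_of_eq_add (by ring), show k + 2 - 1 = k + 1 from rfl, Nat.add_sub_cancel] at h4
  nlinarith [Nat.mul_pos (show 0 < (k + 2) * (k + 1) by positivity) (show 0 < k + 3 by omega)]

theorem involutions_conj (hm : 1 ≤ m) {i : G1 K m} (h2 : i * i = 1) (h1 : i ≠ 1) :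
    ∃ g, g * invJ * g⁻¹ = i := by
  obtain ⟨x, hx⟩ : ∃ x : G1 K m ⧸ B1 K m, i • x ≠ x := by
    by_contra h
    push Not at h
    refine h1 ?_
    have hmem : i ∈ (B1 K m).normalCore := by
      intro b
      have := (mk_eq hK).1 (h (QuotientGroup.mk b⁻¹)).symm
      simpa [mul_assoc] using this
    rw [B1, core_trivial hK] at hmem
    exact Subgroup.mem_bot.1 hmem
  obtain ⟨g, hg1, hg2⟩ := exists_pair_to hK hx.symm
  have b1 : (g * nn)⁻¹ * (i * g) ∈ B1 K m := by
    refine (mk_eq hK).1 ?_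
    rw [hg2, ← hg1]
    rfl
  have b2 : g⁻¹ * (i * (g * nn)) ∈ B1 K m := by
    refine (mk_eq hK).1 ?_
    rw [hg1, ← smul_mk hK, hg2, smul_smul, h2, one_smul]
  obtain ⟨d, hd⟩ := exists_tt_of_two hK (g := nn * (g⁻¹ * i * g))
    (by rw [mul_inv_rev, nn_inv hK] at b1; simpa [mul_assoc] using b1)
    (by rw [nn_inv hK, ← mul_assoc nn nn, nn_sq hK, one_mul]; simpa [mul_assoc] using b2)
  obtain ⟨g', hg'⟩ := exists_conj_nn_tt hK hm d
  refine ⟨g * g'⁻¹, ?_⟩
  have : g⁻¹ * i * g = g'⁻¹ * invJ * g' := by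
    rw [hg', ← hd, ← mul_assoc nn nn, nn_sq hK, one_mul]
  calc g * g'⁻¹ * invJ * (g * g'⁻¹)⁻¹ = g * (g'⁻¹ * invJ * g') * g⁻¹ := by group
    _ = i := by rw [← this]; group

end Ree

end Cfsg.Agent.Chev
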