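import Mathlib

/-!
Counting the conjugates of a trivial intersection subset.
-/

set_option autoImplicit false

namespace Cfsg.Agent.Chev.Ree

/-- The conjugates of a trivial intersection set, counted. -/
theorem card_cover {G : Type*} [Group G] (D : Set G) (N : Subgroup G)
    (hN : ∀ n ∈ N, ∀ d ∈ D, n * d * n⁻¹ ∈ D) (hTI : ∀ g, ∀ d ∈ D, g * d * g⁻¹ ∈ D → g ∈ N) :
    Nat.card {y : G // ∃ g, g * y * g⁻¹ ∈ D} * Nat.card N = Nat.card G * Nat.card D := by
  rw [← Nat.card_prod, ← Nat.card_prod]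
  let f : {y : G // ∃ g, g * y * g⁻¹ ∈ D} × N → G × D := fun p =>
    ((p.2 : G) * p.1.2.choose,
      ⟨(p.2 : G) * (p.1.2.choose * (p.1 : G) * p.1.2.choose⁻¹) * (p.2 : G)⁻¹,
        hN _ p.2.2 _ p.1.2.choose_spec⟩)
  refine Nat.card_eq_of_bijective f ⟨?_, ?_⟩
  · rintro ⟨y, n⟩ ⟨y', n'⟩ e
    have e1 : (n : G) * y.2.choose = (n' : G) * y'.2.choose := congrArg Prod.fst e
    have e2 : (n : G) * (y.2.choose * (y : G) * y.2.choose⁻¹) * (n : G)⁻¹ =
        (n' : G) * (y'.2.choose * (y' : G) * y'.2.choose⁻¹) * (n' : G)⁻¹ :=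
      congrArg (fun q => (q.2 : G)) e
    have hy : (y : G) = y' := by
      have e3 : ((n : G) * y.2.choose) * y * ((n : G) * y.2.choose)⁻¹ =
          ((n' : G) * y'.2.choose) * y' * ((n' : G) * y'.2.choose)⁻¹ := by
        simpa [mul_assoc] using e2
      rw [e1] at e3
      exact mul_left_cancel (mul_right_cancel e3)
    obtain rfl : y = y' := Subtype.ext hy
    rw [Subtype.ext (mul_right_cancel e1)]
  · rintro ⟨g, d⟩
    let y : {y : G // ∃ g, g * y * g⁻¹ ∈ D} :=
      ⟨g⁻¹ * d * g, g, by simpa [mul_assoc] using d.2⟩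
    have hn : g * y.2.choose⁻¹ ∈ N := by
      refine hTI _ _ y.2.choose_spec ?_
      have e : g * y.2.choose⁻¹ * (y.2.choose * (y : G) * y.2.choose⁻¹) * (g * y.2.choose⁻¹)⁻¹ =
          (d : G) := by
        simp only [y]
        group
      rw [e]
      exact d.2
    refine ⟨(y, ⟨g * y.2.choose⁻¹, hn⟩), Prod.ext ?_ (Subtype.ext ?_)⟩
    · show g * y.2.choose⁻¹ * y.2.choose = g
      rw [inv_mul_cancel_right]
    · show g * y.2.choose⁻¹ * (y.2.choose * (y : G) * y.2.choose⁻¹) * (g * y.2.choose⁻¹)⁻¹ = d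
      simp only [y]
      group

/-- An element of prime power order is conjugate into a subgroup containing a full Sylow subgroup. -/
theorem exists_conj_mem_of_factorization {G : Type*} [Group G] [Finite G] {r n : ℕ} [Fact r.Prime]
    (A : Subgroup G) (hA : (Nat.card A).factorization r = (Nat.card G).factorization r) {x : G}
    (hx : x ^ r ^ n = 1) : ∃ g, g * x * g⁻¹ ∈ A := by
  obtain ⟨Q⟩ : Nonempty (Sylow r A) := inferInstance
  have hQ : Nat.card ((Q : Subgroup A).map A.subtype) = r ^ (Nat.card G).factorization r := by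
    rw [← Nat.card_congr (Subgroup.equivMapOfInjective _ _ A.subtype_injective).toEquiv,
      Q.card_eq_multiplicity, hA]
  let P := Sylow.ofCard _ hQ
  have hp : IsPGroup r (Subgroup.zpowers x) := by
    rintro ⟨y, k, rfl⟩
    refine ⟨n, Subtype.ext ?_⟩
    show (x ^ k) ^ (r ^ n) = 1
    rw [← zpow_natCast, ← zpow_mul, mul_comm, zpow_mul, zpow_natCast, hx, one_zpow]
  obtain ⟨R, hR⟩ := hp.exists_le_sylow
  obtain ⟨g, hg⟩ := MulAction.exists_smul_eq G R P
  refine ⟨g, ?_⟩
  have h : g * x * g⁻¹ ∈ (P : Subgroup G) := by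
    rw [← hg, Sylow.coe_subgroup_smul]
    exact ⟨x, hR (Subgroup.mem_zpowers x), rfl⟩
  obtain ⟨y, -, e⟩ := Subgroup.mem_map.1 (show g * x * g⁻¹ ∈ (Q : Subgroup A).map A.subtype by
    simpa [P] using h)
  exact e ▸ y.2

/-- A prime with an element of that order dividing the order of an element. -/
theorem exists_pow_orderOf {G : Type*} [Group G] [Finite G] {x : G} {r : ℕ} (hr : r.Prime)
    (h : r ∣ orderOf x) : ∃ k : ℕ, orderOf (x ^ k) = r := by
  refine ⟨orderOf x / r, ?_⟩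
  rw [orderOf_pow_of_dvd (Nat.div_ne_zero_iff.2 ⟨hr.ne_zero, Nat.le_of_dvd (orderOf_pos x) h⟩)
    (Nat.div_dvd_of_dvd h), Nat.div_div_self h (orderOf_pos x).ne']

end Cfsg.Agent.Chev.Ree
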