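import Cfsg.Agent.Chev.Ree.Stmts
import Mathlib.GroupTheory.Sylow

/-!
Trivial intersection of Sylow 3-subgroups, stabilisers of three points and two generators for
`²G₂(q)`.
-/

set_option autoImplicit false
set_option maxRecDepth 100000

namespace Cfsg.Agent.Chev

open Cfsg.Lie
open scoped MatrixGroups

universe u

namespace Ree

variable {K : Type u} [Field K] [Fintype K] [CharP K 3] {m : ℕ}
  (hK : Fintype.card K = 3 ^ (2 * m + 1))
include hK

theorem inter_cases {g : GL chevG2.Idx K} (hg : g ∈ twistedG2 K (3 ^ m))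
    {x : GL chevG2.Idx K} (hx : x ∈ chevG2.posUnipotent K ⊓ twistedG2 K (3 ^ m))
    (hxg : g⁻¹ * x * g ∈ chevG2.posUnipotent K ⊓ twistedG2 K (3 ^ m)) :
    g ∈ chevG2.borelSubgroup K ∨ x = 1 := by
  rcases exists_nf (isTheta hK) (show g ∈ fx m by rw [fx_eq hK]; exact hg) with
    ⟨t, u, v, c, rfl⟩ | ⟨t, u, v, c, t', u', v', rfl⟩
  · exact Or.inl (mul_mem (R_mem_borel t u v) (tor_mem_borel c))
  · refine Or.inr ?_
    set b := R m t u v * tor m c with hb
    have hbb : b ∈ chevG2.borelSubgroup K := mul_mem (R_mem_borel t u v) (tor_mem_borel c)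
    have h1 : n0 * (R m t' u' v' * ((b * n0 * R m t' u' v')⁻¹ * x * (b * n0 * R m t' u' v')) *
        (R m t' u' v')⁻¹) * n0⁻¹ = b⁻¹ * x * b := by group
    have h2 := n0_conj_not_borel
      (Subgroup.mul_mem _ (Subgroup.mul_mem _ (R_mem_U (m := m) t' u' v') hxg.1)
        (Subgroup.inv_mem _ (R_mem_U (m := m) t' u' v')))
      (by
        rw [h1]
        exact Subgroup.mul_mem _ (Subgroup.mul_mem _ (Subgroup.inv_mem _ hbb)
          (Subgroup.mem_sup_left hx.1)) hbb)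
    rw [h2, mul_one, mul_inv_cancel, eq_comm] at h1
    have := congrArg (fun z => b * z * b⁻¹) h1
    simpa [mul_assoc] using this

theorem borel_conj_U {g x : GL chevG2.Idx K} (hg : g ∈ chevG2.borelSubgroup K)
    (hgG : g ∈ twistedG2 K (3 ^ m))
    (hx : x ∈ chevG2.posUnipotent K ⊓ twistedG2 K (3 ^ m)) :
    g * x * g⁻¹ ∈ chevG2.posUnipotent K ⊓ twistedG2 K (3 ^ m) := by
  refine ⟨?_, Subgroup.mul_mem _ (Subgroup.mul_mem _ hgG hx.2) (Subgroup.inv_mem _ hgG)⟩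
  have hle : chevG2.borelSubgroup K ≤
      Subgroup.normalizer (chevG2.posUnipotent K : Set (GL chevG2.Idx K)) :=
    sup_le Subgroup.le_normalizer (diagonal_le_normalizer facts_chevG2)
  exact (Subgroup.mem_normalizer_iff.1 (hle hg) x).1 hx.1

theorem sylow_three_ti (P Q : Sylow 3 ↥(twistedG2 K (3 ^ m))) (hPQ : P ≠ Q) :
    (P : Subgroup ↥(twistedG2 K (3 ^ m))) ⊓ (Q : Subgroup ↥(twistedG2 K (3 ^ m))) = ⊥ := by
  classical
  haveI : Fact (Nat.Prime 3) := ⟨Nat.prime_three⟩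
  set U := (chevG2.posUnipotent K ⊓ (twistedG2 K (3 ^ m))).subgroupOf (twistedG2 K (3 ^ m)) with hU
  have hcard : Nat.card U = 3 ^ (Nat.card ↥(twistedG2 K (3 ^ m))).factorization 3 := by
    have e : Nat.card U = (3 ^ (2 * m + 1)) ^ 3 := by
      rw [hU, Nat.card_congr (Subgroup.subgroupOfEquivOfLe inf_le_right).toEquiv]
      exact card_U1 hK
    rw [e, card_G1 hK]
    set r := 2 * m + 1
    have hr : 3 ∣ 3 ^ r := dvd_pow_self 3 (by omega)
    have h1 : 1 ≤ 3 ^ r := Nat.one_le_pow _ _ (by norm_num)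
    have hlt : 3 ≤ 3 ^ r := Nat.le_of_dvd (by omega) hr
    have hA : ¬ 3 ∣ 3 ^ r - 1 := fun h => by omega
    have hB : ¬ 3 ∣ (3 ^ r) ^ 3 + 1 := fun h => by
      have h3 : 3 ∣ (3 ^ r) ^ 3 := hr.trans (dvd_pow_self _ three_ne_zero)
      exact absurd ((Nat.dvd_add_right h3).1 h) (by norm_num)
    rw [Nat.factorization_mul (Nat.mul_ne_zero (by positivity) (by omega)) (by omega),
      Nat.factorization_mul (by positivity) (by omega), Finsupp.add_apply, Finsupp.add_apply,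
      Nat.factorization_eq_zero_of_not_dvd hA, Nat.factorization_eq_zero_of_not_dvd hB,
      ← pow_mul, Nat.prime_three.factorization_pow, Finsupp.single_eq_same, Nat.add_zero]
  let S := Sylow.ofCard U hcard
  have hS : ∀ R : Sylow 3 ↥(twistedG2 K (3 ^ m)), ∃ g : ↥(twistedG2 K (3 ^ m)), ∀ x, x ∈ (R : Subgroup ↥(twistedG2 K (3 ^ m))) ↔ g⁻¹ * x * g ∈ U := by
    intro R
    obtain ⟨g, rfl⟩ := MulAction.exists_smul_eq ↥(twistedG2 K (3 ^ m)) S R
    refine ⟨g, fun x => ?_⟩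
    rw [Sylow.coe_subgroup_smul, Subgroup.mem_pointwise_smul_iff_inv_smul_mem]
    simp [S, MulAut.smul_def, mul_assoc]
  obtain ⟨g, hg⟩ := hS P
  obtain ⟨k, hk⟩ := hS Q
  rw [eq_bot_iff]
  rintro x ⟨hxP, hxQ⟩
  rw [Subgroup.mem_bot]
  have hy := Subgroup.mem_subgroupOf.1 ((hg x).1 hxP)
  have hz := Subgroup.mem_subgroupOf.1 ((hk x).1 hxQ)
  rcases inter_cases hK (g := ((g⁻¹ * k : ↥(twistedG2 K (3 ^ m))) : GL chevG2.Idx K)) (g⁻¹ * k).2 hy (by
      have e : ((g⁻¹ * k : ↥(twistedG2 K (3 ^ m))) : GL chevG2.Idx K)⁻¹ * ((g⁻¹ * x * g : ↥(twistedG2 K (3 ^ m))) : GL chevG2.Idx K) *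
          ((g⁻¹ * k : ↥(twistedG2 K (3 ^ m))) : GL chevG2.Idx K) = ((k⁻¹ * x * k : ↥(twistedG2 K (3 ^ m))) : GL chevG2.Idx K) := by
        simp only [Subgroup.coe_mul, Subgroup.coe_inv]
        group
      rw [e]; exact hz) with h | h
  · refine absurd (Sylow.ext (SetLike.ext fun y => ?_)) hPQ
    rw [hg, hk, hU, Subgroup.mem_subgroupOf, Subgroup.mem_subgroupOf]
    constructor
    · intro hy
      have := borel_conj_U hK (Subgroup.inv_mem _ h) (Subgroup.inv_mem _ (g⁻¹ * k).2) hy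
      simpa [mul_assoc] using this
    · intro hy
      have := borel_conj_U hK h (g⁻¹ * k).2 hy
      simpa [mul_assoc] using this
  · have e : g⁻¹ * x * g = 1 := Subtype.ext h
    have := congrArg (fun z => g * z * g⁻¹) e
    simpa [mul_assoc] using this

/-- The stabiliser of the points of `B` and of `n₀B` is the torus. -/
theorem borel_inter_conj {g : GL chevG2.Idx K}
    (hg : g ∈ chevG2.borelSubgroup K ⊓ twistedG2 K (3 ^ m))
    (hc : n0⁻¹ * g * n0 ∈ chevG2.borelSubgroup K ⊓ twistedG2 K (3 ^ m)) :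
    ∃ c, g = tor m c := by
  obtain ⟨t, u, v, c, rfl⟩ := (inf_borel hK g).1 hg
  obtain ⟨t', u', v', d, e⟩ := (inf_borel hK _).1 hc
  have e1 : R m t u v * tor m c = (n0 * R m t' u' v' * n0⁻¹) * (n0 * tor m d * n0⁻¹) := by
    rw [show (n0 : GL chevG2.Idx K) * R m t' u' v' * n0⁻¹ * (n0 * tor m d * n0⁻¹) =
      n0 * (R m t' u' v' * tor m d) * n0⁻¹ by group, ← e]
    group
  rw [n0_conj_tor] at e1
  have e2 : n0 * R m t' u' v' * n0⁻¹ = R m t u v * tor m c * (tor m d⁻¹)⁻¹ := by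
    rw [e1, mul_inv_cancel_right]
  have h1 := n0_conj_not_borel (R_mem_U t' u' v') (by
    rw [e2]
    exact Subgroup.mul_mem _ hg.1 (Subgroup.inv_mem _ (tor_mem_borel _)))
  rw [h1, mul_one, mul_inv_cancel, one_mul] at e1
  exact ⟨d⁻¹, e1⟩

theorem three_points :
    (∀ x y z : ↥(twistedG2 K (3 ^ m)) ⧸
        ((chevG2.borelSubgroup K ⊓ twistedG2 K (3 ^ m))).subgroupOf (twistedG2 K (3 ^ m)),
      x ≠ y → x ≠ z → y ≠ z →
      Nat.card ↥(MulAction.stabilizer ↥(twistedG2 K (3 ^ m)) x ⊓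
        MulAction.stabilizer ↥(twistedG2 K (3 ^ m)) y ⊓
        MulAction.stabilizer ↥(twistedG2 K (3 ^ m)) z) ≤ 2) ∧
    ∃ x y z : ↥(twistedG2 K (3 ^ m)) ⧸
        ((chevG2.borelSubgroup K ⊓ twistedG2 K (3 ^ m))).subgroupOf (twistedG2 K (3 ^ m)),
      x ≠ y ∧ x ≠ z ∧ y ≠ z ∧
      Nat.card ↥(MulAction.stabilizer ↥(twistedG2 K (3 ^ m)) x ⊓
        MulAction.stabilizer ↥(twistedG2 K (3 ^ m)) y ⊓
        MulAction.stabilizer ↥(twistedG2 K (3 ^ m)) z) = 2 := by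
  classical
  set G := twistedG2 K (3 ^ m) with hG
  set B := (chevG2.borelSubgroup K ⊓ G).subgroupOf G with hB
  have hst : ∀ g h : ↥G, h ∈ MulAction.stabilizer ↥G (QuotientGroup.mk g : ↥G ⧸ B) ↔
      g⁻¹ * h * g ∈ B := fun g h => by
    rw [MulAction.mem_stabilizer_iff, show (h • (QuotientGroup.mk g : ↥G ⧸ B)) =
      QuotientGroup.mk (h * g) from rfl, eq_comm, QuotientGroup.eq, mul_assoc]
  let n : ↥G := ⟨n0, n0_mem_G1⟩
  let r : K × K × K → ↥G := fun p => ⟨R m p.1 p.2.1 p.2.2, R_mem_G1 _ _ _⟩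
  let T : Kˣ →* ↥G := (tor m).codRestrict G (tor_mem_G1 hK)
  have hTB : ∀ c, T c ∈ B := fun c =>
    Subgroup.mem_subgroupOf.2 ⟨tor_mem_borel c, tor_mem_G1 hK c⟩
  have hrB : ∀ p, r p ∈ B := fun p =>
    Subgroup.mem_subgroupOf.2 ⟨R_mem_borel _ _ _, R_mem_G1 _ _ _⟩
  have hnT : ∀ c, n⁻¹ * T c * n ∈ B := fun c => by
    rw [hB, Subgroup.mem_subgroupOf]
    refine ⟨?_, (n⁻¹ * T c * n).2⟩
    show (n0 : GL chevG2.Idx K)⁻¹ * tor m c * n0 ∈ chevG2.borelSubgroup K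
    have e : (n0 : GL chevG2.Idx K)⁻¹ * tor m c * n0 = tor m c⁻¹ := by
      calc (n0 : GL chevG2.Idx K)⁻¹ * tor m c * n0
          = n0⁻¹ * (n0 * tor m c⁻¹ * n0⁻¹) * n0 := by rw [n0_conj_tor, inv_inv]
        _ = tor m c⁻¹ := by group
    rw [e]
    exact tor_mem_borel _
  -- uniqueness of the representative in a big cell
  have huniq : ∀ p q : K × K × K, (r p * n)⁻¹ * (r q * n) ∈ B → p = q := by
    intro p q h
    rw [hB, Subgroup.mem_subgroupOf] at h
    have h1 : (n0 : GL chevG2.Idx K)⁻¹ *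
        ((R m p.1 p.2.1 p.2.2)⁻¹ * R m q.1 q.2.1 q.2.2) * n0 ∈
        chevG2.borelSubgroup K ⊓ G := by
      have e : (n0 : GL chevG2.Idx K)⁻¹ * ((R m p.1 p.2.1 p.2.2)⁻¹ * R m q.1 q.2.1 q.2.2) * n0 =
          (((r p * n)⁻¹ * (r q * n) : ↥G) : GL chevG2.Idx K) := by
        simp only [Subgroup.coe_mul, Subgroup.coe_inv, r, n]
        group
      rw [e]; exact h
    obtain ⟨c, hc⟩ := borel_inter_conj hK
      ⟨Subgroup.mul_mem _ (Subgroup.inv_mem _ (R_mem_borel _ _ _)) (R_mem_borel _ _ _),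
        Subgroup.mul_mem _ (Subgroup.inv_mem _ (R_mem_G1 _ _ _)) (R_mem_G1 _ _ _)⟩ h1
    have h2 := Subgroup.mem_bot.1 ((posUnipotent_inf_diagonal facts_chevG2).le
      ⟨Subgroup.mul_mem _ (Subgroup.inv_mem _ (R_mem_U (m := m) p.1 p.2.1 p.2.2))
        (R_mem_U (m := m) q.1 q.2.1 q.2.2), hc ▸ tor_mem_diagonal c⟩)
    obtain ⟨h3, h4, h5⟩ := R_injective m (inv_mul_eq_one.1 h2)
    exact Prod.ext h3 (Prod.ext h4 h5)
  have hcells : ∀ g : ↥G, g ∈ B ∨ ∃ p b, b ∈ B ∧ g = r p * n * b := by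
    intro g
    rcases exists_nf (isTheta hK) (show (g : GL chevG2.Idx K) ∈ fx m by
      rw [fx_eq hK]; exact g.2) with ⟨t, u, v, c, e⟩ | ⟨t, u, v, c, t', u', v', e⟩
    · refine Or.inl (Subgroup.mem_subgroupOf.2 ⟨?_, g.2⟩)
      rw [e]
      exact Subgroup.mul_mem _ (R_mem_borel t u v) (tor_mem_borel c)
    · refine Or.inr ⟨(t, u, v), (n⁻¹ * T c * n) * r (t', u', v'),
        Subgroup.mul_mem _ (hnT c) (hrB _), Subtype.ext ?_⟩
      rw [e]
      show _ = R m t u v * n0 * (n0⁻¹ * tor m c * n0 * R m t' u' v')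
      group
  -- the stabiliser of `B` and `n₀B`
  have h2st : ∀ h : ↥G, h ∈ B → n⁻¹ * h * n ∈ B → ∃ c, h = T c := by
    intro h h1 h2
    rw [hB, Subgroup.mem_subgroupOf] at h1 h2
    obtain ⟨c, hc⟩ := borel_inter_conj hK h1 h2
    exact ⟨c, Subtype.ext hc⟩
  -- fixing a third point
  have h3st : ∀ (p : K × K × K), p ≠ 0 → ∀ c, (r p * n)⁻¹ * T c * (r p * n) ∈ B → c ^ 2 = 1 := by
    intro p hp c h
    obtain ⟨t', u', v', e⟩ := tor_conj_R (isTheta hK) c p.1 p.2.1 p.2.2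
    have e' : T c * r p = r (t', u', v') * T c := by
      refine Subtype.ext ?_
      show tor m c * R m p.1 p.2.1 p.2.2 = R m t' u' v' * tor m c
      rw [← e, inv_mul_cancel_right]
    have h' : (r p * n)⁻¹ * (r (t', u', v') * n) ∈ B := by
      have h3 := Subgroup.mul_mem _ h (Subgroup.inv_mem _ (hnT c))
      rwa [show (r p * n)⁻¹ * T c * (r p * n) * (n⁻¹ * T c * n)⁻¹ =
        (r p * n)⁻¹ * (T c * r p * (T c)⁻¹ * n) by group, e', mul_inv_cancel_right] at h3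
    have hpq := huniq _ _ h'
    by_contra hc
    obtain ⟨h1, h2, h3⟩ := free_of_sq_ne_one (isTheta hK) hc (t := p.1) (u := p.2.1) (v := p.2.2)
      (by rw [e, hpq])
    exact hp (Prod.ext h1 (Prod.ext h2 h3))
  have hker : Nat.card {c : Kˣ // c ^ 2 = 1} ≤ 2 := by
    have h := IsCyclic.card_powMonoidHom_ker Kˣ 2
    refine le_trans (le_of_eq ?_) (h.trans_le (Nat.le_of_dvd two_pos (Nat.gcd_dvd_right _ _)))
    exact Nat.card_congr (Equiv.subtypeEquivRight fun c => Iff.rfl)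
  have base : ∀ p : K × K × K, p ≠ 0 → Nat.card ↥(MulAction.stabilizer ↥G
      (QuotientGroup.mk 1 : ↥G ⧸ B) ⊓ MulAction.stabilizer ↥G (QuotientGroup.mk n : ↥G ⧸ B) ⊓
      MulAction.stabilizer ↥G (QuotientGroup.mk (r p * n) : ↥G ⧸ B)) ≤ 2 := by
    intro p hp
    refine le_trans (Nat.card_le_card_of_surjective
      (fun c : {c : Kˣ // (r p * n)⁻¹ * T c * (r p * n) ∈ B} =>
        (⟨T c.1, ⟨⟨(hst _ _).2 (by simpa using hTB c.1), (hst _ _).2 (hnT c.1)⟩,
          (hst _ _).2 c.2⟩⟩ : ↥(_ ⊓ _ ⊓ _ : Subgroup ↥G))) ?_) ?_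
    · rintro ⟨h, ⟨h1, h2⟩, h3⟩
      obtain ⟨c, rfl⟩ := h2st h (by simpa using (hst 1 h).1 h1) ((hst n h).1 h2)
      exact ⟨⟨c, (hst _ _).1 h3⟩, rfl⟩
    · exact le_trans (Nat.card_le_card_of_injective
        (fun c => (⟨c.1, h3st p hp c.1 c.2⟩ : {c : Kˣ // c ^ 2 = 1}))
        fun a b e => Subtype.ext (congrArg (fun z => z.val) e :)) hker
  constructor
  · intro x y z hxy hxz hyz
    induction x using QuotientGroup.induction_on with | _ a =>
    induction y using QuotientGroup.induction_on with | _ b =>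
    induction z using QuotientGroup.induction_on with | _ d =>
    rcases hcells (a⁻¹ * b) with h | ⟨p, b', hb', e⟩
    · exact absurd ((QuotientGroup.eq (s := B)).2 h) hxy
    set g := a * r p with hg
    have e1 : (QuotientGroup.mk b : ↥G ⧸ B) = QuotientGroup.mk (g * n) := by
      rw [eq_comm, QuotientGroup.eq, show b = a * (a⁻¹ * b) by group, e, hg]
      simpa [mul_assoc] using hb'
    have e0 : (QuotientGroup.mk a : ↥G ⧸ B) = QuotientGroup.mk g := by
      rw [QuotientGroup.eq, hg]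
      simpa using hrB p
    rcases hcells (g⁻¹ * d) with h | ⟨q, d', hd', e'⟩
    · exact absurd (e0.trans ((QuotientGroup.eq (s := B)).2 h)) hxz
    have e2 : (QuotientGroup.mk d : ↥G ⧸ B) = QuotientGroup.mk (g * (r q * n)) := by
      rw [eq_comm, QuotientGroup.eq, show d = g * (g⁻¹ * d) by group, e']
      simpa [mul_assoc] using hd'
    have hq : q ≠ 0 := by
      rintro rfl
      refine hyz (e1.trans (Eq.trans ?_ e2.symm))
      have : r 0 = 1 := Subtype.ext (R_zero m)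
      rw [this, one_mul]
    rw [e0, e1, e2]
    refine le_trans (Nat.card_le_card_of_injective
      (fun h => (⟨g⁻¹ * h.1 * g, ?_, ?_⟩ :
        ↥(MulAction.stabilizer ↥G (QuotientGroup.mk 1 : ↥G ⧸ B) ⊓
          MulAction.stabilizer ↥G (QuotientGroup.mk n : ↥G ⧸ B) ⊓
          MulAction.stabilizer ↥G (QuotientGroup.mk (r q * n) : ↥G ⧸ B)))) ?_) (base q hq)
    · obtain ⟨⟨h1, h2⟩, -⟩ := h.2
      replace h1 := (hst _ _).1 h1
      replace h2 := (hst _ _).1 h2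
      refine ⟨(hst _ _).2 ?_, (hst _ _).2 ?_⟩
      · simpa using h1
      · simpa [mul_assoc] using h2
    · obtain ⟨-, h3⟩ := h.2
      replace h3 := (hst _ _).1 h3
      exact (hst _ _).2 (by simpa [mul_assoc] using h3)
    · intro h h' ee
      exact Subtype.ext (mul_left_cancel (mul_right_cancel (congrArg (fun z => z.val) ee :)))
  · let p : K × K × K := (0, 1, 0)
    have hp : p ≠ 0 := fun e => one_ne_zero (congrArg (fun z => z.2.1) e :)
    refine ⟨QuotientGroup.mk 1, QuotientGroup.mk n, QuotientGroup.mk (r p * n), ?_, ?_, ?_,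
      le_antisymm (base p hp) ?_⟩
    · rw [Ne, QuotientGroup.eq, inv_one, one_mul, hB, Subgroup.mem_subgroupOf]
      intro h
      have := cell_not_borel (m := m) (0 : K) 0 0 1 0 0 0
      rw [R_zero, map_one, one_mul, one_mul, mul_one] at this
      exact this h.1
    · rw [Ne, QuotientGroup.eq, inv_one, one_mul, hB, Subgroup.mem_subgroupOf]
      intro h
      have := cell_not_borel (m := m) (0 : K) 1 0 1 0 0 0
      rw [R_zero, map_one, mul_one, mul_one] at this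
      exact this h.1
    · rw [Ne, QuotientGroup.eq]
      intro h
      have := huniq 0 p (by
        rwa [show r 0 = 1 from Subtype.ext (R_zero m), one_mul])
      exact hp this.symm
    · have hfix : tor m (-1 : Kˣ) * R m 0 1 0 * (tor m (-1 : Kˣ))⁻¹ = R m 0 1 0 := by
        rw [tor_conj_R_eq (isTheta hK)]
        simp [Odd.neg_one_pow (show Odd 3 by decide)]
      have hmem : T (-1) ∈ MulAction.stabilizer ↥G (QuotientGroup.mk 1 : ↥G ⧸ B) ⊓
          MulAction.stabilizer ↥G (QuotientGroup.mk n : ↥G ⧸ B) ⊓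
          MulAction.stabilizer ↥G (QuotientGroup.mk (r p * n) : ↥G ⧸ B) := by
        refine ⟨⟨(hst _ _).2 (by simpa using hTB (-1)), (hst _ _).2 (hnT _)⟩, (hst _ _).2 ?_⟩
        have e : (r p)⁻¹ * T (-1) * r p = T (-1) := by
          exact Subtype.ext (by
            show (R m 0 1 0)⁻¹ * tor m (-1) * R m 0 1 0 = tor m (-1)
            rw [mul_assoc, inv_mul_eq_iff_eq_mul, ← mul_inv_eq_iff_eq_mul]
            exact hfix)
        rw [show (r p * n)⁻¹ * T (-1) * (r p * n) = n⁻¹ * ((r p)⁻¹ * T (-1) * r p) * n by group, e]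
        exact hnT _
      refine Nat.succ_le_of_lt (Finite.one_lt_card_iff_nontrivial.2 ⟨⟨⟨T (-1), hmem⟩, 1, ?_⟩⟩)
      intro e
      have e2 : tor m (-1 : Kˣ) = tor m 1 := by
        rw [map_one]
        exact congrArg (fun z => z.1.1) e
      have e3 : (-1 : K) = 1 := congrArg Units.val (tor_injective e2)
      exact one_ne_zero (show (1 : K) = 0 by
        linear_combination e3 + three_eq (K := K))

theorem two_generated (hm : 1 ≤ m) : ∃ a b : ↥(twistedG2 K (3 ^ m)),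
    Subgroup.closure ({a, b} : Set ↥(twistedG2 K (3 ^ m))) = ⊤ := by
  classical
  set G := twistedG2 K (3 ^ m) with hG
  obtain ⟨g, hg⟩ := IsCyclic.exists_generator (α := Kˣ)
  have hth := isTheta hK
  let ha : ↥G := ⟨tor m g, tor_mem_G1 hK g⟩
  let hb : ↥G := ⟨R m 1 0 0 * n0, Subgroup.mul_mem _ (R_mem_G1 _ _ _) n0_mem_G1⟩
  refine ⟨ha, hb, ?_⟩
  set M := (Subgroup.closure ({ha, hb} : Set ↥G)).map G.subtype with hM
  suffices hle : G ≤ M by
    refine eq_top_iff.2 fun x _ => ?_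
    obtain ⟨y, hy, e⟩ := hle x.2
    rwa [← Subgroup.subtype_injective _ e]
  have hT : ∀ c, tor m c ∈ M := fun c => by
    obtain ⟨k, rfl⟩ := hg c
    rw [show (fun k : ℤ => g ^ k) k = g ^ k from rfl, map_zpow]
    exact Subgroup.zpow_mem _
      (Subgroup.mem_map.2 ⟨ha, Subgroup.subset_closure (Or.inl rfl), rfl⟩) k
  have hx : R m 1 0 0 * n0 ∈ M :=
    Subgroup.mem_map.2 ⟨hb, Subgroup.subset_closure (Or.inr rfl), rfl⟩
  -- the t-coordinates
  have hχ : ∀ c : Kˣ, tor m c * R m 1 0 0 * (tor m c)⁻¹ =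
      R m ((c : K) ^ 2 / (th K m (c : K)) ^ 3) 0 0 := fun c => by
    rw [tor_conj_R_eq hth, mul_one, mul_zero, mul_zero]
  let χ : Kˣ → Kˣ := fun c => c ^ 2 / Units.map (th K m).toMonoidHom c ^ 3
  have hχv : ∀ c : Kˣ, ((χ c : Kˣ) : K) = (c : K) ^ 2 / (th K m (c : K)) ^ 3 := fun c => by
    simp [χ, Units.val_div_eq_div_val]
  have hχs : Function.Surjective χ := by
    refine Finite.injective_iff_surjective.1 fun c d e => ?_
    have h1 : χ (c / d) = 1 := by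
      simp only [χ, map_div, div_pow]
      rw [div_div_div_comm]
      exact div_eq_one.2 e
    have := tor_fix_t hth (c / d) (by rw [← hχv, h1, Units.val_one])
    exact div_eq_one.1 this
  have hRR : ∀ t u v : K, R m t u v ∈ M → ∀ c, tor m c * R m t u v * (tor m c)⁻¹ ∈ M :=
    fun t u v h c => Subgroup.mul_mem _ (Subgroup.mul_mem _ (hT c) h) (Subgroup.inv_mem _ (hT c))
  have hscale : ∀ t u v : K, R m t u v ∈ M → t ≠ 0 → ∀ s : K, ∃ u' v', R m s u' v' ∈ M := by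
    intro t u v h ht s
    by_cases hs : s = 0
    · subst hs
      exact ⟨0, 0, by rw [R_zero]; exact Subgroup.one_mem _⟩
    obtain ⟨c, hc⟩ := hχs (Units.mk0 (s / t) (div_ne_zero hs ht))
    refine ⟨(th K m (c : K)) ^ 3 / (c : K) * u, (c : K) * v, ?_⟩
    have := hRR t u v h c
    rwa [tor_conj_R_eq hth, ← hχv, hc, Units.val_mk0, div_mul_cancel₀ _ ht] at this
  obtain ⟨c₁, hc₁⟩ := exists_free hK hm
  have hc1 : c₁ ≠ 1 := fun e => hc₁ (by rw [e, one_pow])
  have hstart : ∃ t u v, t ≠ 0 ∧ R m t u v ∈ M := by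
    have h1 : (tor m c₁ * (R m 1 0 0 * n0) * (tor m c₁)⁻¹) * (R m 1 0 0 * n0)⁻¹ ∈ M :=
      Subgroup.mul_mem _ (Subgroup.mul_mem _ (Subgroup.mul_mem _ (hT c₁) hx)
        (Subgroup.inv_mem _ (hT c₁))) (Subgroup.inv_mem _ hx)
    have h2 := Subgroup.mul_mem _ h1 (Subgroup.inv_mem _ (hT (c₁ * c₁)))
    have e : (tor m c₁ * (R m 1 0 0 * n0) * (tor m c₁)⁻¹) * (R m 1 0 0 * n0)⁻¹ *
        (tor m (c₁ * c₁))⁻¹ = (tor m c₁ * R m 1 0 0 * (tor m c₁)⁻¹) *
        (tor m (c₁ * c₁) * R m 1 0 0 * (tor m (c₁ * c₁))⁻¹)⁻¹ := by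
      have hn : n0 * (tor m c₁)⁻¹ * n0⁻¹ = tor m c₁ := by
        rw [← map_inv, n0_conj_tor, inv_inv]
      calc _ = tor m c₁ * R m 1 0 0 * (n0 * (tor m c₁)⁻¹ * n0⁻¹) * (R m 1 0 0)⁻¹ *
            (tor m (c₁ * c₁))⁻¹ := by group
        _ = _ := by rw [hn, map_mul]; group
    rw [e, hχ, hχ] at h2
    obtain ⟨t, u, v, hx2⟩ := (inf_posU hK _).1
      (Subgroup.mul_mem _ ((inf_posU hK _).2 ⟨(c₁ : K) ^ 2 / (th K m (c₁ : K)) ^ 3, 0, 0, rfl⟩)
        (Subgroup.inv_mem _ ((inf_posU hK _).2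
          ⟨((c₁ * c₁ : Kˣ) : K) ^ 2 / (th K m ((c₁ * c₁ : Kˣ) : K)) ^ 3, 0, 0, rfl⟩)))
    refine ⟨t, u, v, fun ht => ?_, hx2 ▸ h2⟩
    rw [mul_inv_eq_iff_eq_mul, ht, R_mul hth] at hx2
    have e2 := (R_injective m hx2).1
    rw [zero_add, ← hχv, ← hχv, ← Units.ext_iff] at e2
    have e3 : χ (c₁ * c₁) = χ c₁ * χ c₁ := by
      simp only [χ, map_mul, mul_pow]
      rw [div_mul_div_comm]
    rw [e3, eq_comm, mul_eq_left] at e2
    exact hc1 (tor_fix_t hth c₁ (by rw [← hχv, e2, Units.val_one]))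
  obtain ⟨t₀, u₀, v₀, ht₀, h₀⟩ := hstart
  have hTcoord : ∀ s : K, ∃ u v, R m s u v ∈ M := hscale t₀ u₀ v₀ h₀ ht₀
  have hcomm : ∀ a b : K × K × K, R m a.1 a.2.1 a.2.2 ∈ M → R m b.1 b.2.1 b.2.2 ∈ M →
      ∀ x y : K, R m a.1 a.2.1 a.2.2 * R m b.1 b.2.1 b.2.2 =
        R m b.1 b.2.1 b.2.2 * R m a.1 a.2.1 a.2.2 * R m 0 x y → R m 0 x y ∈ M := by
    intro a b ha' hb' x y e
    rw [← inv_mul_eq_iff_eq_mul] at e
    rw [← e]
    exact Subgroup.mul_mem _ (Subgroup.inv_mem _ (Subgroup.mul_mem _ hb' ha'))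
      (Subgroup.mul_mem _ ha' hb')
  -- the u-coordinates
  have hzero : (0 : K) ^ 3 ^ m = 0 := zero_pow (pow_ne_zero _ (by norm_num))
  have hu1 : ∃ u v, u ≠ 0 ∧ R m 0 u v ∈ M := by
    obtain ⟨t, ht⟩ : ∃ t : K, (t ^ 3 ^ m) ^ 3 - t ≠ 0 := by
      by_contra hc
      push Not at hc
      refine hc₁ (Units.ext ?_)
      have h1 : (th K m (c₁ : K)) ^ 3 = (c₁ : K) := by rw [th_apply]; exact sub_eq_zero.1 (hc _)
      have h2 : th K m (c₁ : K) = c₁ := (congrArg (th K m) h1).symm.trans (hth _)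
      rw [h2] at h1
      have h3 : (c₁ : K) * (c₁ : K) ^ 2 = (c₁ : K) * 1 := by rw [← pow_succ', h1, mul_one]
      simpa using mul_left_cancel₀ c₁.ne_zero h3
    obtain ⟨ua, va, ha'⟩ := hTcoord t
    obtain ⟨ub, vb, hb'⟩ := hTcoord 1
    refine ⟨-((1 : K) * t) + (t ^ 3 ^ m) ^ 3, _, by rwa [one_mul, neg_add_eq_sub],
      hcomm (t, ua, va) (1, ub, vb) ha' hb' _
        ((va + vb - 1 * t ^ 2 - (ua - 1 * t)) -
          (vb + va - (t ^ 3 ^ m) ^ 3 * 1 ^ 2 - t * (ub - (t ^ 3 ^ m) ^ 3 * 1))) ?_⟩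
    simp only [R_mul hth, one_pow, hzero, zero_pow three_ne_zero]
    congr 1 <;> ring
  obtain ⟨u₁, v₁, hu₁, h₁⟩ := hu1
  have hUcoord : ∀ s : K, ∃ v, R m 0 s v ∈ M := by
    have hneg : ∀ s v : K, R m 0 s v ∈ M → ∃ v', R m 0 (-s) v' ∈ M := fun s v h => by
      refine ⟨-v, ?_⟩
      have := Subgroup.inv_mem _ h
      rwa [show (R m 0 s v)⁻¹ = R m 0 (-s) (-v) from inv_eq_of_mul_eq_one_right (by
        rw [R_mul hth, R_eq_one_iff, hzero]
        refine ⟨by ring, by ring, by ring⟩)] at this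
    intro s
    by_cases hs : s = 0
    · subst hs
      exact ⟨0, by rw [R_zero]; exact Subgroup.one_mem _⟩
    have hψ : ∀ d : Kˣ, ∃ v, R m 0 ((th K m (d : K)) ^ 3 / (d : K) * u₁) v ∈ M := fun d => by
      have := hRR 0 u₁ v₁ h₁ d
      rw [tor_conj_R_eq hth, mul_zero] at this
      exact ⟨_, this⟩
    let ψ : Kˣ → Kˣ := fun d => Units.map (th K m).toMonoidHom d ^ 3 / d
    have hψv : ∀ d : Kˣ, ((ψ d : Kˣ) : K) = (th K m (d : K)) ^ 3 / (d : K) := fun d => by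
      simp [ψ, Units.val_div_eq_div_val]
    have hneg1 : ψ (-1) = 1 := Units.ext (by
      rw [hψv]; simp [Odd.neg_one_pow (show Odd 3 by decide)])
    have hψsq : ∀ e : Kˣ, ∃ d, ψ d = e ^ 2 := by
      let f : Kˣ →* Kˣ :=
        MonoidHom.mk' ψ fun a b => by
          simp only [ψ, map_mul, mul_pow]
          rw [div_mul_div_comm]
      have hk : ∀ d, ψ d = 1 → d ^ 2 = 1 := fun d hd => by
        have h1 : (th K m (d : K)) ^ 3 = (d : K) :=
          (div_eq_one_iff_eq d.ne_zero).1 (by rw [← hψv, hd, Units.val_one])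
        have h2 : th K m (d : K) = d := (congrArg (th K m) h1).symm.trans (hth _)
        rw [h2] at h1
        have h3 : (d : K) * (d : K) ^ 2 = (d : K) * 1 := by rw [← pow_succ', h1, mul_one]
        exact Units.ext (by simpa using mul_left_cancel₀ d.ne_zero h3)
      have hsub : f.range ≤ (powMonoidHom 2 : Kˣ →* Kˣ).range := by
        rintro _ ⟨d, rfl⟩
        obtain ⟨e, he | he⟩ := exists_sq_mul_sign hK d
        · exact ⟨ψ e, by rw [he, map_pow]; rfl⟩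
        · refine ⟨ψ e, ?_⟩
          rw [he, map_mul, map_pow, show f (-1) = 1 from hneg1, mul_one]
          rfl
      have hcard : Nat.card ↥(powMonoidHom 2 : Kˣ →* Kˣ).range ≤ Nat.card ↥f.range := by
        have e1 := Subgroup.card_mul_index f.ker
        have e2 := Subgroup.card_mul_index (powMonoidHom 2 : Kˣ →* Kˣ).ker
        rw [Subgroup.index_ker] at e1 e2
        have hle : Nat.card ↥f.ker ≤ Nat.card ↥(powMonoidHom 2 : Kˣ →* Kˣ).ker :=
          Subgroup.card_le_of_le fun d hd => hk d hd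
        by_contra hlt
        push Not at hlt
        have := Nat.mul_lt_mul_of_le_of_lt hle hlt Nat.card_pos
        omega
      intro e
      have := Subgroup.eq_of_le_of_card_ge hsub hcard
      obtain ⟨d, hd⟩ : e ^ 2 ∈ f.range := this ▸ ⟨e, rfl⟩
      exact ⟨d, hd⟩
    obtain ⟨e, he | he⟩ := exists_sq_mul_sign hK (Units.mk0 (s / u₁) (div_ne_zero hs hu₁))
    · obtain ⟨d, hd⟩ := hψsq e
      obtain ⟨v, hv⟩ := hψ d
      rw [← hψv, hd, ← he, Units.val_mk0, div_mul_cancel₀ _ hu₁] at hv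
      exact ⟨v, hv⟩
    · obtain ⟨d, hd⟩ := hψsq e
      obtain ⟨v, hv⟩ := hψ d
      rw [← hψv, hd] at hv
      obtain ⟨v', hv'⟩ := hneg _ _ hv
      rw [show -(((e ^ 2 : Kˣ) : K) * u₁) = ((e ^ 2 * -1 : Kˣ) : K) * u₁ by simp, ← he,
        Units.val_mk0, div_mul_cancel₀ _ hu₁] at hv'
      exact ⟨v', hv'⟩
  have hVcoord : ∀ s : K, R m 0 0 s ∈ M := by
    intro s
    obtain ⟨ua, va, ha'⟩ := hTcoord 1
    obtain ⟨vb, hb'⟩ := hUcoord s
    refine hcomm (1, ua, va) (0, s, vb) ha' hb' 0 s ?_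
    simp only [R_mul hth, one_pow, hzero, zero_pow three_ne_zero]
    congr 1 <;> ring
  have hU : ∀ t u v : K, R m t u v ∈ M := by
    intro t u v
    obtain ⟨u', v', h1⟩ := hTcoord t
    obtain ⟨v'', h2⟩ := hUcoord (u - u')
    have h3 := Subgroup.mul_mem _ (Subgroup.mul_mem _ h1 h2) (hVcoord (v - v' - v''))
    convert h3 using 1
    simp only [R_mul hth, hzero, zero_pow three_ne_zero]
    congr 1 <;> ring
  have hn : (n0 : GL chevG2.Idx K) ∈ M := by
    have := Subgroup.mul_mem _ (Subgroup.inv_mem _ (hU 1 0 0)) hx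
    rwa [inv_mul_cancel_left] at this
  intro y hy
  rcases exists_nf hth (show y ∈ fx m by rw [fx_eq hK]; exact hy) with
    ⟨t, u, v, c, rfl⟩ | ⟨t, u, v, c, t', u', v', rfl⟩
  · exact Subgroup.mul_mem _ (hU t u v) (hT c)
  · exact Subgroup.mul_mem _ (Subgroup.mul_mem _ (Subgroup.mul_mem _ (hU t u v) (hT c)) hn)
      (hU t' u' v')

end Ree

end Cfsg.Agent.Chev
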