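import Cfsg.Agent.Chev.Ree.Stmts
import Cfsg.Agent.Chev.G2OddCentralizer

/-!
The centraliser of the involution of the torus of `²G₂(q)`, and the Sylow 2-subgroups.
-/

set_option autoImplicit false
set_option maxRecDepth 100000
set_option maxHeartbeats 1000000

namespace Cfsg.Agent.Chev

open Cfsg.Lie Matrix
open scoped MatrixGroups

universe u

namespace Ree

open G2Odd (lower diag2 sl2_gen)

section Psi

variable {K : Type u} [Field K] [CharP K 3] {m : ℕ}

theorem psi_tables : (∀ p ∈ ([(8, 1), (3, 10), (3, 1), (8, 10)] : List (ℕ × ℕ)),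
      p.1 < chevG2.nroots ∧ p.2 < chevG2.nroots ∧ p.2 ≠ p.1 ∧ p.2 ≠ chevG2.neg p.1 ∧
        (chevG2.commTerms p.1 p.2).all (fun c => c.2.1 % 3 == 0) = true) ∧
    chevG2.neg 8 = 3 ∧ chevG2.neg 10 = 1 ∧ chevG2.neg 11 = 0 ∧
    coef chevG2 8 0 = 1 ∧ coef chevG2 8 1 = 3 ∧ coef chevG2 10 0 = 1 ∧ coef chevG2 10 1 = 1 ∧
    half chevG2 = 6 := by
  decide +kernel

theorem pair_comm {r s : ℕ} (h : (r, s) ∈ ([(8, 1), (3, 10), (3, 1), (8, 10)] : List (ℕ × ℕ)))
    (t v : K) : Commute (X s v) (X r t) := by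
  obtain ⟨h1, h2, h3, h4, hall⟩ := psi_tables.1 (r, s) h
  have hw : wordG facts_chevG2 (chevG2.commWord K r s t v) = 1 := by
    simp only [List.all_eq_true, beq_iff_eq] at hall
    rw [wordG]
    refine List.prod_eq_one fun y hy => ?_
    obtain ⟨p, hp, rfl⟩ := List.mem_map.1 hy
    obtain ⟨c, hc, rfl⟩ := List.mem_map.1 hp
    have h0 : ((c.2.1 : ℤ) : K) = 0 :=
      (CharP.intCast_eq_zero_iff K 3 _).2 (Int.dvd_of_emod_eq_zero (hall c hc))
    simp [h0, xG_zero]
  have := xG_comm facts_chevG2 h1 h2 h3 h4 t v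
  rw [hw, mul_one] at this
  exact this

theorem R_mid (u : K) : R m 0 u 0 = X 8 (u ^ 3 ^ m) * X 10 u := by
  simp [R, W, T, xG_zero]

theorem omR_mid (u : K) : om (R m 0 (-u) 0) = X 3 (u ^ 3 ^ m) * X 1 u := by
  have e8 := om_x (K := K) ⟨8, by decide⟩ ((-u) ^ 3 ^ m)
  have e10 := om_x (K := K) ⟨10, by decide⟩ (-u)
  rw [R_mid, map_mul]
  change om (X 8 ((-u) ^ 3 ^ m)) = _ at e8
  change om (X 10 (-u)) = _ at e10
  rw [e8, e10, psi_tables.2.1, psi_tables.2.2.1, ← th_apply, map_neg, th_apply, neg_neg, neg_neg]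

theorem diag2_eq (a : Kˣ) : (diag2 a : SpecialLinearGroup (Fin 2) K) =
    SL2Data.upper (a : K) * lower (-(a : K)⁻¹) * SL2Data.upper (a : K) *
      (SL2Data.upper (-1) * lower 1 * SL2Data.upper (-1)) := by
  apply Subtype.ext
  show (diag2 a).1 = (SL2Data.upper (a : K)).1 * (lower (-(a : K)⁻¹)).1 * (SL2Data.upper (a : K)).1 *
    ((SL2Data.upper (-1 : K)).1 * (lower (1 : K)).1 * (SL2Data.upper (-1 : K)).1)
  ext i j
  fin_cases i <;> fin_cases j <;>
    simp [diag2, lower, SL2Data.upper, Matrix.mul_apply, Fin.sum_univ_two]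

theorem sl2_map_val {L : Type u} [CommRing L] (f : K →+* L) (g : SpecialLinearGroup (Fin 2) K) :
    (SpecialLinearGroup.map f g).1 = g.1.map f := rfl

variable (K m) in
/-- The homomorphism of `SL₂` into the centraliser of the involution of the torus. -/
theorem exists_psi (hm : IsTheta K m) :
    ∃ ψ : SpecialLinearGroup (Fin 2) K →* GL chevG2.Idx K,
      (∀ u, ψ (SL2Data.upper u) = R m 0 u 0) ∧ (∀ u, ψ (lower u) = om (R m 0 (-u) 0)) ∧
      (∀ a : Kˣ, ψ (diag2 a) =
        torusHom (coH 8 (Units.map (th K m).toMonoidHom a) * coH 10 a)) ∧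
      (∀ g, ψ g ∈ twistedG2 K (3 ^ m) ∧ Commute (tor m (-1)) (ψ g)) := by
  obtain ⟨φ, hu, hl⟩ := hasSL2 facts_chevG2 (F := K) (r := 8) (by decide)
  obtain ⟨φ', hu', hl'⟩ := hasSL2 facts_chevG2 (F := K) (r := 10) (by decide)
  simp only [psi_tables.2.1] at hl
  simp only [psi_tables.2.2.1] at hl'
  have dia : ∀ {r : ℕ} (hr : r < chevG2.nroots)
      {f : SpecialLinearGroup (Fin 2) K →* GL chevG2.Idx K},
      (∀ (g : SpecialLinearGroup (Fin 2) K) (t : K),
        (g : Matrix (Fin 2) (Fin 2) K) = !![1, t; 0, 1] → f g = xG facts_chevG2 r t) →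
      (∀ (g : SpecialLinearGroup (Fin 2) K) (t : K),
        (g : Matrix (Fin 2) (Fin 2) K) = !![1, 0; t, 1] → f g = xG facts_chevG2 (chevG2.neg r) t) →
      ∀ a : Kˣ, f (diag2 a) = torusHom (coH r a) := by
    intro r hr f h1 h2 a
    have h1' : ∀ t, f (SL2Data.upper t) = xG facts_chevG2 r t := fun t => h1 _ t rfl
    have h2' : ∀ t, f (lower t) = xG facts_chevG2 (chevG2.neg r) t := fun t => h2 _ t rfl
    rw [← hG_eq_torus facts_chevG2 hr, diag2_eq, hG, nG, nG]
    simp only [map_mul, h1', h2', inv_neg, inv_one, neg_neg]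
  have hcm : ∀ g h, Commute (φ' g) (φ h) := by
    have key : ∀ h, ∀ r ∈ ([10, 1] : List ℕ), ∀ t, Commute (X r t) (φ h) := by
      intro h r hr t
      refine sl2_gen ((Subgroup.centralizer {X r t}).toSubmonoid.comap φ) (fun v => ?_)
        (fun v => ?_) h (X r t) rfl
      · show φ (SL2Data.upper v) ∈ Subgroup.centralizer _
        rw [hu _ v rfl, Subgroup.mem_centralizer_singleton_iff]
        simp only [List.mem_cons, List.not_mem_nil, or_false] at hr
        rcases hr with rfl | rfl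
        · exact (pair_comm (by decide) v t).eq.symm
        · exact (pair_comm (by decide) v t).eq.symm
      · show φ (lower v) ∈ Subgroup.centralizer _
        rw [hl (lower v) v rfl, Subgroup.mem_centralizer_singleton_iff]
        simp only [List.mem_cons, List.not_mem_nil, or_false] at hr
        rcases hr with rfl | rfl
        · exact (pair_comm (by decide) v t).eq.symm
        · exact (pair_comm (by decide) v t).eq.symm
    intro g h
    refine (sl2_gen ((Subgroup.centralizer {φ h}).toSubmonoid.comap φ') (fun v => ?_)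
      (fun v => ?_) g (φ h) rfl).symm
    · show φ' (SL2Data.upper v) ∈ Subgroup.centralizer _
      rw [hu' _ v rfl, Subgroup.mem_centralizer_singleton_iff]
      exact (key h 10 (by simp) v).eq
    · show φ' (lower v) ∈ Subgroup.centralizer _
      rw [hl' (lower v) v rfl, Subgroup.mem_centralizer_singleton_iff]
      exact (key h 1 (by simp) v).eq
  set θ := SpecialLinearGroup.map (n := Fin 2) (th K m) with hθ
  let ψ : SpecialLinearGroup (Fin 2) K →* GL chevG2.Idx K :=
    { toFun := fun g => φ (θ g) * φ' g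
      map_one' := by rw [map_one, map_one, map_one, one_mul]
      map_mul' := fun a b => by
        rw [map_mul, map_mul, map_mul, mul_assoc, ← mul_assoc (φ (θ b)), ← (hcm a (θ b)).eq]
        simp only [mul_assoc] }
  have eu : ∀ u, ψ (SL2Data.upper u) = R m 0 u 0 := fun u => by
    show φ (θ (SL2Data.upper u)) * φ' (SL2Data.upper u) = _
    rw [hu _ (th K m u) ?_, hu' _ u rfl, R_mid, th_apply]
    show (SL2Data.upper u).1.map (th K m) = _
    ext i j
    fin_cases i <;> fin_cases j <;> simp [SL2Data.upper]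
  have el : ∀ u, ψ (lower u) = om (R m 0 (-u) 0) := fun u => by
    show φ (θ (lower u)) * φ' (lower u) = _
    rw [hl _ (th K m u) ?_, hl' _ u rfl, omR_mid, th_apply]
    show (lower u).1.map (th K m) = _
    ext i j
    fin_cases i <;> fin_cases j <;> simp [lower]
  have hj : ∀ u : K, Commute (tor m (-1)) (R m 0 u 0) := fun u => by
    have e := tor_conj_R_eq hm (-1) 0 u 0
    have h : ((th K m ((-1 : Kˣ) : K)) ^ 3 / ((-1 : Kˣ) : K)) = 1 := by
      rw [Units.val_neg, Units.val_one, map_neg, map_one]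
      norm_num
    rw [h, one_mul, mul_zero, mul_zero] at e
    exact mul_inv_eq_iff_eq_mul.1 e
  refine ⟨ψ, eu, el, fun a => ?_, fun g => ?_⟩
  · show φ (θ (diag2 a)) * φ' (diag2 a) = _
    rw [show θ (diag2 a) = diag2 (Units.map (th K m).toMonoidHom a) from Subtype.ext ?_,
      dia (by decide) hu (by rw [psi_tables.2.1]; exact hl),
      dia (by decide) hu' (by rw [psi_tables.2.2.1]; exact hl'), map_mul]
    show (diag2 a).1.map (th K m) = _
    ext i j
    fin_cases i <;> fin_cases j <;> simp [diag2, map_inv₀]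
  · have h := sl2_gen ((twistedG2 K (3 ^ m) ⊓
      Subgroup.centralizer {tor m (-1)}).toSubmonoid.comap ψ) (fun u => ?_) (fun u => ?_) g
    · exact ⟨h.1, ((Subgroup.mem_centralizer_singleton_iff.1 h.2)).symm⟩
    · show ψ (SL2Data.upper u) ∈ twistedG2 K (3 ^ m) ⊓ Subgroup.centralizer {tor m (-1)}
      rw [eu]
      exact ⟨R_mem_G1 _ _ _, Subgroup.mem_centralizer_singleton_iff.2 (hj u).eq.symm⟩
    · show ψ (lower u) ∈ twistedG2 K (3 ^ m) ⊓ Subgroup.centralizer {tor m (-1)}
      rw [el]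
      refine ⟨omR_mem_G1 _ _ _, Subgroup.mem_centralizer_singleton_iff.2 ?_⟩
      have := (hj (-u)).map om
      rw [om_tor, inv_neg, inv_one] at this
      exact this.eq.symm

theorem sl2_decomp (g : SpecialLinearGroup (Fin 2) K) (hc : g.1 1 0 ≠ 0) :
    g = SL2Data.upper ((g.1 0 0 - 1) / g.1 1 0) * lower (g.1 1 0) *
      SL2Data.upper ((g.1 1 1 - 1) / g.1 1 0) := by
  have hd := SL2Data.det_eq g
  apply Subtype.ext
  show g.1 = (SL2Data.upper ((g.1 0 0 - 1) / g.1 1 0)).1 * (lower (g.1 1 0)).1 *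
      (SL2Data.upper ((g.1 1 1 - 1) / g.1 1 0)).1
  ext i j
  fin_cases i <;> fin_cases j <;>
    simp [lower, SL2Data.upper, Matrix.mul_apply, Fin.sum_univ_two, hc]
  · field_simp
    linear_combination -hd
  · field_simp
    ring

theorem sl2_triangular (g : SpecialLinearGroup (Fin 2) K) (hc : g.1 1 0 = 0) :
    ∃ (x : K) (a : Kˣ), g = SL2Data.upper x * diag2 a := by
  have hdet := SL2Data.det_eq g
  rw [hc, mul_zero, sub_zero] at hdet
  have ha : g.1 0 0 ≠ 0 := left_ne_zero_of_mul_eq_one hdet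
  refine ⟨g.1 0 0 * g.1 0 1, Units.mk0 _ ha, Subtype.ext ?_⟩
  show g.1 = (SL2Data.upper (g.1 0 0 * g.1 0 1)).1 * (diag2 (Units.mk0 _ ha)).1
  have hd : g.1 1 1 = (g.1 0 0)⁻¹ := (inv_eq_of_mul_eq_one_right hdet).symm
  ext i j
  fin_cases i <;> fin_cases j <;>
    simp [diag2, SL2Data.upper, Matrix.mul_apply, Fin.sum_univ_two, hc, hd] <;> field_simp

theorem om_eq_one {g : GL chevG2.Idx K} (h : om g = 1) : g = 1 := by
  have hi : ∀ a : chevG2.Idx, negI (negI a) = a := by decide +kernel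
  apply Units.ext
  ext a b
  have e := congrArg (fun x : GL chevG2.Idx K => x.val (negI a) (negI b)) h
  simp only [om_val, hi, Units.val_one] at e
  rw [e, Units.val_one, Matrix.one_apply, Matrix.one_apply]
  simp only [negI.injective.eq_iff]

theorem omR_mem_neg (u : K) : om (R m 0 (-u) 0) ∈ chevG2.negUnipotent K := by
  rw [omR_mid]
  exact mul_mem (mem_negUnipotent_of facts_chevG2 (by decide) (by rw [psi_tables.2.2.2.2.2.2.2.2]; decide) _)
    (mem_negUnipotent_of facts_chevG2 (by decide) (by rw [psi_tables.2.2.2.2.2.2.2.2]; decide) _)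

theorem th_sign {a : Kˣ} (h : (th K m (a : K)) ^ 2 = 1) : (a : K) = th K m (a : K) := by
  have h1 : th K m ((a : K) ^ 2) = th K m 1 := by rw [map_pow, h, map_one]
  rcases sq_eq_one_iff.1 ((th K m).injective h1) with e | e <;> rw [e]
  · rw [map_one]
  · rw [map_neg, map_one]

/-- The elements of `SL₂` going to `±1` in the torus. -/
theorem psi_diag {ψ : SpecialLinearGroup (Fin 2) K →* GL chevG2.Idx K}
    (hu : ∀ u, ψ (SL2Data.upper u) = R m 0 u 0) (hl : ∀ u, ψ (lower u) = om (R m 0 (-u) 0))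
    (hd : ∀ a : Kˣ, ψ (diag2 a) =
      torusHom (coH 8 (Units.map (th K m).toMonoidHom a) * coH 10 a))
    {g : SpecialLinearGroup (Fin 2) K} {c : Kˣ} (hc : c = 1 ∨ c = -1) (e : ψ g = tor m c) :
    c = 1 ∧ ∃ r : K, r ^ 2 = 1 ∧ g.1 = Matrix.scalar (Fin 2) r := by
  have hU : ∀ u, ψ (SL2Data.upper u) ∈ chevG2.borelSubgroup K := fun u => by
    rw [hu]; exact R_mem_borel _ _ _
  have h10 : g.1 1 0 = 0 := by
    by_contra hne
    rw [sl2_decomp g hne, map_mul, map_mul] at e
    have hb : ψ (lower (g.1 1 0)) ∈ chevG2.borelSubgroup K := by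
      rw [show ψ (lower (g.1 1 0)) = (ψ (SL2Data.upper ((g.1 0 0 - 1) / g.1 1 0)))⁻¹ *
        tor m c * (ψ (SL2Data.upper ((g.1 1 1 - 1) / g.1 1 0)))⁻¹ by rw [← e]; group]
      exact mul_mem (mul_mem (inv_mem (hU _)) (tor_mem_borel c)) (inv_mem (hU _))
    rw [hl] at hb
    have h1 := (borel_inf_negUnipotent facts_chevG2).le ⟨hb, omR_mem_neg _⟩
    have h2 := om_eq_one (Subgroup.mem_bot.1 h1)
    rw [R_eq_one_iff] at h2
    exact hne (neg_eq_zero.1 h2.2.1)
  obtain ⟨x, a, rfl⟩ := sl2_triangular g h10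
  rw [map_mul, hd, hu] at e
  obtain ⟨hx, ht⟩ := posUnipotent_torus_unique facts_chevG2 (R_mem_U (m := m) 0 x 0) (one_mem _)
    (show R m 0 x 0 * torusHom _ = 1 * torusHom _ from e.trans (one_mul _).symm)
  obtain ⟨-, rfl, -⟩ := R_eq_one_iff.1 hx
  have h0 := congrArg Units.val (congrFun (torusHom_injective ht) ⟨0, by decide⟩)
  have h1 := congrArg Units.val (congrFun (torusHom_injective ht) ⟨1, by decide⟩)
  simp only [Pi.mul_apply, tp, coH, MonoidHom.coe_mk, OneHom.coe_mk, psi_tables.2.2.2.2.1,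
    psi_tables.2.2.2.2.2.1, psi_tables.2.2.2.2.2.2.1, psi_tables.2.2.2.2.2.2.2.1, zpow_one,
    zpow_ofNat, Units.val_mul, Units.val_pow_eq_pow_val, Units.coe_map, if_true,
    Nat.one_ne_zero, if_false, RingHom.toMonoidHom_eq_coe, MonoidHom.coe_coe] at h0 h1
  have hc' : th K m (c : K) = (c : K) := by
    rcases hc with rfl | rfl <;> simp
  rw [hc'] at h0
  have hA : th K m (a : K) ≠ 0 := fun h => a.ne_zero ((map_eq_zero (th K m)).1 h)
  have h2 : (th K m (a : K)) ^ 2 = 1 := by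
    refine mul_left_cancel₀ (mul_ne_zero hA a.ne_zero) ?_
    rw [mul_one]
    linear_combination h1 - h0
  have h3 := th_sign h2
  have hc1 : c = 1 := Units.ext (by
    rw [Units.val_one]; linear_combination -h0 + (th K m (a : K)) * h3 + h2)
  refine ⟨hc1, (a : K), by rw [h3]; exact h2, ?_⟩
  have hinv : (a : K)⁻¹ = a := by
    refine inv_eq_of_mul_eq_one_right ?_
    rw [h3]; linear_combination h2
  show (SL2Data.upper (0 : K)).1 * (diag2 a).1 = _
  ext i j
  fin_cases i <;> fin_cases j <;>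
    simp [diag2, SL2Data.upper, Matrix.mul_apply, Fin.sum_univ_two, hinv]

theorem psi_center {ψ : SpecialLinearGroup (Fin 2) K →* GL chevG2.Idx K}
    (hd : ∀ a : Kˣ, ψ (diag2 a) =
      torusHom (coH 8 (Units.map (th K m).toMonoidHom a) * coH 10 a))
    {g : SpecialLinearGroup (Fin 2) K} (hg : g ∈ Subgroup.center _) : ψ g = 1 := by
  obtain ⟨r, hr, e⟩ := Matrix.SpecialLinearGroup.mem_center_iff.1 hg
  rw [Fintype.card_fin] at hr
  have hr0 : r ≠ 0 := fun h => by simp [h] at hr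
  obtain ⟨a, rfl⟩ : ∃ a : Kˣ, r = a := ⟨Units.mk0 r hr0, rfl⟩
  have hinv : (a : K)⁻¹ = a := inv_eq_of_mul_eq_one_right (by linear_combination hr)
  have hg' : g = diag2 a := Subtype.ext (by
    rw [← e]
    show _ = !![(a : K), 0; 0, (a : K)⁻¹]
    ext i j
    fin_cases i <;> fin_cases j <;> simp [hinv])
  rw [hg', hd]
  have h2 : a * a = 1 := Units.ext (by rw [Units.val_mul, Units.val_one]; linear_combination hr)
  have hθ : Units.map (th K m).toMonoidHom a = a := Units.ext (by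
    show th K m (a : K) = a
    rcases sq_eq_one_iff.1 hr with h | h <;> rw [h] <;> simp)
  rw [hθ, show (coH (D := chevG2) 8 a * coH 10 a : Fin chevG2.rank → Kˣ) = 1 from ?_, map_one]
  funext i
  have : (i : ℕ) = 0 ∨ (i : ℕ) = 1 := by
    have := i.2
    change (i : ℕ) < 2 at this
    omega
  rcases this with h | h <;>
    simp [coH, h, psi_tables.2.2.2.2.1, psi_tables.2.2.2.2.2.1, psi_tables.2.2.2.2.2.2.1,
      psi_tables.2.2.2.2.2.2.2.1, h2, zpow_ofNat, pow_succ]

end Psi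

section Main

variable {K : Type u} [Field K] [Fintype K] [CharP K 3] {m : ℕ}
  (hK : Fintype.card K = 3 ^ (2 * m + 1))

/-- The involution of the torus. -/
noncomputable def invJ : ↥(twistedG2 K (3 ^ m)) := ⟨tor m (-1), tor_neg_one_mem_G1⟩

omit [Fintype K] in
theorem invJ_sq : (invJ : ↥(twistedG2 K (3 ^ m))) * invJ = 1 :=
  Subtype.ext (show tor m (-1) * tor m (-1) = 1 by rw [← map_mul, neg_mul_neg, one_mul, map_one])

omit [Fintype K] in
theorem neg_one_ne_one : (-1 : Kˣ) ≠ 1 := fun h => by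
  have h' : (-1 : K) = 1 := by simpa using congrArg Units.val h
  have h2 : (1 : K) = 0 := by linear_combination h' + three_eq (K := K)
  exact one_ne_zero h2

omit [Fintype K] in
theorem fix_half (hm : IsTheta K m) {t u v : K}
    (h : tor m (-1) * R m t u v * (tor m (-1))⁻¹ = R m t u v) : t = 0 ∧ v = 0 := by
  rw [tor_conj_R_eq hm, Units.val_neg, Units.val_one, map_neg, map_one] at h
  obtain ⟨h1, -, h3⟩ := R_injective m h
  have e1 : ∀ x : K, -x = x → x = 0 := fun x hx => by linear_combination hx + x * three_eq (K := K)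
  exact ⟨e1 t (by linear_combination h1), e1 v (by linear_combination h3)⟩

include hK

theorem eq_invJ (a : ↥(twistedG2 K (3 ^ m)))
    (haH : (a : GL chevG2.Idx K) ∈ chevG2.diagonalSubgroup K) (ha1 : a ≠ 1) (ha2 : a * a = 1) :
    a = invJ := by
  obtain ⟨c, hc⟩ := (inf_diagonal hK).le ⟨haH, a.2⟩
  have h2 : c * c = 1 := tor_injective (m := m) (by
    rw [map_mul, hc, map_one]; exact congrArg Subtype.val ha2)
  have h3 : (c : K) ^ 2 = 1 := by rw [sq, ← Units.val_mul, h2, Units.val_one]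
  rcases sq_eq_one_iff.1 h3 with e | e
  · exfalso
    refine ha1 (Subtype.ext ?_)
    rw [← hc, show c = 1 from Units.ext e, map_one]; rfl
  · refine Subtype.ext ?_
    rw [← hc, show c = -1 from Units.ext (by rw [e, Units.val_neg, Units.val_one])]; rfl

theorem card_centralizer_le :
    Nat.card ↥(Subgroup.centralizer {(invJ : ↥(twistedG2 K (3 ^ m)))}) ≤
      (3 ^ (2 * m + 1)) * (3 ^ (2 * m + 1) - 1) * (3 ^ (2 * m + 1) + 1) := by
  have hm := isTheta hK
  set J : GL chevG2.Idx K := tor m (-1) with hJ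
  have hJR : ∀ u, J * R m 0 u 0 * J⁻¹ = R m 0 u 0 := fun u => by
    rw [hJ, tor_conj_R_eq hm, Units.val_neg, Units.val_one, map_neg, map_one]
    congr 1 <;> ring
  have hJn : J * n0 * J⁻¹ = (n0 : GL chevG2.Idx K) := by
    have h := n0_conj_tor (K := K) (m := m) (-1)
    rw [inv_neg, inv_one, ← hJ, mul_inv_eq_iff_eq_mul] at h
    rw [← h, mul_inv_cancel_right]
  have hJt : ∀ c, J * tor m c * J⁻¹ = tor m c := fun c => by
    rw [hJ, ← map_mul, mul_comm, map_mul, mul_inv_cancel_right]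
  let f : (K × Kˣ) × Option K → ↥(Subgroup.centralizer {(invJ : ↥(twistedG2 K (3 ^ m)))}) :=
    fun p => ⟨⟨R m 0 p.1.1 0 * tor m p.1.2 * p.2.elim 1 (fun u => n0 * R m 0 u 0),
      mul_mem (mul_mem (R_mem_G1 _ _ _) (tor_mem_G1 hK _)) (by
        rcases p.2 with _ | u
        · exact one_mem _
        · exact mul_mem n0_mem_G1 (R_mem_G1 _ _ _))⟩, by
      rw [Subgroup.mem_centralizer_singleton_iff]
      refine Subtype.ext ?_
      show _ * J = J * _
      refine (mul_inv_eq_iff_eq_mul.1 ?_).symm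
      rw [← MulAut.conj_apply, map_mul, map_mul, MulAut.conj_apply, MulAut.conj_apply, hJR, hJt]
      rcases p.2 with _ | u
      · simp [MulAut.conj_apply]
      · simp only [Option.elim, map_mul, MulAut.conj_apply, hJn, hJR]⟩
  have hf : Function.Surjective f := by
    rintro ⟨⟨g, hg⟩, hc⟩
    have hc' : J * g * J⁻¹ = g := mul_inv_eq_iff_eq_mul.2
      (congrArg Subtype.val (Subgroup.mem_centralizer_singleton_iff.1 hc)).symm
    rcases exists_nf hm (show g ∈ fx m by rw [fx_eq hK]; exact hg) with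
      ⟨t, u, v, c, rfl⟩ | ⟨t, u, v, c, t', u', v', rfl⟩
    · rw [← MulAut.conj_apply, map_mul, MulAut.conj_apply, MulAut.conj_apply, hJt] at hc'
      obtain ⟨rfl, rfl⟩ := fix_half hm (mul_right_cancel hc')
      exact ⟨((u, c), none), Subtype.ext (Subtype.ext (mul_one _))⟩
    · rw [← MulAut.conj_apply, map_mul, map_mul, map_mul, MulAut.conj_apply, MulAut.conj_apply,
        MulAut.conj_apply, MulAut.conj_apply, hJt, hJn] at hc'
      obtain ⟨t₁, u₁, v₁, e₁⟩ := tor_conj_R hm (-1) t u v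
      obtain ⟨t₂, u₂, v₂, e₂⟩ := tor_conj_R hm (-1) t' u' v'
      rw [← hJ] at e₁ e₂
      rw [e₁, e₂] at hc'
      obtain ⟨h1, h2⟩ := (normalForm_unique facts_chevG2
        (mul_mem (R_mem_borel _ _ _) (tor_mem_borel _))
        (mul_mem (R_mem_borel _ _ _) (tor_mem_borel _)) n0_mem_monomial n0_mem_monomial
        (by rw [monPerm_eq facts_chevG2 n0_isMon]; exact posU_le_uMinus (R_mem_U _ _ _))
        (by rw [monPerm_eq facts_chevG2 n0_isMon]; exact posU_le_uMinus (R_mem_U _ _ _)) hc').2 rfl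
      rw [← e₁] at h1
      rw [← e₂] at h2
      obtain ⟨rfl, rfl⟩ := fix_half hm (mul_right_cancel h1)
      obtain ⟨rfl, rfl⟩ := fix_half hm h2
      exact ⟨((u, c), some u'), Subtype.ext (Subtype.ext (mul_assoc _ _ _).symm)⟩
  refine (Nat.card_le_card_of_surjective f hf).trans (le_of_eq ?_)
  rw [Nat.card_prod, Nat.card_prod, Finite.card_option, Nat.card_units, Nat.card_eq_fintype_card,
    hK]

omit hK in
/-- The homomorphism from the group of order two onto an involution. -/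
def twoHom {G : Type*} [Group G] (x : G) (hx : x * x = 1) : Multiplicative (ZMod 2) →* G where
  toFun t := if t = 1 then 1 else x
  map_one' := if_pos rfl
  map_mul' a b := by
    rcases (by decide : ∀ s : Multiplicative (ZMod 2), s = 1 ∨ s = Multiplicative.ofAdd 1) a with
      rfl | rfl <;>
    rcases (by decide : ∀ s : Multiplicative (ZMod 2), s = 1 ∨ s = Multiplicative.ofAdd 1) b with
      rfl | rfl <;> simp [hx, ← ofAdd_add, show (1 : ZMod 2) + 1 = 0 from by decide]

theorem exists_psiG :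
    ∃ ψ : SpecialLinearGroup (Fin 2) K →* ↥(twistedG2 K (3 ^ m)),
      (∀ g, Commute invJ (ψ g)) ∧ (∀ g, ψ g ≠ invJ) ∧
      (∀ g, ψ g = 1 ↔ g ∈ Subgroup.center _) := by
  obtain ⟨ψ, hu, hl, hd, hmem⟩ := exists_psi K m (isTheta hK)
  refine ⟨ψ.codRestrict _ fun g => (hmem g).1, fun g => Subtype.ext (hmem g).2.eq,
    fun g e => ?_, fun g => ⟨fun e => ?_, fun h => Subtype.ext (psi_center hd h)⟩⟩
  · exact neg_one_ne_one ((psi_diag hu hl hd (Or.inr rfl) (congrArg Subtype.val e)).1)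
  · obtain ⟨-, r, hr, e'⟩ := psi_diag hu hl hd (Or.inl rfl)
      ((congrArg Subtype.val e).trans (map_one (tor m)).symm)
    exact Matrix.SpecialLinearGroup.mem_center_iff.2 ⟨r, by rwa [Fintype.card_fin], e'.symm⟩

theorem centralizer_hom {ψ : SpecialLinearGroup (Fin 2) K →* ↥(twistedG2 K (3 ^ m))}
    (hc : ∀ g, Commute invJ (ψ g)) (hne : ∀ g, ψ g ≠ invJ)
    (hker : ∀ g, ψ g = 1 ↔ g ∈ Subgroup.center _) :
    ∃ f : Multiplicative (ZMod 2) × ProjectiveSpecialLinearGroup (Fin 2) K →*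
        ↥(Subgroup.centralizer {(invJ : ↥(twistedG2 K (3 ^ m)))}),
      Function.Bijective f ∧
      ∀ (a : Multiplicative (ZMod 2)) (g : SpecialLinearGroup (Fin 2) K),
        (f (a, g) : ↥(twistedG2 K (3 ^ m))) = twoHom invJ invJ_sq a * ψ g := by
  set C := Subgroup.centralizer {(invJ : ↥(twistedG2 K (3 ^ m)))}
  let ψ' : ProjectiveSpecialLinearGroup (Fin 2) K →* ↥C :=
    QuotientGroup.lift _
      (ψ.codRestrict C fun g => Subgroup.mem_centralizer_singleton_iff.2 (hc g).eq.symm)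
      (fun g hg => Subtype.ext ((hker g).2 hg))
  let jC : ↥C := ⟨invJ, Subgroup.mem_centralizer_singleton_iff.2 rfl⟩
  have hj : jC * jC = 1 := Subtype.ext invJ_sq
  have hcomm : ∀ a b, Commute (twoHom jC hj a) (ψ' b) := by
    intro a b
    induction b using QuotientGroup.induction_on with
    | _ g =>
      rw [twoHom]
      simp only [MonoidHom.coe_mk, OneHom.coe_mk]
      split_ifs
      · exact Commute.one_left _
      · exact Subtype.ext (hc g).eq
  let f := (twoHom jC hj).noncommCoprod ψ' hcomm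
  have hinj : Function.Injective f := by
    refine (injective_iff_map_eq_one f).2 ?_
    rintro ⟨a, b⟩ e
    induction b using QuotientGroup.induction_on with
    | _ g =>
      rcases (by decide : ∀ s : Multiplicative (ZMod 2), s = 1 ∨ s = Multiplicative.ofAdd 1) a with
        rfl | rfl
      · change twoHom jC hj 1 * ψ' g = 1 at e
        rw [map_one, one_mul] at e
        exact Prod.ext rfl ((QuotientGroup.eq_one_iff g).2 ((hker g).1 (congrArg Subtype.val e)))
      · exfalso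
        have e' : invJ * ψ g = 1 := congrArg Subtype.val e
        exact hne g ((eq_inv_of_mul_eq_one_right e').trans
          (inv_eq_of_mul_eq_one_left invJ_sq))
  refine ⟨f, hinj.bijective_of_nat_card_le ((card_centralizer_le hK).trans (le_of_eq ?_)),
    fun a g => ?_⟩
  rotate_left
  · show ((twoHom jC hj a : ↥C) : ↥(twistedG2 K (3 ^ m))) * ψ g = _
    simp only [twoHom, MonoidHom.coe_mk, OneHom.coe_mk]
    split_ifs <;> rfl
  have h := Classical.card_psl_mul (ι := Fin 2) (F := K)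
  rw [Classical.card_sl2, Fintype.card_fin, hK] at h
  have hg : Nat.gcd 2 (3 ^ (2 * m + 1) - 1) = 2 := by
    have h3 : Odd (3 ^ (2 * m + 1)) := Odd.pow (by decide)
    obtain ⟨k, hk⟩ := h3
    rw [hk, Nat.add_sub_cancel, Nat.gcd_mul_right_right]
  rw [hg] at h
  rw [Nat.card_prod, show Nat.card (Multiplicative (ZMod 2)) = 2 by simp, h]
  rw [mul_assoc, show ((3 : ℕ) ^ (2 * m + 1)) ^ 2 - 1 = (3 ^ (2 * m + 1) + 1) * (3 ^ (2 * m + 1) - 1) from
    Nat.sq_sub_sq _ 1 |> fun e => by simpa using e]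
  ring

theorem centralizer_iso :
    Nonempty (↥(Subgroup.centralizer {(invJ : ↥(twistedG2 K (3 ^ m)))}) ≃*
      Multiplicative (ZMod 2) × ProjectiveSpecialLinearGroup (Fin 2) K) := by
  obtain ⟨ψ, hc, hne, hker⟩ := exists_psiG hK
  obtain ⟨f, hf, -⟩ := centralizer_hom hK hc hne hker
  exact ⟨(MulEquiv.ofBijective f hf).symm⟩

omit hK in
/-- The two anticommuting square roots of `-1`. -/
def quatV : SpecialLinearGroup (Fin 2) K :=
  ⟨!![1, 1; 1, -1], by
    rw [det_fin_two_of]; linear_combination -three_eq (K := K)⟩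

omit hK in
/-- The central involution of `SL₂`. -/
def negSL : SpecialLinearGroup (Fin 2) K := ⟨!![-1, 0; 0, -1], by simp [det_fin_two_of]⟩

omit hK [Fintype K] in
theorem quat_facts :
    (SL2Data.weyl (F := K)).1 * (SL2Data.weyl (F := K)).1 = (negSL (K := K)).1 ∧
    (quatV (K := K)).1 * (quatV (K := K)).1 = (negSL (K := K)).1 ∧
    (quatV (K := K)).1 * (SL2Data.weyl (F := K)).1 =
      (SL2Data.weyl (F := K)).1 * (quatV (K := K)).1 * (negSL (K := K)).1 := by
  refine ⟨?_, ?_, ?_⟩ <;> ext i j <;> fin_cases i <;> fin_cases j <;>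
    simp [quatV, negSL, SL2Data.weyl, Matrix.mul_apply, Fin.sum_univ_two] <;>
    linear_combination three_eq (K := K)

/-- An elementary abelian subgroup of order eight containing `invJ`. -/
theorem exists_eight {ψ : SpecialLinearGroup (Fin 2) K →* ↥(twistedG2 K (3 ^ m))}
    (hc : ∀ g, Commute invJ (ψ g)) (hne : ∀ g, ψ g ≠ invJ)
    (hker : ∀ g, ψ g = 1 ↔ g ∈ Subgroup.center _) :
    ∃ E : Subgroup ↥(twistedG2 K (3 ^ m)), Nat.card E = 8 ∧ (∀ x ∈ E, x * x = 1) ∧ invJ ∈ E ∧
      ψ SL2Data.weyl ∈ E ∧ ψ quatV ∈ E ∧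
      ∀ P : Subgroup ↥(twistedG2 K (3 ^ m)), invJ ∈ P → ψ SL2Data.weyl ∈ P → ψ quatV ∈ P →
        E ≤ P := by
  obtain ⟨q1, q2, q3⟩ := quat_facts (K := K)
  have hz : (negSL : SpecialLinearGroup (Fin 2) K) ∈ Subgroup.center _ :=
    Matrix.SpecialLinearGroup.mem_center_iff.2 ⟨-1, by simp, by
      ext i j
      fin_cases i <;> fin_cases j <;> simp [negSL]⟩
  have h1 := (hker _).2 hz
  have hw : ψ SL2Data.weyl * ψ SL2Data.weyl = 1 := by
    rw [← map_mul, ← h1]; exact congrArg ψ (Subtype.ext q1)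
  have hv : ψ quatV * ψ quatV = 1 := by
    rw [← map_mul, ← h1]; exact congrArg ψ (Subtype.ext q2)
  have hwv : Commute (ψ SL2Data.weyl) (ψ quatV) := by
    show ψ _ * ψ _ = ψ _ * ψ _
    symm
    rw [← map_mul, ← map_mul, show quatV * SL2Data.weyl = SL2Data.weyl * quatV *
      (negSL : SpecialLinearGroup (Fin 2) K) from
      Subtype.ext q3, map_mul ψ (_ * _), h1, mul_one]
  have c2 : ∀ {x y : ↥(twistedG2 K (3 ^ m))} (hx : x * x = 1) (hy : y * y = 1), Commute x y →
      ∀ a b, Commute (twoHom x hx a) (twoHom y hy b) := by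
    intro x y hx hy h a b
    simp only [twoHom, MonoidHom.coe_mk, OneHom.coe_mk]
    split_ifs <;> first | exact Commute.one_left _ | exact Commute.one_right _ | exact h
  let f2 := (twoHom _ hw).noncommCoprod (twoHom _ hv) (c2 hw hv hwv)
  have hjc : ∀ a b, Commute (twoHom invJ invJ_sq a) (f2 b) := by
    rintro a ⟨b, c⟩
    exact (c2 invJ_sq hw (hc _) a b).mul_right (c2 invJ_sq hv (hc _) a c)
  let f := (twoHom invJ invJ_sq).noncommCoprod f2 hjc
  have hnc : ∀ g : SpecialLinearGroup (Fin 2) K, g.1 0 1 ≠ 0 → ψ g ≠ 1 := by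
    intro g hg e
    obtain ⟨r, -, e'⟩ := Matrix.SpecialLinearGroup.mem_center_iff.1 ((hker g).1 e)
    exact hg (by rw [← e']; simp)
  have hinj : Function.Injective f := by
    refine (injective_iff_map_eq_one f).2 ?_
    rintro ⟨a, b, c⟩ e
    change twoHom invJ invJ_sq a * (twoHom _ hw b * twoHom _ hv c) = 1 at e
    simp only [twoHom, MonoidHom.coe_mk, OneHom.coe_mk] at e
    have key : ∀ g : SpecialLinearGroup (Fin 2) K, ∀ x : ↥(twistedG2 K (3 ^ m)),
        x = ψ g → invJ * x ≠ 1 := fun g x hx h =>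
      hne g (hx.symm.trans ((eq_inv_of_mul_eq_one_right h).trans
        (inv_eq_of_mul_eq_one_left invJ_sq)))
    split_ifs at e with ha hb hcc hcc hb hcc hcc
    · rw [ha, hb, hcc]; rfl
    · rw [one_mul, one_mul] at e
      exact absurd e (hnc _ (by simp [quatV]))
    · rw [one_mul, mul_one] at e
      exact absurd e (hnc _ (by simp [SL2Data.weyl]))
    · rw [one_mul, ← map_mul] at e
      refine absurd e (hnc _ ?_)
      show ((SL2Data.weyl (F := K)).1 * (quatV (K := K)).1) 0 1 ≠ 0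
      simp [SL2Data.weyl, quatV, Matrix.mul_apply, Fin.sum_univ_two]
    · exact absurd e (key 1 _ (by rw [one_mul, map_one]))
    · exact absurd e (key quatV _ (by rw [one_mul]))
    · exact absurd e (key SL2Data.weyl _ (by rw [mul_one]))
    · exact absurd e (key (SL2Data.weyl * quatV) _ (by rw [map_mul]))
  refine ⟨f.range, ?_, ?_, ⟨(Multiplicative.ofAdd (1 : ZMod 2), 1), ?_⟩,
    ⟨(1, Multiplicative.ofAdd (1 : ZMod 2), 1), ?_⟩, ⟨(1, 1, Multiplicative.ofAdd (1 : ZMod 2)), ?_⟩,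
    fun P p1 p2 p3 => ?_⟩
  · rw [← Nat.card_congr (MonoidHom.ofInjective hinj).toEquiv]; simp
  · rintro _ ⟨x, rfl⟩
    rw [← map_mul, (by decide : ∀ y : Multiplicative (ZMod 2) × Multiplicative (ZMod 2) ×
      Multiplicative (ZMod 2), y * y = 1) x, map_one]
  · change twoHom invJ invJ_sq (Multiplicative.ofAdd (1 : ZMod 2)) * f2 1 = invJ
    rw [map_one f2, mul_one]
    rfl
  · change twoHom invJ invJ_sq 1 * (twoHom (ψ SL2Data.weyl) hw (Multiplicative.ofAdd (1 : ZMod 2)) *
      twoHom (ψ quatV) hv 1) = _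
    rw [map_one (twoHom invJ invJ_sq), map_one (twoHom (ψ quatV) hv), one_mul, mul_one]
    rfl
  · change twoHom invJ invJ_sq 1 * (twoHom (ψ SL2Data.weyl) hw 1 *
      twoHom (ψ quatV) hv (Multiplicative.ofAdd (1 : ZMod 2))) = _
    rw [map_one (twoHom invJ invJ_sq), map_one (twoHom (ψ SL2Data.weyl) hw), one_mul, one_mul]
    rfl
  · rintro _ ⟨⟨a, b, c⟩, rfl⟩
    change twoHom invJ invJ_sq a * (twoHom (ψ SL2Data.weyl) hw b * twoHom (ψ quatV) hv c) ∈ P
    have hP : ∀ {x : ↥(twistedG2 K (3 ^ m))} (hx : x * x = 1), x ∈ P → ∀ t, twoHom x hx t ∈ P := by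
      intro x hx hxP t
      simp only [twoHom, MonoidHom.coe_mk, OneHom.coe_mk]
      split_ifs
      exacts [one_mem _, hxP]
    exact mul_mem (hP _ p1 _) (mul_mem (hP _ p2 _) (hP _ p3 _))

omit [CharP K 3] in
theorem two_part : ∃ k, Odd k ∧ ((3 : ℕ) ^ (2 * m + 1)) ^ 3 * (3 ^ (2 * m + 1) - 1) *
    ((3 ^ (2 * m + 1)) ^ 3 + 1) = 8 * k := by
  have h8 : ∀ n : ℕ, 3 ^ (2 * n + 1) % 8 = 3 := fun n => by
    induction n with
    | zero => rfl
    | succ n ih =>
      rw [show 2 * (n + 1) + 1 = 2 * n + 1 + 2 by ring, pow_add, Nat.mul_mod, ih]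
      norm_num
  obtain ⟨j, hj⟩ : ∃ j, 3 ^ (2 * m + 1) = 8 * j + 3 :=
    ⟨3 ^ (2 * m + 1) / 8, by have := h8 m; omega⟩
  obtain ⟨i, hi⟩ : ∃ i, (8 * j + 3) ^ 3 = 8 * i + 3 :=
    ⟨64 * j ^ 3 + 72 * j ^ 2 + 27 * j + 3, by ring⟩
  rw [hj, hi, show 8 * j + 3 - 1 = 2 * (4 * j + 1) by omega,
    show 8 * i + 3 + 1 = 4 * (2 * i + 1) by omega]
  refine ⟨(8 * i + 3) * (4 * j + 1) * (2 * i + 1), ?_, by ring⟩
  refine Odd.mul (Odd.mul ⟨4 * i + 1, by ring⟩ ⟨2 * j, by ring⟩) ⟨i, by ring⟩

theorem factorization_two :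
    (Nat.card ↥(twistedG2 K (3 ^ m))).factorization 2 = 3 := by
  obtain ⟨k, hk, e⟩ := two_part hK
  rw [card_G1 hK, e, Nat.factorization_mul (by norm_num) hk.pos.ne', Finsupp.add_apply,
    show (8 : ℕ) = 2 ^ 3 by rfl, Nat.factorization_pow, Finsupp.smul_apply,
    Nat.prime_two.factorization_self, Nat.factorization_eq_zero_of_not_dvd
      (fun h => Nat.not_even_iff_odd.2 hk (even_iff_two_dvd.2 h))]
  rfl

/-- A Sylow 2-subgroup containing `invJ`, elementary abelian. -/
theorem exists_sylow_eight :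
    ∃ E : Sylow 2 ↥(twistedG2 K (3 ^ m)), invJ ∈ E ∧ ∀ x ∈ E, x * x = 1 := by
  obtain ⟨ψ, hc, hne, hker⟩ := exists_psiG hK
  obtain ⟨E, h8, h2, hj, -⟩ := exists_eight hK hc hne hker
  exact ⟨Sylow.ofCard E (by rw [h8, factorization_two hK]; rfl), hj, h2⟩

theorem sylow_two (S : Sylow 2 ↥(twistedG2 K (3 ^ m))) :
    Nat.card S = 8 ∧ ∀ x ∈ S, x * x = 1 := by
  obtain ⟨E, -, hE⟩ := exists_sylow_eight hK
  refine ⟨by rw [S.card_eq_multiplicity, factorization_two hK]; rfl, fun x hx => ?_⟩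
  obtain ⟨g, rfl⟩ := MulAction.exists_smul_eq ↥(twistedG2 K (3 ^ m)) E S
  obtain ⟨y, hy, rfl⟩ := hx
  rw [MulDistribMulAction.toMonoidEnd_apply]
  show MulAut.conj g y * MulAut.conj g y = 1
  rw [← map_mul, hE y hy, map_one]

end Main

end Ree

end Cfsg.Agent.Chev
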