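import Cfsg.Agent.Chev.Ree.Torus
import Cfsg.Agent.S0319
import Mathlib.GroupTheory.IsPerfect
import Mathlib.FieldTheory.Finite.Basic

/-!
The Bruhat decomposition of the fixed group, and the group `²G₂`.
-/

set_option autoImplicit false
set_option maxRecDepth 100000

namespace Cfsg.Agent.Chev

open Cfsg.Lie
open scoped MatrixGroups commutatorElement

universe u

namespace Ree

/-- Representatives of the Weyl group of `G₂`. -/
def wList : List (List (Fin chevG2.rank)) :=
  let a : Fin chevG2.rank := ⟨0, by decide⟩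
  let b : Fin chevG2.rank := ⟨1, by decide⟩
  [[], [a], [b], [a, b], [b, a], [a, b, a], [b, a, b], [a, b, a, b], [b, a, b, a],
    [a, b, a, b, a], [b, a, b, a, b], w0]

theorem wList_step : ∀ i : Fin chevG2.rank, ∀ v ∈ wList, ∃ v' ∈ wList,
    ∀ r : Fin chevG2.nroots, pWord facts_chevG2.{0} (i :: v) r = pWord facts_chevG2.{0} v' r := by
  decide +kernel

theorem exists_wList (w : List (Fin chevG2.rank)) :
    ∃ v ∈ wList, pWord facts_chevG2.{0} w = pWord facts_chevG2.{0} v := by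
  induction w with
  | nil => exact ⟨[], by simp [wList], rfl⟩
  | cons i w ih =>
    obtain ⟨v, hv, e⟩ := ih
    obtain ⟨v', hv', e'⟩ := wList_step i v hv
    refine ⟨v', hv', ?_⟩
    rw [pWord_cons, e, ← pWord_cons]
    exact Equiv.ext e'

theorem wList_fixed : ∀ v ∈ wList,
    (∀ r : Fin chevG2.nroots, g2Spec.ρ (pWord facts_chevG2.{0} v r) =
      pWord facts_chevG2.{0} v (g2Spec.ρ r)) →
    (∀ r, pWord facts_chevG2.{0} v r = r) ∨
    (∀ r, pWord facts_chevG2.{0} v r = pWord facts_chevG2.{0} w0 r) := by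
  decide +kernel

theorem rho_wPerm : ∀ i : Fin chevG2.rank, ∀ r : Fin chevG2.nroots,
    g2Spec.ρ (wPerm facts_chevG2.{0} i r) = wPerm facts_chevG2.{0} (sw i) (g2Spec.ρ r) := by
  decide +kernel

theorem rho_pos : ∀ r : Fin chevG2.nroots,
    half chevG2 ≤ (g2Spec.ρ r : ℕ) ↔ half chevG2 ≤ (r : ℕ) := by decide +kernel

theorem rho_pWord (w : List (Fin chevG2.rank)) (r : Fin chevG2.nroots) :
    g2Spec.ρ (pWord facts_chevG2.{0} w r) =
      pWord facts_chevG2.{0} (w.map sw) (g2Spec.ρ r) := by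
  induction w with
  | nil => rfl
  | cons i w ih =>
    rw [List.map_cons, pWord_cons, pWord_cons, Equiv.Perm.mul_apply, Equiv.Perm.mul_apply,
      rho_wPerm, ih]

variable {K : Type u} [Field K] [CharP K 3] {m : ℕ}

theorem isImg_nWord (w : List (Fin chevG2.rank)) :
    IsImg m (nWord facts_chevG2 w : GL chevG2.Idx K) (nWord facts_chevG2 (w.map sw)) := by
  induction w with
  | nil => exact IsImg.one
  | cons i w ih =>
    rw [List.map_cons, nWord_cons, nWord_cons]
    refine IsImg.mul ?_ ih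
    have h := isImg_nG (m := m) (sRoot facts_chevG2.{u} i) (1 : K)
    rw [map_one, one_pow, node_tables i (sRoot facts_chevG2.{u} i) rfl] at h
    exact h

theorem exists_img_posU {u : GL chevG2.Idx K} (hu : u ∈ chevG2.posUnipotent K) :
    ∃ u' ∈ chevG2.posUnipotent K, IsImg m u u' := by
  obtain ⟨a, b, c, d, e, f, rfl⟩ := exists_W hu
  exact ⟨_, W_mem _ _ _ _ _ _, W_memG _ _ _ _ _ _, sg_W m a b c d e f _⟩

theorem exists_img_borel {u : GL chevG2.Idx K} (hu : u ∈ chevG2.posUnipotent K)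
    (c : Fin chevG2.rank → Kˣ) :
    ∃ u' ∈ chevG2.posUnipotent K, ∃ c', IsImg m u u' ∧
      IsImg m (torusHom c : GL chevG2.Idx K) (torusHom c') := by
  obtain ⟨u', hu', h⟩ := exists_img_posU (m := m) hu
  obtain ⟨c₀, c₁, rfl⟩ := eq_tp c
  exact ⟨u', hu', _, h, isImg_torus c₀ c₁⟩

theorem exists_img_uMinus (w : List (Fin chevG2.rank)) {x : GL chevG2.Idx K}
    (hx : x ∈ uMinus facts_chevG2 (pWord facts_chevG2.{u} w)) :
    ∃ x' ∈ uMinus facts_chevG2 (pWord facts_chevG2.{u} (w.map sw)), IsImg m x x' := by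
  induction hx using Subgroup.closure_induction with
  | mem y hy =>
    obtain ⟨r, t, h1, h2, rfl⟩ := hy
    refine ⟨_, Subgroup.subset_closure ⟨g2Spec.ρ r, _, (rho_pos r).2 h1, ?_, rfl⟩, isImg_x r t⟩
    show (pWord facts_chevG2.{0} (w.map sw) (g2Spec.ρ r) : ℕ) < half chevG2
    rw [← rho_pWord]
    exact not_le.1 fun h => not_le.2 h2 ((rho_pos _).1 h)
  | one => exact ⟨1, one_mem _, IsImg.one⟩
  | mul y z _ _ hy hz =>
    obtain ⟨y', hy', e⟩ := hy
    obtain ⟨z', hz', e'⟩ := hz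
    exact ⟨y' * z', mul_mem hy' hz', e.mul e'⟩
  | inv y _ hy =>
    obtain ⟨y', hy', e⟩ := hy
    exact ⟨y'⁻¹, inv_mem hy', e.inv⟩

theorem monPerm_nWord (w : List (Fin chevG2.rank)) :
    monPerm facts_chevG2 (nWord facts_chevG2 w : GL chevG2.Idx K) = pWord facts_chevG2.{u} w :=
  monPerm_eq facts_chevG2 (isMon_nWord facts_chevG2 w)

theorem monPerm_one : monPerm facts_chevG2 (1 : GL chevG2.Idx K) = 1 :=
  monPerm_eq facts_chevG2 (isMon_one facts_chevG2)

theorem uMinus_w0_le {π : Equiv.Perm (Fin chevG2.nroots)} :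
    uMinus facts_chevG2 π (F := K) ≤ chevG2.posUnipotent K :=
  uMinus_le_posUnipotent facts_chevG2 π

/-- The two cells. -/
theorem exists_nf (hm : IsTheta K m) {g : GL chevG2.Idx K} (hg : g ∈ fx m) :
    (∃ t u v c, g = R m t u v * tor m c) ∨
    ∃ t u v c t' u' v', g = R m t u v * tor m c * n0 * R m t' u' v' := by
  obtain ⟨b, hb, w, x, hx, rfl⟩ := exists_normalForm facts_chevG2 (fx_le_group m hg)
  obtain ⟨v, hv, c, rfl⟩ := (mem_borel_iff facts_chevG2).1 hb
  obtain ⟨v', hv', c', iv, ic⟩ := exists_img_borel (m := m) hv c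
  obtain ⟨x', hx', ix⟩ := exists_img_uMinus (m := m) w hx
  have e := IsImg.unique (isImg_self_iff.2 hg)
    (((iv.mul ic).mul (isImg_nWord w)).mul ix)
  have hb' : v' * torusHom c' ∈ chevG2.borelSubgroup K :=
    mul_mem (Subgroup.mem_sup_left hv') (Subgroup.mem_sup_right (torusHom_mem facts_chevG2 c'))
  have hd := (normalForm_unique facts_chevG2 hb hb' (nWord_mem facts_chevG2 w)
    (nWord_mem facts_chevG2 _) (by rw [monPerm_nWord]; exact hx)
    (by rw [monPerm_nWord]; exact hx') e).1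
  obtain ⟨d, hd⟩ := (mem_diagonal_iff facts_chevG2).1 hd
  have hperm : pWord facts_chevG2.{0} (w.map sw) = pWord facts_chevG2.{0} w := by
    have h1 := isMon_mul facts_chevG2 (isMon_nWord facts_chevG2 w (F := K))
      (isMon_torus facts_chevG2 d)
    rw [hd, mul_inv_cancel_left, mul_one] at h1
    exact (isMon_unique facts_chevG2.{u} (isMon_nWord facts_chevG2 _) h1 :)
  obtain ⟨w', hw', ew⟩ := exists_wList w
  rcases wList_fixed w' hw' (fun r => by rw [← ew, rho_pWord, hperm]) with h | h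
  · have hp : pWord facts_chevG2.{0} w = 1 := ew.trans (Equiv.ext h)
    have hx1 : x = 1 := by
      refine (Subgroup.eq_bot_iff_forall _).1 (le_bot_iff.1 ((Subgroup.closure_le _).2 ?_)) x hx
      rintro y ⟨r, t, h1, h2, rfl⟩
      exfalso
      have h3 : (pWord facts_chevG2.{0} w r : ℕ) < half chevG2 := h2
      rw [hp] at h3
      exact absurd h1 (not_le.2 h3)
    subst hx1
    obtain ⟨a, ha⟩ := (mem_diagonal_iff facts_chevG2).1
      (nWord_mem_diagonal facts_chevG2 w hp (F := K))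
    rw [mul_one, ← ha, mul_assoc, ← map_mul] at hg ⊢
    obtain ⟨v'', hv'', c'', iv', ic'⟩ := exists_img_borel (m := m) hv (c * a)
    have e' := IsImg.unique (isImg_self_iff.2 hg) (iv'.mul ic')
    obtain ⟨h1, h2⟩ := posUnipotent_torus_unique facts_chevG2 hv hv'' e'
    rw [← h1] at iv'
    rw [← h2] at ic'
    obtain ⟨t, u, v₁, rfl⟩ := exists_R hm hv (isImg_self_iff.1 iv')
    obtain ⟨d, hd⟩ := exists_tor (isImg_self_iff.1 ic')
    exact Or.inl ⟨t, u, v₁, d, by rw [hd]⟩
  · have hp : pWord facts_chevG2.{0} w = pWord facts_chevG2.{0} w0 := ew.trans (Equiv.ext h)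
    have hdiag : n0⁻¹ * (nWord facts_chevG2 w : GL chevG2.Idx K) ∈ chevG2.diagonalSubgroup K := by
      refine mem_diagonal_of_isMon_one facts_chevG2
        (mul_mem (inv_mem n0_mem_monomial) (nWord_mem facts_chevG2 w)) ?_
      have h1 := isMon_monPerm facts_chevG2
        (inv_mem (n0_mem_monomial (K := K)))
      have h2 := isMon_mul facts_chevG2 n0_isMon h1
      rw [mul_inv_cancel] at h2
      have h3 := eq_inv_of_mul_eq_one_right (isMon_unique facts_chevG2 h2 (isMon_one facts_chevG2))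
      rw [h3] at h1
      have h4 := isMon_mul facts_chevG2 h1 (isMon_nWord facts_chevG2 w)
      rw [show pWord facts_chevG2.{u} w = pWord facts_chevG2.{u} w0 from hp, inv_mul_cancel] at h4
      exact h4
    obtain ⟨a, ha⟩ := (mem_diagonal_iff facts_chevG2).1 hdiag
    obtain ⟨a', ha'⟩ := nWord_torus facts_chevG2 w0 a (F := K)
    have hn : (nWord facts_chevG2 w : GL chevG2.Idx K) = torusHom a' * n0 :=
      ((mul_inv_cancel_left n0 _).symm.trans (congrArg (n0 * ·) ha.symm)).trans ha'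
    rw [hn, mul_assoc v, ← mul_assoc (torusHom c), ← map_mul] at hg ⊢
    rw [← mul_assoc v] at hg ⊢
    have hx0 : x ∈ uMinus facts_chevG2 (pWord facts_chevG2.{u} w0) (F := K) := by
      rw [← show pWord facts_chevG2.{u} w = pWord facts_chevG2.{u} w0 from hp]; exact hx
    have hx0' : x' ∈ uMinus facts_chevG2 (pWord facts_chevG2.{u} w0) (F := K) := by
      rw [← show pWord facts_chevG2.{u} w = pWord facts_chevG2.{u} w0 from hp,
        ← show pWord facts_chevG2.{u} (w.map sw) = pWord facts_chevG2.{u} w from hperm]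
      exact hx'
    obtain ⟨v'', hv'', c'', iv', ic'⟩ := exists_img_borel (m := m) hv (c * a')
    have e' := IsImg.unique (isImg_self_iff.2 hg)
      (((iv'.mul ic').mul (isImg_self_iff.2 (n0_mem_fx hm))).mul ix)
    obtain ⟨hbb, hxx⟩ := (normalForm_unique facts_chevG2
      (mul_mem (Subgroup.mem_sup_left hv) (Subgroup.mem_sup_right (torusHom_mem facts_chevG2 _)))
      (mul_mem (Subgroup.mem_sup_left hv'') (Subgroup.mem_sup_right (torusHom_mem facts_chevG2 _)))
      n0_mem_monomial n0_mem_monomial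
      (by rw [monPerm_eq facts_chevG2 n0_isMon]; exact hx0)
      (by rw [monPerm_eq facts_chevG2 n0_isMon]; exact hx0') e').2 rfl
    obtain ⟨h1, h2⟩ := posUnipotent_torus_unique facts_chevG2 hv hv'' hbb
    rw [← h1] at iv'
    rw [← h2] at ic'
    rw [← hxx] at ix
    obtain ⟨t, u, v₁, rfl⟩ := exists_R hm hv (isImg_self_iff.1 iv')
    obtain ⟨t', u', v₂, rfl⟩ := exists_R hm (uMinus_w0_le hx0) (isImg_self_iff.1 ix)
    obtain ⟨d, hd⟩ := exists_tor (isImg_self_iff.1 ic')
    exact Or.inr ⟨t, u, v₁, d, t', u', v₂, by rw [hd]⟩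

theorem tor_conj_R (hm : IsTheta K m) (c : Kˣ) (t u v : K) :
    ∃ t' u' v', tor m c * R m t u v * (tor m c)⁻¹ = R m t' u' v' :=
  exists_R hm ((Subgroup.mem_normalizer_iff.1
      (torusHom_mem_normalizer facts_chevG2 _) _).1 (R_mem_U t u v))
    (mul_mem (mul_mem (tor_mem_fx hm c) (R_mem_fx hm t u v)) (inv_mem (tor_mem_fx hm c)))

theorem n0_conj_torus (c : Fin chevG2.rank → Kˣ) :
    (n0 : GL chevG2.Idx K) * torusHom c * n0⁻¹ = torusHom c⁻¹ := by
  obtain ⟨c', hc'⟩ := nWord_torus facts_chevG2 w0 c (F := K)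
  rw [n0, hc', mul_inv_cancel_right]
  refine inv_mul_eq_one.1 ?_
  rw [← map_inv, ← map_mul, torusHom_eq_one_iff]
  intro r
  obtain ⟨s, hs⟩ : ∃ s : Fin chevG2.nroots, (s : ℕ) = chevG2.neg r :=
    ⟨⟨_, neg_lt facts_chevG2.{u} r.2⟩, rfl⟩
  obtain ⟨η, hη, he⟩ := n0_isMon (K := K) s
  have hr : pWord facts_chevG2.{u} w0 s = r := Fin.ext (by
    show (pWord facts_chevG2.{0} w0 s : ℕ) = r
    rw [pWord_w0, hs, neg_neg_root facts_chevG2.{0} r.2])
  have key : ∀ t : K, xG facts_chevG2 (r : ℕ) (η * ((chiU c (s : ℕ) : K) * t)) =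
      xG facts_chevG2 (r : ℕ) ((chiU c' (r : ℕ) : K) * (η * t)) := fun t => by
    have e1 := he ((chiU c (s : ℕ) : K) * t)
    have e2 := he t
    rw [hr] at e1 e2
    refine mul_right_cancel (b := torusHom c' * n0) ?_
    calc xG facts_chevG2 (r : ℕ) (η * ((chiU c (s : ℕ) : K) * t)) * (torusHom c' * n0)
        = xG facts_chevG2 (r : ℕ) (η * ((chiU c (s : ℕ) : K) * t)) * n0 * torusHom c := by
          rw [mul_assoc _ n0, n0, hc']
      _ = n0 * (torusHom c * xG facts_chevG2 (s : ℕ) t) := by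
          rw [← e1, torusHom_conj facts_chevG2 c s.2, mul_assoc]
      _ = torusHom c' * (xG facts_chevG2 (r : ℕ) (η * t) * n0) := by
          rw [← e2, ← mul_assoc, ← mul_assoc, n0, hc']
      _ = _ := by rw [← mul_assoc, torusHom_conj facts_chevG2 c' r.2, mul_assoc]
  have k1 := key 1
  rcases eq_or_ne ((chiU c' (r : ℕ) : K) * η) 0 with h0 | h0
  · exact absurd h0 (mul_ne_zero (Units.ne_zero _) hη)
  have k2 : chevG2.x K r ((chiU c' (r : ℕ) : K) * η) =
      chevG2.x K r (η * (chiU c (s : ℕ) : K)) := by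
    simpa using (congrArg Units.val k1).symm
  have e := (eq_of_x_eq facts_chevG2 r.2 h0 k2).2
  have e' : chiU c' (r : ℕ) = chiU c (s : ℕ) := Units.ext (by
    exact mul_right_cancel₀ hη (e.trans (mul_comm _ _)))
  have hmul : ∀ a b : Fin chevG2.rank → Kˣ, ∀ i : ℕ, chiU (a * b) i = chiU a i * chiU b i :=
    fun a b i => by simp [chiU, mul_zpow, Finset.prod_mul_distrib]
  have hinv : ∀ (a : Fin chevG2.rank → Kˣ) (i : ℕ), chiU a⁻¹ i = (chiU a i)⁻¹ :=
    fun a i => by simp [chiU, inv_zpow, Finset.prod_inv_distrib]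
  rw [hmul, hinv, hinv, e', hs, chiU_neg facts_chevG2 c r.2, inv_inv, mul_inv_cancel]

theorem n0_conj_tor (c : Kˣ) : (n0 : GL chevG2.Idx K) * tor m c * n0⁻¹ = tor m c⁻¹ := by
  show n0 * torusHom _ * n0⁻¹ = torusHom _
  rw [n0_conj_torus, tp_inv, map_inv]

theorem tor_sq_mem_G1 (hm : IsTheta K m) (c : Kˣ) : tor m (c ^ 2) ∈ twistedG2 K (3 ^ m) := by
  have hR : ∀ t u v : K, tor m c * R m t u v * (tor m c)⁻¹ ∈ twistedG2 K (3 ^ m) := fun t u v => by
    obtain ⟨t', u', v', e⟩ := tor_conj_R hm c t u v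
    rw [e]; exact R_mem_G1 _ _ _
  have hV : ∀ t u v : K,
      tor m c * om (R m t u v) * (tor m c)⁻¹ ∈ twistedG2 K (3 ^ m) := fun t u v => by
    obtain ⟨t', u', v', e⟩ := tor_conj_R hm c⁻¹ t u v
    have e2 := congrArg om e
    rw [map_mul, map_mul, map_inv om, om_tor, inv_inv] at e2
    rw [e2]; exact omR_mem_G1 _ _ _
  have hn : tor m c * n0 * (tor m c)⁻¹ ∈ twistedG2 K (3 ^ m) := by
    rw [n0_eq (m := m), show ∀ a b d : GL chevG2.Idx K, tor m c * (a * b * d) * (tor m c)⁻¹ =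
      (tor m c * a * (tor m c)⁻¹) * (tor m c * b * (tor m c)⁻¹) * (tor m c * d * (tor m c)⁻¹) from
        fun a b d => by group]
    exact mul_mem (mul_mem (hR _ _ _) (hV _ _ _)) (hR _ _ _)
  have e : tor m (c ^ 2) = (tor m c * n0 * (tor m c)⁻¹) * n0⁻¹ := by
    rw [pow_two, map_mul, mul_assoc (tor m c) n0, mul_assoc (tor m c), ← map_inv (tor (K := K) m),
      n0_conj_tor, inv_inv]
  rw [e]
  exact mul_mem hn (inv_mem n0_mem_G1)

section Finite

variable [Fintype K] (hK : Fintype.card K = 3 ^ (2 * m + 1))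
include hK

theorem isTheta : IsTheta K m := fun t => by
  rw [th_apply, th_apply, ← pow_mul, ← pow_mul,
    show 3 ^ m * (3 * 3 ^ m) = 3 ^ (2 * m + 1) by ring, ← hK, FiniteField.pow_card]

omit [CharP K 3] in
theorem exists_sq_mul_sign (c : Kˣ) : ∃ d : Kˣ, c = d ^ 2 ∨ c = d ^ 2 * -1 := by
  classical
  have h4 : ∀ n : ℕ, 3 ^ (2 * n + 1) % 4 = 3 := fun n => by
    induction n with
    | zero => rfl
    | succ n ih =>
      rw [show 2 * (n + 1) + 1 = 2 * n + 1 + 2 by ring, pow_add, Nat.mul_mod, ih]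
      norm_num
  obtain ⟨j, hj⟩ : ∃ j, Fintype.card K = 4 * j + 3 :=
    ⟨Fintype.card K / 4, by have := h4 m; rw [← hK] at this; omega⟩
  refine ⟨c ^ (j + 1), ?_⟩
  have h1 : (c ^ (2 * j + 1)) ^ 2 = 1 := by
    rw [← pow_mul, show (2 * j + 1) * 2 = Fintype.card Kˣ by rw [Fintype.card_units, hj]; omega,
      pow_card_eq_one]
  have h2 : (c ^ (j + 1)) ^ 2 = c * c ^ (2 * j + 1) := by
    rw [← pow_mul, ← pow_succ']; ring_nf
  have h3 : c ^ (2 * j + 1) = 1 ∨ c ^ (2 * j + 1) = -1 := by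
    have := congrArg Units.val h1
    rw [Units.val_pow_eq_pow_val, Units.val_one, sq_eq_one_iff] at this
    exact this.imp (fun e => Units.ext e) fun e => Units.ext e
  rcases h3 with e | e
  · exact Or.inl (by rw [h2, e, mul_one])
  · exact Or.inr (by rw [h2, e, mul_assoc, neg_one_mul, neg_neg, mul_one])

theorem tor_mem_G1 (c : Kˣ) : tor m c ∈ twistedG2 K (3 ^ m) := by
  obtain ⟨d, rfl | rfl⟩ := exists_sq_mul_sign hK c
  · exact tor_sq_mem_G1 (isTheta hK) d
  · rw [map_mul]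
    exact mul_mem (tor_sq_mem_G1 (isTheta hK) d) tor_neg_one_mem_G1

theorem fx_eq : fx m = twistedG2 K (3 ^ m) := by
  refine le_antisymm (fun g hg => ?_) (twistedG2_le_fx (isTheta hK))
  rcases exists_nf (isTheta hK) hg with ⟨t, u, v, c, rfl⟩ | ⟨t, u, v, c, t', u', v', rfl⟩
  · exact mul_mem (R_mem_G1 _ _ _) (tor_mem_G1 hK c)
  · exact mul_mem (mul_mem (mul_mem (R_mem_G1 _ _ _) (tor_mem_G1 hK c)) n0_mem_G1) (R_mem_G1 _ _ _)

end Finite

end Ree

end Cfsg.Agent.Chev
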