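import Cfsg.Agent.Chev.Ree.Tori
import Cfsg.Agent.Char.Basic
import Mathlib.Analysis.Fourier.FiniteAbelian.PontryaginDuality

/-!
A lower bound for the degrees of the nontrivial representations of `²G₂(q)`.
-/

set_option autoImplicit false
set_option maxRecDepth 100000
set_option maxHeartbeats 1000000

namespace Cfsg.Agent.Chev

open Cfsg.Lie
open scoped MatrixGroups

universe u

namespace Ree

/-- The sum of a character over a finite group is a natural multiple of its order. -/
theorem sum_char_eq {H : Type*} [Group H] [Fintype H] {V : Type*} [AddCommGroup V] [Module ℂ V]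
    [FiniteDimensional ℂ V] (σ : Representation ℂ H V) :
    ∑ h, σ.character h = (Nat.card H : ℂ) * Module.finrank ℂ σ.invariants := by
  have hne : (Nat.card H : ℂ) ≠ 0 := Nat.cast_ne_zero.2 Nat.card_pos.ne'
  haveI : Invertible (Nat.card H : ℂ) := invertibleOfNonzero hne
  rw [← σ.card_inv_mul_sum_char_eq_finrank, ← mul_assoc, mul_inv_cancel₀ hne, one_mul]

/-- The representation multiplied by a linear character. -/
noncomputable def twistRep {H : Type*} [Group H] {V : Type*} [AddCommGroup V] [Module ℂ V]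
    (σ : Representation ℂ H V) (f : H →* ℂ) : Representation ℂ H V where
  toFun h := f h • σ h
  map_one' := by rw [map_one, map_one, one_smul]
  map_mul' a b := by rw [map_mul, map_mul, smul_mul_smul_comm]

theorem character_twistRep {H : Type*} [Group H] {V : Type*} [AddCommGroup V] [Module ℂ V]
    (σ : Representation ℂ H V) (f : H →* ℂ) (h : H) :
    (twistRep σ f).character h = f h * σ.character h := by
  show LinearMap.trace ℂ V (f h • σ h) = f h * LinearMap.trace ℂ V (σ h)
  rw [map_smul, smul_eq_mul]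

variable {K : Type u} [Field K] [Fintype K] [CharP K 3] {m : ℕ}
  (hK : Fintype.card K = 3 ^ (2 * m + 1))
include hK

theorem rr_plane (a b : K × K) :
    (rr (0, a.1 + b.1, a.2 + b.2) : G1 K m) = rr (0, a.1, a.2) * rr (0, b.1, b.2) := by
  rw [rr_mul hK]
  congr 1
  simp [tw]

theorem rr_plane_conj (t u v : K) :
    (rr (t, 0, 0) : G1 K m) * rr (0, u, v) * (rr (t, 0, 0))⁻¹ = rr (0, u, v + t * u) := by
  rw [mul_inv_eq_iff_eq_mul, rr_mul hK, rr_mul hK]
  congr 1
  simp [tw]

theorem plane_conj (c : Kˣ) (t u v : K) :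
    tt hK c * rr (t, 0, 0) * rr (0, u, v) * (tt hK c * rr (t, 0, 0))⁻¹ =
      rr (0, (mu m c : K) * u, (c : K) * (v + t * u)) := by
  rw [mul_inv_rev, ← mul_assoc, mul_assoc (tt hK c), mul_assoc (tt hK c), rr_plane_conj hK,
    tt_conj_rr hK, mul_zero]

/-- The main theorem. -/
theorem min_degree (hm : 1 ≤ m) {k : ℕ} (ρ : Representation ℂ (G1 K m) (Fin k → ℂ))
    (hρ : ρ.IsIrreducible) (hk : 2 ≤ k) :
    (3 ^ (2 * m + 1)) ^ 2 - 3 ^ (2 * m + 1) + 1 ≤ k := by
  classical
  haveI := (simple hK hm).1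
  haveI : Finite (G1 K m) := inferInstance
  have h8 := pow_odd_mod m
  set χ : G1 K m → ℂ := ρ.character with hχdef
  have hcl : ∀ g x : G1 K m, χ (g * x * g⁻¹) = χ x := fun g x => ρ.char_conj x g
  -- the abelian subgroup `rr (0, *, *)`
  let F : Multiplicative (K × K) →* G1 K m :=
    { toFun := fun w => rr (0, w.toAdd.1, w.toAdd.2)
      map_one' := rr_zero
      map_mul' := fun a b => rr_plane hK a.toAdd b.toAdd }
  have hdim : Module.finrank ℂ (Fin k → ℂ) = k := by rw [Module.finrank_pi, Fintype.card_fin]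
  -- multiplicities
  let σ : AddChar (K × K) ℂ → Representation ℂ (Multiplicative (K × K)) (Fin k → ℂ) := fun ψ =>
    twistRep (ρ.comp F) (ψ⁻¹).toMonoidHom
  let d : AddChar (K × K) ℂ → ℕ := fun ψ => Module.finrank ℂ (σ ψ).invariants
  set N : ℂ := (Fintype.card (K × K) : ℂ) with hN
  have hN0 : N ≠ 0 := Nat.cast_ne_zero.2 Fintype.card_ne_zero
  have hd : ∀ ψ, N * (d ψ : ℂ) = ∑ w : K × K, ψ (-w) * χ (rr (0, w.1, w.2)) := by
    intro ψ
    have h := sum_char_eq (σ ψ)
    rw [Nat.card_eq_fintype_card, Fintype.card_multiplicative] at h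
    rw [hN, ← h]
    refine (Fintype.sum_equiv Multiplicative.ofAdd _ _ fun w => ?_).symm
    rw [character_twistRep]
    rfl
  have hinv : ∀ w : K × K, ∑ ψ, (d ψ : ℂ) * ψ w = χ (rr (0, w.1, w.2)) := by
    intro w
    refine mul_left_cancel₀ hN0 ?_
    rw [Finset.mul_sum]
    simp only [← mul_assoc, hd, Finset.sum_mul]
    rw [Finset.sum_comm]
    rw [Finset.sum_eq_single w]
    · have : ∀ ψ : AddChar (K × K) ℂ, ψ (-w) * χ (rr (0, w.1, w.2)) * ψ w = χ (rr (0, w.1, w.2)) := by
        intro ψ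
        rw [mul_right_comm, ← AddChar.map_add_eq_mul, neg_add_cancel, AddChar.map_zero_eq_one, one_mul]
      simp only [this, Finset.sum_const, Finset.card_univ, AddChar.card_eq, nsmul_eq_mul, ← hN]
    · intro x _ hx
      have : ∀ ψ : AddChar (K × K) ℂ, ψ (-x) * χ (rr (0, x.1, x.2)) * ψ w =
          χ (rr (0, x.1, x.2)) * ψ (-x + w) := by
        intro ψ
        rw [AddChar.map_add_eq_mul]
        ring
      simp only [this, ← Finset.mul_sum]
      rw [AddChar.sum_apply_eq_ite, if_neg, mul_zero]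
      intro e
      exact hx (neg_add_eq_zero.1 e)
    · exact fun h => absurd (Finset.mem_univ _) h
  have hsum : ∑ ψ, d ψ = k := by
    have h := hinv 0
    simp only [AddChar.map_zero_eq_one, mul_one, Prod.fst_zero, Prod.snd_zero] at h
    rw [rr_zero, hχdef, Representation.char_one, hdim] at h
    exact_mod_cast h
  -- the action of the Borel subgroup
  let act : Kˣ × K → (K × K) ≃+ (K × K) := fun p =>
    { toFun := fun w => ((mu m p.1 : K) * w.1, (p.1 : K) * (w.2 + p.2 * w.1))
      invFun := fun w => (((mu m p.1)⁻¹ : Kˣ) * w.1,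
        ((p.1)⁻¹ : Kˣ) * w.2 - p.2 * (((mu m p.1)⁻¹ : Kˣ) * w.1))
      left_inv := fun w => by
        ext
        · simp
        · simp [← mul_assoc]
      right_inv := fun w => by
        ext
        · simp
        · simp [← mul_assoc]
      map_add' := fun a b => by ext <;> simp <;> ring }
  have hact : ∀ (p : Kˣ × K) (ψ : AddChar (K × K) ℂ),
      d (ψ.compAddMonoidHom (act p).toAddMonoidHom) = d ψ := by
    intro p ψ
    have : N * (d (ψ.compAddMonoidHom (act p).toAddMonoidHom) : ℂ) = N * (d ψ : ℂ) := by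
      rw [hd, hd]
      refine Fintype.sum_equiv (act p).toEquiv _ _ fun w => ?_
      show ψ (act p (-w)) * χ (rr (0, w.1, w.2)) =
        ψ (-act p w) * χ (rr (0, (act p w).1, (act p w).2))
      rw [map_neg]
      congr 1
      show χ (rr (0, w.1, w.2)) = χ (rr (0, (mu m p.1 : K) * w.1, (p.1 : K) * (w.2 + p.2 * w.1)))
      rw [← plane_conj hK, hcl]
    exact_mod_cast mul_left_cancel₀ hN0 this
  -- a constituent which is nontrivial on the centre
  obtain ⟨ψ, hψd, v₀, hv₀⟩ : ∃ ψ, d ψ ≠ 0 ∧ ∃ v, ψ (0, v) ≠ 1 := by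
    by_contra hno
    push Not at hno
    have hz : ρ (rr (0, 0, 1) : G1 K m) = LinearMap.id := by
      refine (Char.character_eq_finrank_iff ρ _).1 ?_
      rw [← hχdef, hdim, ← hinv (0, 1), ← hsum, Nat.cast_sum]
      refine Finset.sum_congr rfl fun ψ _ => ?_
      by_cases h : d ψ = 0
      · rw [h]
        simp
      · rw [hno ψ h 1, mul_one]
    have hker : ρ.ker = ⊤ := by
      rcases (MonoidHom.normal_ker ρ).eq_bot_or_eq_top with h | h
      · exfalso
        have hm' : (rr (0, 0, 1) : G1 K m) ∈ ρ.ker := by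
          rw [MonoidHom.mem_ker, hz]
          rfl
        rw [h, Subgroup.mem_bot, ← rr_zero] at hm'
        exact one_ne_zero (congrArg (fun p : K × K × K => p.2.2) (rr_injective hm'))
      · exact h
    obtain ⟨-, hsub⟩ := Char.isIrreducible_iff.1 hρ
    haveI : Nonempty (Fin k) := ⟨⟨0, by omega⟩⟩
    obtain ⟨x, hx⟩ := exists_ne (0 : Fin k → ℂ)
    have hinvsub := hsub (Submodule.span ℂ {x}) fun g v hv => by
      rw [show ρ g = 1 from MonoidHom.mem_ker.1 (hker ▸ Subgroup.mem_top g)]
      exact hv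
    rcases hinvsub with e | e
    · exact hx (Submodule.span_singleton_eq_bot.1 e)
    · have := finrank_span_singleton (K := ℂ) hx
      rw [e, finrank_top, hdim] at this
      omega
  -- its orbit
  let Φ : Kˣ × K → AddChar (K × K) ℂ := fun p => ψ.compAddMonoidHom (act p).toAddMonoidHom
  have hΦapp : ∀ p u v, Φ p (u, v) = ψ ((mu m p.1 : K) * u, (p.1 : K) * (v + p.2 * u)) :=
    fun p u v => rfl
  have hsplit : ∀ a b : K, ψ (a, b) = ψ (a, 0) * ψ (0, b) := fun a b => by
    rw [← AddChar.map_add_eq_mul]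
    simp
  have hscal : ∀ a b : K, (∀ v, ψ (0, a * v) = ψ (0, b * v)) → a = b := by
    intro a b h
    by_contra hne
    refine hv₀ ?_
    have e := h (v₀ / (a - b))
    have e2 : ψ (0, v₀) * ψ (0, b * (v₀ / (a - b))) = ψ (0, a * (v₀ / (a - b))) := by
      rw [← AddChar.map_add_eq_mul]
      congr 1
      ext
      · simp
      · show v₀ + b * (v₀ / (a - b)) = a * (v₀ / (a - b))
        field_simp [sub_ne_zero.2 hne]
        ring
    rw [e] at e2
    refine (mul_eq_right₀ ?_).1 e2
    exact IsUnit.ne_zero (AddChar.val_isUnit ψ _)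
  have hΦinj : Function.Injective Φ := by
    rintro ⟨c, t⟩ ⟨c', t'⟩ e
    have e' : ∀ u v, Φ (c, t) (u, v) = Φ (c', t') (u, v) := fun u v => by rw [e]
    have hc : c = c' := Units.ext (hscal _ _ fun v => by
      simpa [hΦapp] using e' 0 v)
    subst hc
    have ht : (c : K) * t = (c : K) * t' := hscal _ _ fun u => by
      have := e' u 0
      rw [hΦapp, hΦapp, hsplit, hsplit (_ * u) (_ * (0 + t' * u))] at this
      have h2 := mul_left_cancel₀ (IsUnit.ne_zero (AddChar.val_isUnit ψ _)) this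
      simpa [mul_assoc] using h2
    rw [mul_left_cancel₀ (Units.ne_zero c) ht]
  have hcard : Fintype.card (Kˣ × K) = (3 ^ (2 * m + 1) - 1) * 3 ^ (2 * m + 1) := by
    rw [Fintype.card_prod, Fintype.card_units, hK]
  have himg : ∑ χ' ∈ Finset.univ.image Φ, d χ' = Fintype.card (Kˣ × K) * d ψ := by
    rw [Finset.sum_image fun a _ b _ e => hΦinj e, Finset.sum_const_nat (m := d ψ) fun p _ => hact p ψ,
      Finset.card_univ]
  have hle := Finset.sum_le_univ_sum_of_nonneg (s := Finset.univ.image Φ) (f := d) fun _ => Nat.zero_le _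
  rw [himg, hsum, hcard] at hle
  set q := 3 ^ (2 * m + 1) with hq
  have hqq : q ≤ q ^ 2 := Nat.le_self_pow two_ne_zero q
  have hsq : (q - 1) * q = q ^ 2 - q := by rw [Nat.sub_one_mul, pow_two]
  rw [hsq] at hle hcard
  by_contra hlt
  have hkeq : k = q ^ 2 - q := by
    have h1 : q ^ 2 - q ≤ (q ^ 2 - q) * d ψ := Nat.le_mul_of_pos_right _ (Nat.pos_of_ne_zero hψd)
    omega
  have hd1 : (q ^ 2 - q) * d ψ = k := by
    have h1 : q ^ 2 - q ≤ (q ^ 2 - q) * d ψ := Nat.le_mul_of_pos_right _ (Nat.pos_of_ne_zero hψd)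
    omega
  -- every other character misses
  have hout : ∀ η, η ∉ Finset.univ.image Φ → d η = 0 := by
    intro η hη
    have h := Finset.sum_add_sum_compl (Finset.univ.image Φ) d
    rw [himg, hsum, hcard, hd1] at h
    exact Finset.sum_eq_zero_iff.1 (by omega : ∑ x ∈ (Finset.univ.image Φ)ᶜ, d x = 0) η
      (Finset.mem_compl.2 hη)
  -- the sum over the centre vanishes
  have hZ : ∀ η, d η ≠ 0 → ∑ v : K, η (0, v) = 0 := by
    intro η hη
    obtain ⟨⟨c, t⟩, -, rfl⟩ := Finset.mem_image.1 (not_not.1 fun h => hη (hout η h))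
    let β : AddChar K ℂ := (Φ (c, t)).compAddMonoidHom (AddMonoidHom.inr K K)
    have hβ : β ≠ 0 := by
      refine AddChar.ne_zero_iff.2 ⟨v₀ / c, ?_⟩
      show Φ (c, t) (0, v₀ / c) ≠ 1
      rw [hΦapp]
      simpa [mul_div_cancel₀ _ (Units.ne_zero c)] using hv₀
    exact AddChar.sum_eq_zero_iff_ne_zero.2 hβ
  let FZ : Multiplicative K →* G1 K m :=
    F.comp (AddMonoidHom.inr K K).toMultiplicative
  let σZ : Representation ℂ (Multiplicative K) (Fin k → ℂ) := ρ.comp FZ
  have hFZ : σZ.invariants = ⊥ := by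
    refine Submodule.finrank_eq_zero.1 ?_
    have h := sum_char_eq σZ
    have h0 : ∑ w : Multiplicative K, σZ.character w = 0 := by
      rw [← Fintype.sum_equiv Multiplicative.ofAdd (fun v : K => χ (rr (0, 0, v))) _ (fun v => rfl)]
      simp only [fun v : K => (hinv (0, v)).symm]
      rw [Finset.sum_comm]
      refine Finset.sum_eq_zero fun η _ => ?_
      rw [← Finset.mul_sum]
      by_cases hη : d η = 0
      · rw [hη]
        simp
      · rw [hZ η hη, mul_zero]
    rw [h0] at h
    rcases mul_eq_zero.1 h.symm with e | e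
    · exact absurd e (Nat.cast_ne_zero.2 Nat.card_pos.ne')
    · exact_mod_cast e
  -- so the involutions have value zero
  have hopZ : ∑ v : K, ρ (rr (0, 0, v) : G1 K m) = 0 := by
    refine LinearMap.ext fun x => ?_
    have hx : (∑ v : K, ρ (rr (0, 0, v) : G1 K m)) x ∈ σZ.invariants := by
      intro a
      simp only [LinearMap.sum_apply, map_sum]
      refine Fintype.sum_equiv (Equiv.addLeft a.toAdd) _ _ fun v => ?_
      show ρ (rr (0, 0, a.toAdd) : G1 K m) (ρ (rr (0, 0, v)) x) = ρ (rr (0, 0, a.toAdd + v)) x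
      rw [← Module.End.mul_apply, ← map_mul, ← rr_plane hK (0, a.toAdd) (0, v), add_zero]
    rw [hFZ, Submodule.mem_bot] at hx
    simpa using hx
  have hJ0 : χ invJ = 0 := by
    have h1 : ∑ v : K, χ (rr (0, 0, v) * invJ) = 0 := by
      have : ∀ v : K, χ (rr (0, 0, v) * invJ) = LinearMap.trace ℂ _ (ρ (rr (0, 0, v)) * ρ invJ) :=
        fun v => by rw [← map_mul]; rfl
      simp only [this, ← map_sum, ← Finset.sum_mul, hopZ, zero_mul, map_zero]
    have h2 : ∀ v : K, χ (rr (0, 0, v) * invJ) = χ invJ := by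
      intro v
      have h2' : (2 : K) ≠ 0 := fun e => by
        have := (CharP.cast_eq_zero_iff K 3 2).1 (by exact_mod_cast e)
        omega
      haveI : NeZero (2 : K) := ⟨h2'⟩
      have hi : (rr (0, 0, v / 2) : G1 K m)⁻¹ = rr (0, 0, -(v / 2)) :=
        inv_eq_of_mul_eq_one_right (by
          rw [← rr_plane hK (0, v / 2) (0, -(v / 2))]
          simp [rr_zero])
      have hcj : invJ * (rr (0, 0, -(v / 2)) : G1 K m) = rr (0, 0, v / 2) * invJ := by
        rw [← mul_inv_eq_iff_eq_mul, invJ_conj_rr hK, neg_zero, neg_neg]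
      rw [show (rr (0, 0, v) : G1 K m) * invJ = rr (0, 0, v / 2) * invJ * (rr (0, 0, v / 2))⁻¹ by
        rw [hi, mul_assoc _ invJ, hcj, ← mul_assoc, ← rr_plane hK (0, v / 2) (0, v / 2), add_zero,
          add_halves], hcl]
    simp only [h2, Finset.sum_const, Finset.card_univ, nsmul_eq_mul, hK] at h1
    exact (mul_eq_zero.1 h1).resolve_left (Nat.cast_ne_zero.2 (by positivity))
  -- the four-group
  obtain ⟨T, a, hT, -, -⟩ := exists_qtorus hK hm (m := m) (K := K)
  let V : Subgroup (G1 K m) :=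
    { carrier := {g | g ∈ T ∧ g ^ 2 = 1}
      one_mem' := ⟨one_mem _, one_pow 2⟩
      mul_mem' := fun {x y} hx hy => ⟨mul_mem hx.1 hy.1, by
        rw [(show Commute x y from hT.torus.comm x hx.1 y hy.1).mul_pow, hx.2, hy.2, one_mul]⟩
      inv_mem' := fun {x} hx => ⟨inv_mem hx.1, by rw [inv_pow, hx.2, inv_one]⟩ }
  have hVc : Nat.card V = 4 := by
    rw [← hT.four]
    exact Nat.card_congr
      { toFun := fun x => ⟨⟨x.1, x.2.1⟩, x.2.2⟩
        invFun := fun x => ⟨x.1.1, x.1.2, x.2⟩
        left_inv := fun x => rfl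
        right_inv := fun x => rfl }
  let σV : Representation ℂ V (Fin k → ℂ) := ρ.comp V.subtype
  have hsV := sum_char_eq σV
  rw [hVc, Finset.sum_eq_single (1 : V)] at hsV
  · rw [Representation.char_one, hdim] at hsV
    have h4 : 4 ∣ k := ⟨Module.finrank ℂ σV.invariants, by exact_mod_cast hsV⟩
    rw [hkeq, ← hsq] at h4
    obtain ⟨j, hj⟩ : ∃ j, q = 8 * j + 3 := ⟨q / 8, by omega⟩
    obtain ⟨l, hl⟩ := h4
    rw [hj, show 8 * j + 3 - 1 = 8 * j + 2 by omega,
      show (8 * j + 2) * (8 * j + 3) = 4 * (16 * (j * j) + 10 * j) + 6 by ring] at hl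
    omega
  · intro g _ hg
    obtain ⟨h, hh⟩ := involutions_conj hK hm (i := (g : G1 K m)) (by rw [← pow_two]; exact g.2.2)
      (fun e => hg (Subtype.ext e))
    show χ (g : G1 K m) = 0
    rw [← hh, hcl, hJ0]
  · exact fun h => absurd (Finset.mem_univ _) h

end Ree

end Cfsg.Agent.Chev
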