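import Cfsg.Agent.Chev.Ree.Tori

/-!
Cyclic Hall subgroups, element orders and numbers, cyclic subgroups, Sylow subgroups of `²G₂(q)`.
-/

set_option autoImplicit false
set_option maxRecDepth 100000
set_option maxHeartbeats 2000000

namespace Cfsg.Agent.Chev

open Cfsg.Lie
open scoped MatrixGroups

universe u

namespace Ree

theorem exists_orderOf_of_dvd {G : Type*} [Group G] [Finite G] {g : G} {d : ℕ} (h : d ∣ orderOf g) :
    ∃ x : G, orderOf x = d := by
  obtain ⟨k, hk⟩ := h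
  have hk0 : k ≠ 0 := fun e => by
    rw [e, mul_zero] at hk
    exact (orderOf_pos g).ne' hk
  exact ⟨g ^ k, by rw [orderOf_pow_of_dvd hk0 ⟨d, by rw [hk, mul_comm]⟩, hk,
    Nat.mul_div_cancel _ (Nat.pos_of_ne_zero hk0)]⟩

theorem card_orderOf_in_cyclic {G : Type*} [Group G] [Finite G] {C : Subgroup G} (hC : IsCyclic C)
    {i : ℕ} (hi : i ∣ Nat.card C) : Nat.card {x : G // x ∈ C ∧ orderOf x = i} = Nat.totient i := by
  classical
  haveI := hC
  haveI : Fintype C := Fintype.ofFinite _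
  rw [Nat.card_congr (show {x : G // x ∈ C ∧ orderOf x = i} ≃ {x : C // orderOf x = i} from
    { toFun := fun x => ⟨⟨x.1, x.2.1⟩, by rw [← Subgroup.orderOf_coe]; exact x.2.2⟩
      invFun := fun x => ⟨x.1.1, x.1.2, by rw [Subgroup.orderOf_coe]; exact x.2⟩
      left_inv := fun x => rfl
      right_inv := fun x => rfl }), Nat.card_eq_fintype_card, Fintype.card_subtype]
  exact IsCyclic.card_orderOf_eq_totient (by rwa [← Nat.card_eq_fintype_card])

/-- A cyclic subgroup of full Sylow order makes the Sylow subgroups cyclic. -/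
theorem isCyclic_sylow_of_factorization {G : Type*} [Group G] [Finite G] {p : ℕ} [Fact p.Prime]
    {C : Subgroup G} (hC : IsCyclic C)
    (hf : (Nat.card C).factorization p = (Nat.card G).factorization p) (P : Sylow p G) :
    IsCyclic (P : Subgroup G) := by
  haveI := hC
  obtain ⟨Q⟩ : Nonempty (Sylow p C) := inferInstance
  have hQ : Nat.card ((Q : Subgroup C).map C.subtype) = p ^ (Nat.card G).factorization p := by
    rw [← Nat.card_congr (Subgroup.equivMapOfInjective _ _ C.subtype_injective).toEquiv,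
      Q.card_eq_multiplicity, hf]
  let R := Sylow.ofCard ((Q : Subgroup C).map C.subtype) hQ
  have hR : IsCyclic (R : Subgroup G) :=
    isCyclic_of_surjective ((Q : Subgroup C).equivMapOfInjective C.subtype C.subtype_injective).toMonoidHom
      (MulEquiv.surjective _)
  exact isCyclic_of_surjective (Sylow.equiv R P).toMonoidHom (MulEquiv.surjective _)

theorem mul_cancel_count {X W c R : ℕ} (hc : 0 < c) (h : X * c = W * c * R) : X = W * R :=
  Nat.eq_of_mul_eq_mul_right hc (by rw [h]; ring)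

/-- Conjugates of an element of a torus, of a given order, counted. -/
theorem card_conj_orderOf {G : Type*} [Group G] {T : Subgroup G} (hT : IsTorus T)
    {i : ℕ} (hi : 2 < i)
    (hconj : ∀ y : G, orderOf y = i → ∃ g, g * y * g⁻¹ ∈ T) :
    Nat.card {y : G // orderOf y = i} * Nat.card (Subgroup.normalizer (T : Set G)) =
      Nat.card G * Nat.card {x : G // x ∈ T ∧ orderOf x = i} := by
  have hsq : ∀ y : G, orderOf y = i → y ^ 2 ≠ 1 := fun y hy e => by
    have := Nat.le_of_dvd two_pos (orderOf_dvd_of_pow_eq_one e)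
    omega
  have h := card_cover {x : G | x ∈ T ∧ orderOf x = i} (Subgroup.normalizer (T : Set G))
    (fun n hn d hd => ⟨(Subgroup.mem_normalizer_iff.1 hn d).1 hd.1, by rw [orderOf_conj_eq]; exact hd.2⟩)
    (fun g d hd hg => hT.ti g d hd.1 (hsq d hd.2) hg.1)
  rw [show Nat.card {x : G // x ∈ T ∧ orderOf x = i} = Nat.card ↥{x : G | x ∈ T ∧ orderOf x = i} from rfl,
    ← h]
  congr 1
  refine Nat.card_congr (Equiv.subtypeEquivRight fun y => ⟨fun hy => ?_, ?_⟩)
  · obtain ⟨g, hg⟩ := hconj y hy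
    exact ⟨g, hg, by rw [orderOf_conj_eq]; exact hy⟩
  · rintro ⟨g, -, hg⟩
    rwa [orderOf_conj_eq] at hg

variable {K : Type u} [Field K] [Fintype K] [CharP K 3] {m : ℕ}
  (hK : Fintype.card K = 3 ^ (2 * m + 1))
include hK

/-- The four cyclic subgroups and their normalisers. -/
theorem cyclic_hall_subgroups (hm : 1 ≤ m) :
    ∀ kn ∈ ({((3 ^ (2 * m + 1) - 1) / 2, 2 * (3 ^ (2 * m + 1) - 1)), ((3 ^ (2 * m + 1) + 1) / 4, 6 * (3 ^ (2 * m + 1) + 1)),
        (3 ^ (2 * m + 1) - 3 ^ (m + 1) + 1, 6 * (3 ^ (2 * m + 1) - 3 ^ (m + 1) + 1)),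
        (3 ^ (2 * m + 1) + 3 ^ (m + 1) + 1, 6 * (3 ^ (2 * m + 1) + 3 ^ (m + 1) + 1))} : Set (ℕ × ℕ)),
      ∃ A : Subgroup (G1 K m), IsCyclic A ∧ Nat.card A = kn.1 ∧
        Nat.card (Subgroup.normalizer (A : Set (G1 K m))) = kn.2 ∧
        ∀ A₀ : Subgroup (G1 K m), A₀ ≤ A → A₀ ≠ ⊥ →
          Subgroup.normalizer (A₀ : Set (G1 K m)) = Subgroup.normalizer (A : Set (G1 K m)) := by
  have h8 := pow_odd_mod m
  have h27 := le_pow_odd hm
  have hsinger : ∀ {Φ : ℕ} {S : Subgroup (G1 K m)}, IsSinger Φ S → Odd Φ →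
      ∀ A₀ : Subgroup (G1 K m), A₀ ≤ S → A₀ ≠ ⊥ →
        Subgroup.normalizer (A₀ : Set (G1 K m)) = Subgroup.normalizer (S : Set (G1 K m)) := by
    intro Φ S hS hΦ A₀ hle hne
    obtain ⟨y, hy, hy2⟩ := exists_sq_ne_one
      ((hΦ.of_dvd_nat hS.dvd).of_dvd_nat (Subgroup.card_dvd_of_le hle)) hne
    exact le_antisymm (hS.isTorus.normalizer_le hle hy hy2) (normalizer_le_of_cyclic hS.cyclic hle)
  obtain ⟨T, a, hT, -, -⟩ := exists_qtorus hK hm (m := m) (K := K)
  obtain ⟨A, B, hA, hB, hAc, hBc, hNA, hNB⟩ := exists_two_singers hK hm (m := m) (K := K)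
  have hΦ : Odd ((3 ^ (2 * m + 1)) ^ 2 - 3 ^ (2 * m + 1) + 1) := by
    have hle : 3 ^ (2 * m + 1) ≤ (3 ^ (2 * m + 1)) ^ 2 := Nat.le_self_pow two_ne_zero _
    rw [pow_two, ← Nat.mul_sub_one]
    exact (Nat.even_mul_pred_self _).add_one
  intro kn hkn
  simp only [Set.mem_insert_iff, Set.mem_singleton_iff] at hkn
  rcases hkn with rfl | rfl | rfl | rfl
  · obtain ⟨γ, hγ⟩ := exists_generator_units hK
    set q := 3 ^ (2 * m + 1) with hq
    have hγ2 : orderOf (γ ^ 2) = (q - 1) / 2 := by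
      rw [orderOf_pow_of_dvd two_ne_zero (by rw [hγ]; omega), hγ]
    have hcard : Nat.card (Subgroup.zpowers (tt hK (γ ^ 2) : G1 K m)) = (q - 1) / 2 := by
      rw [Nat.card_zpowers, orderOf_injective _ (tt_injective hK), hγ2]
    have hle : Subgroup.zpowers (tt hK (γ ^ 2) : G1 K m) ≤ H1 hK :=
      Subgroup.zpowers_le.2 ((mem_H1 hK).2 ⟨_, rfl⟩)
    have hN : ∀ A₀ : Subgroup (G1 K m), A₀ ≤ Subgroup.zpowers (tt hK (γ ^ 2) : G1 K m) → A₀ ≠ ⊥ →
        Subgroup.normalizer (A₀ : Set (G1 K m)) = N1 hK := by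
      intro A₀ hle₀ hne
      have hodd : Odd ((q - 1) / 2) := Nat.odd_iff.2 (by omega)
      obtain ⟨y, hy, hy2⟩ := exists_sq_ne_one
        ((hcard ▸ hodd).of_dvd_nat (Subgroup.card_dvd_of_le hle₀)) hne
      obtain ⟨c, rfl⟩ := (mem_H1 hK).1 (hle (hle₀ hy))
      exact normalizer_of_le_H1 hK (hle₀.trans hle) ⟨c, fun e => hy2 (by rw [← map_pow, e, map_one]), hy⟩
    have hne : Subgroup.zpowers (tt hK (γ ^ 2) : G1 K m) ≠ ⊥ := fun e => by
      rw [e, Subgroup.card_bot] at hcard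
      omega
    refine ⟨Subgroup.zpowers (tt hK (γ ^ 2) : G1 K m), inferInstance, hcard, ?_, fun A₀ h h' => ?_⟩
    · rw [hN _ le_rfl hne, card_N1 hK]
    · rw [hN _ le_rfl hne, hN _ h h']
  · refine ⟨Subgroup.zpowers a, inferInstance, hT.card_zpowers, by rw [hT.normalizer_eq, hT.normalizer],
      fun A₀ h h' => ?_⟩
    obtain ⟨y, hy, hy2⟩ := exists_sq_ne_one
      ((hT.card_zpowers ▸ hT.odd).of_dvd_nat (Subgroup.card_dvd_of_le h)) h'
    refine le_antisymm ?_ (normalizer_le_of_cyclic inferInstance h)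
    rw [hT.normalizer_eq]
    exact hT.torus.normalizer_le (h.trans hT.zpowers_le) hy hy2
  · exact ⟨A, hA.cyclic, hAc, by rw [hNA, hAc], hsinger hA hΦ⟩
  · exact ⟨B, hB.cyclic, hBc, by rw [hNB, hBc], hsinger hB hΦ⟩

/-- The element orders. -/
theorem element_orders (hm : 1 ≤ m) (d : ℕ) :
    (∃ g : G1 K m, orderOf g = d) ↔
      (d ∣ 6 ∨ d ∣ 9 ∨ d ∣ 3 ^ (2 * m + 1) - 1 ∨ d ∣ (3 ^ (2 * m + 1) + 1) / 2 ∨
        d ∣ 3 ^ (2 * m + 1) - 3 ^ (m + 1) + 1 ∨ d ∣ 3 ^ (2 * m + 1) + 3 ^ (m + 1) + 1) := by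
  classical
  obtain ⟨T, a, hT, hJ, hTconj⟩ := exists_qtorus hK hm (m := m) (K := K)
  obtain ⟨A, B, hA, hB, hAc, hBc, -, -⟩ := exists_two_singers hK hm (m := m) (K := K)
  set q := 3 ^ (2 * m + 1) with hq
  have h8 : q % 8 = 3 := pow_odd_mod m
  have h27 : 27 ≤ q := le_pow_odd hm
  have hb : (q + 1) / 2 = 2 * ((q + 1) / 4) := by omega
  constructor
  · rintro ⟨y, rfl⟩
    by_cases h2 : orderOf y ≤ 2
    · refine Or.inl ?_
      have := orderOf_pos y
      interval_cases orderOf y <;> norm_num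
    obtain ⟨p, hp, hp2, hpy⟩ := exists_odd_prime hK (y := y) (by omega)
    by_cases h3 : 3 ∣ orderOf y
    · rcases orderOf_three_cases hK h3 with e | e | e <;> rw [e]
      · exact Or.inl (by norm_num)
      · exact Or.inl dvd_rfl
      · exact Or.inr (Or.inl dvd_rfl)
    rcases exists_conj_torus hK hTconj hA hB hAc hBc hp hp2 (fun e => h3 (e ▸ hpy)) hpy with
      ⟨g, c, -, e⟩ | ⟨g, hg, -⟩ | ⟨g, hg, -⟩ | ⟨g, hg, -⟩
    · refine Or.inr (Or.inr (Or.inl ?_))
      rw [← orderOf_conj_eq g, e, orderOf_injective _ (tt_injective hK), ← hK, ← Fintype.card_units]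
      exact orderOf_dvd_card
    · refine Or.inr (Or.inr (Or.inr (Or.inl ?_)))
      rw [← orderOf_conj_eq g, hb]
      exact hT.orderOf_dvd hg
    · refine Or.inr (Or.inr (Or.inr (Or.inr (Or.inl ?_))))
      rw [← orderOf_conj_eq g, ← hAc]
      exact Subgroup.orderOf_dvd_natCard _ hg
    · refine Or.inr (Or.inr (Or.inr (Or.inr (Or.inr ?_))))
      rw [← orderOf_conj_eq g, ← hBc]
      exact Subgroup.orderOf_dvd_natCard _ hg
  · have hex : ∀ k : ℕ, k = 6 ∨ k = 9 → ∃ g : G1 K m, orderOf g = k := by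
      intro k hk
      have h := card_order_three_mul hK k (by rcases hk with rfl | rfl <;> norm_num) (m := m) (K := K)
      rw [card_B1_order hK k (by rcases hk with rfl | rfl <;> norm_num),
        if_neg (by rcases hk with rfl | rfl <;> norm_num), if_pos hk] at h
      have hpos : 0 < Nat.card (G1 K m) *
          ((3 ^ (2 * m + 1)) ^ 3 - (3 ^ (2 * m + 1)) ^ 2) := Nat.mul_pos Nat.card_pos
        (Nat.sub_pos_of_lt (Nat.pow_lt_pow_right (by rw [← hq]; omega) (by norm_num)))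
      rw [← h] at hpos
      obtain ⟨⟨g, hg⟩, -⟩ := Nat.card_pos_iff.1 (Nat.pos_of_mul_pos_right hpos)
      exact ⟨g, hg⟩
    rintro (h | h | h | h | h | h)
    · obtain ⟨g, hg⟩ := hex 6 (Or.inl rfl)
      exact exists_orderOf_of_dvd (g := g) (hg ▸ h)
    · obtain ⟨g, hg⟩ := hex 9 (Or.inr rfl)
      exact exists_orderOf_of_dvd (g := g) (hg ▸ h)
    · obtain ⟨γ, hγ⟩ := exists_generator_units hK
      refine exists_orderOf_of_dvd (g := (tt hK γ : G1 K m)) ?_
      rwa [orderOf_injective _ (tt_injective hK), hγ, ← hq]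
    · refine exists_orderOf_of_dvd (g := (invJ : G1 K m) * a) ?_
      rw [(show Commute (invJ : G1 K m) a from hT.torus.comm _ hJ _ hT.gen).orderOf_mul_eq_mul_orderOf_of_coprime
        (by rw [orderOf_eq_prime (by rw [pow_two]; exact invJ_sq) (invJ_ne_one hK), hT.ord]
            exact Nat.coprime_two_left.2 hT.odd),
        orderOf_eq_prime (by rw [pow_two]; exact invJ_sq) (invJ_ne_one hK), hT.ord, ← hb]
      exact h
    · obtain ⟨c, -, hc⟩ := exists_generator_of_isCyclic hA.cyclic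
      exact exists_orderOf_of_dvd (g := c) (by rwa [hc, hAc])
    · obtain ⟨c, -, hc⟩ := exists_generator_of_isCyclic hB.cyclic
      exact exists_orderOf_of_dvd (g := c) (by rwa [hc, hBc])

/-- The numbers of elements of each order. -/
theorem element_counts (hm : 1 ≤ m) :
    Nat.card {g : G1 K m // orderOf g = 2} = (3 ^ (2 * m + 1)) ^ 2 * ((3 ^ (2 * m + 1)) ^ 2 - 3 ^ (2 * m + 1) + 1) ∧
    Nat.card {g : G1 K m // orderOf g = 3} = ((3 ^ (2 * m + 1)) ^ 2 - 1) * ((3 ^ (2 * m + 1)) ^ 3 + 1) ∧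
    Nat.card {g : G1 K m // orderOf g = 6} = (3 ^ (2 * m + 1)) ^ 2 * (3 ^ (2 * m + 1) - 1) * ((3 ^ (2 * m + 1)) ^ 3 + 1) ∧
    Nat.card {g : G1 K m // orderOf g = 9} = (3 ^ (2 * m + 1)) ^ 2 * (3 ^ (2 * m + 1) - 1) * ((3 ^ (2 * m + 1)) ^ 3 + 1) ∧
    (∀ i : ℕ, 2 < i → i ∣ 3 ^ (2 * m + 1) - 1 →
      2 * Nat.card {g : G1 K m // orderOf g = i} = Nat.totient i * (3 ^ (2 * m + 1)) ^ 3 * ((3 ^ (2 * m + 1)) ^ 3 + 1)) ∧
    (∀ i : ℕ, 1 < i → i ∣ (3 ^ (2 * m + 1) + 1) / 4 →
      6 * Nat.card {g : G1 K m // orderOf g = i} =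
          Nat.totient i * (3 ^ (2 * m + 1)) ^ 3 * (3 ^ (2 * m + 1) - 1) * ((3 ^ (2 * m + 1)) ^ 2 - 3 ^ (2 * m + 1) + 1) ∧
        2 * Nat.card {g : G1 K m // orderOf g = 2 * i} =
          Nat.totient i * (3 ^ (2 * m + 1)) ^ 3 * (3 ^ (2 * m + 1) - 1) * ((3 ^ (2 * m + 1)) ^ 2 - 3 ^ (2 * m + 1) + 1)) ∧
    (∀ i : ℕ, 1 < i → i ∣ 3 ^ (2 * m + 1) - 3 ^ (m + 1) + 1 →
      6 * Nat.card {g : G1 K m // orderOf g = i} =
        Nat.totient i * (3 ^ (2 * m + 1)) ^ 3 * ((3 ^ (2 * m + 1)) ^ 2 - 1) * (3 ^ (2 * m + 1) + 3 ^ (m + 1) + 1)) ∧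
    (∀ i : ℕ, 1 < i → i ∣ 3 ^ (2 * m + 1) + 3 ^ (m + 1) + 1 →
      6 * Nat.card {g : G1 K m // orderOf g = i} =
        Nat.totient i * (3 ^ (2 * m + 1)) ^ 3 * ((3 ^ (2 * m + 1)) ^ 2 - 1) * (3 ^ (2 * m + 1) - 3 ^ (m + 1) + 1)) := by
  classical
  obtain ⟨T, a, hT, -, hTconj⟩ := exists_qtorus hK hm (m := m) (K := K)
  obtain ⟨A, B, hA, hB, hAc, hBc, hNA, hNB⟩ := exists_two_singers hK hm (m := m) (K := K)
  have h2 := card_involutions_mul hK hm (m := m) (K := K)
  have h3 := card_order_three_mul hK 3 dvd_rfl (m := m) (K := K)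
  have h6 := card_order_three_mul hK 6 (by norm_num) (m := m) (K := K)
  have h9 := card_order_three_mul hK 9 (by norm_num) (m := m) (K := K)
  rw [card_B1_order hK 3 dvd_rfl, if_pos rfl, card_B1 hK] at h3
  rw [card_B1_order hK 6 (by norm_num), if_neg (by norm_num), if_pos (Or.inl rfl), card_B1 hK] at h6
  rw [card_B1_order hK 9 (by norm_num), if_neg (by norm_num), if_pos (Or.inr rfl), card_B1 hK] at h9
  have hG := card_G1_prod hK (m := m) (K := K)
  have hnn := nminus_mul_nplus m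
  set q := 3 ^ (2 * m + 1) with hq
  set r := 3 ^ (m + 1) with hr
  have h8 : q % 8 = 3 := pow_odd_mod m
  have h27 : 27 ≤ q := le_pow_odd hm
  have hrq : r ≤ q := pow_succ_le m
  set Φ := q ^ 2 - q + 1 with hΦ
  have hq3 : 0 < q ^ 3 * (q - 1) := Nat.mul_pos (pow_pos (by omega) 3) (by omega)
  have hsq32 : q ^ 3 - q ^ 2 = q ^ 2 * (q - 1) := by
    rw [Nat.mul_sub_one, ← pow_succ]
  have hc3 : q ^ 3 + 1 = (q + 1) * Φ := cube_add_one q
  have hs1 : q ^ 2 - 1 = (q - 1) * (q + 1) := sq_sub_one q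
  rw [hG] at h2 h3 h6 h9
  have conj2 : ∀ (i : ℕ), 2 < i → ¬ 4 ∣ i → ∀ y : G1 K m, orderOf y = i →
      ∃ p : ℕ, p.Prime ∧ p ≠ 2 ∧ p ∣ orderOf y ∧ p ∣ i := by
    intro i hi _ y hy
    obtain ⟨p, hp, hp2, hpy⟩ := exists_odd_prime hK (y := y) (by omega)
    exact ⟨p, hp, hp2, hpy, hy ▸ hpy⟩
  refine ⟨?_, ?_, ?_, ?_, ?_, ?_, ?_, ?_⟩
  · refine Nat.eq_of_mul_eq_mul_right (Nat.mul_pos (by omega : 0 < q)
      (Nat.mul_pos (by omega : 0 < q - 1) (by omega : 0 < q + 1))) ?_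
    rw [h2]; ring
  · refine Nat.eq_of_mul_eq_mul_right hq3 ?_
    rw [h3, hc3]; ring
  · refine Nat.eq_of_mul_eq_mul_right hq3 ?_
    rw [h6, hsq32, hc3]; ring
  · refine Nat.eq_of_mul_eq_mul_right hq3 ?_
    rw [h9, hsq32, hc3]; ring
  · intro i hi hiq
    have h := card_conj_orderOf (isTorus_H1 hK (m := m) (K := K)) hi (fun y hy => by
      obtain ⟨p, hp, hp2, hpy, hpi⟩ := conj2 i hi (fun h4 => by have := h4.trans hiq; omega) y hy
      obtain ⟨g, c, -, e⟩ := exists_conj_H1 hK hp hp2 (hpi.trans hiq) hpy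
      exact ⟨g, (mem_H1 hK).2 ⟨c, e⟩⟩)
    obtain ⟨c, hc⟩ := exists_sq_units hK hm
    rw [normalizer_of_le_H1 hK le_rfl ⟨c, hc, (mem_H1 hK).2 ⟨c, rfl⟩⟩, card_N1 hK, ← hq,
      card_orderOf_in_cyclic (isCyclic_H1 hK) (by rw [card_H1_eq hK, ← hq]; exact hiq), hG] at h
    refine Nat.eq_of_mul_eq_mul_right (by omega : 0 < q - 1) ?_
    rw [hc3]
    linear_combination h
  · intro i hi hib
    have hiodd : Odd i := hT.odd.of_dvd_nat hib
    have hi2 : 2 < i := by
      obtain ⟨k, rfl⟩ := hiodd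
      omega
    have hconj : ∀ j, i ∣ j → ∀ y : G1 K m, orderOf y = j → ∃ g, g * y * g⁻¹ ∈ T := by
      intro j hij y hy
      obtain ⟨p, hp, hpi⟩ := Nat.exists_prime_and_dvd (show i ≠ 1 by omega)
      obtain ⟨g, hg, -⟩ := hTconj y p hp (hpi.trans hib) (hy ▸ hpi.trans hij)
      exact ⟨g, hg⟩
    have hCi : Nat.card {x : G1 K m // x ∈ T ∧ orderOf x = i} = Nat.totient i := by
      rw [← card_orderOf_in_cyclic (inferInstance : IsCyclic (Subgroup.zpowers a))
        (by rw [hT.card_zpowers]; exact hib)]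
      refine Nat.card_congr (Equiv.subtypeEquivRight fun x => ⟨fun h => ⟨?_, h.2⟩, fun h =>
        ⟨hT.zpowers_le h.1, h.2⟩⟩)
      exact hT.mem_zpowers h.1 (orderOf_dvd_iff_pow_eq_one.1 (h.2 ▸ hib))
    have hC2i : Nat.card {x : G1 K m // x ∈ T ∧ orderOf x = 2 * i} = 3 * Nat.totient i := by
      have hcop : Nat.Coprime 2 i := Nat.coprime_two_left.2 hiodd
      have hord : ∀ v u : G1 K m, v ∈ T → u ∈ T → orderOf v = 2 → orderOf u = i →
          orderOf (v * u) = 2 * i := fun v u hv hu h2v hiu => by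
        rw [(show Commute v u from hT.torus.comm _ hv _ hu).orderOf_mul_eq_mul_orderOf_of_coprime
          (by rw [h2v, hiu]; exact hcop), h2v, hiu]
      have h3v : Nat.card {v : G1 K m // v ∈ T ∧ orderOf v = 2} = 3 := by
        have e : Nat.card {g : T // (g : G1 K m) ^ 2 = 1} =
            Nat.card {v : G1 K m // v ∈ T ∧ orderOf v = 2} + 1 := by
          rw [← Finite.card_option]
          refine (Nat.card_eq_of_bijective (fun o : Option {v : G1 K m // v ∈ T ∧ orderOf v = 2} =>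
            o.elim (⟨1, by simp⟩ : {g : T // (g : G1 K m) ^ 2 = 1}) fun v => ⟨⟨v.1, v.2.1⟩, by
              show v.1 ^ 2 = 1
              exact orderOf_dvd_iff_pow_eq_one.1 (dvd_of_eq v.2.2)⟩) ⟨?_, ?_⟩).symm
          · rintro (_ | ⟨v, hv, hv2⟩) (_ | ⟨w, hw, hw2⟩) e'
            · rfl
            · have := congrArg (fun z : {g : T // (g : G1 K m) ^ 2 = 1} => ((z.1 : T) : G1 K m)) e'
              simp only [Option.elim_none, Option.elim_some, Subgroup.coe_one] at this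
              rw [← this, orderOf_one] at hw2
              exact absurd hw2 (by norm_num)
            · have := congrArg (fun z : {g : T // (g : G1 K m) ^ 2 = 1} => ((z.1 : T) : G1 K m)) e'
              simp only [Option.elim_none, Option.elim_some, Subgroup.coe_one] at this
              rw [this, orderOf_one] at hv2
              exact absurd hv2 (by norm_num)
            · exact congrArg some (Subtype.ext (congrArg (fun z : {g : T // (g : G1 K m) ^ 2 = 1} =>
                ((z.1 : T) : G1 K m)) e'))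
          · rintro ⟨⟨g, hg⟩, hg2⟩
            by_cases h1 : g = 1
            · exact ⟨none, Subtype.ext (Subtype.ext h1.symm)⟩
            · exact ⟨some ⟨g, hg, orderOf_eq_prime hg2 h1⟩, rfl⟩
        rw [hT.four] at e
        omega
      refine Eq.trans ?_ ((Nat.card_prod _ _).trans (congrArg₂ (· * ·) h3v hCi))
      refine (Nat.card_eq_of_bijective (fun p : {v : G1 K m // v ∈ T ∧ orderOf v = 2} ×
          {x : G1 K m // x ∈ T ∧ orderOf x = i} =>
        (⟨p.1.1 * p.2.1, mul_mem p.1.2.1 p.2.2.1, hord _ _ p.1.2.1 p.2.2.1 p.1.2.2 p.2.2.2⟩ :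
          {x : G1 K m // x ∈ T ∧ orderOf x = 2 * i})) ⟨?_, ?_⟩).symm
      · rintro ⟨⟨v, hv, hv2⟩, ⟨u, hu, hui⟩⟩ ⟨⟨w, hw, hw2⟩, ⟨t, ht, hti⟩⟩ e
        have e' : v * u = w * t := congrArg Subtype.val e
        have hvp : ∀ v u : G1 K m, v ∈ T → u ∈ T → orderOf v = 2 → orderOf u = i → (v * u) ^ i = v := by
          intro v u hv hu h2v hiu
          obtain ⟨k, hk⟩ := hiodd
          rw [(show Commute v u from hT.torus.comm _ hv _ hu).mul_pow,
            orderOf_dvd_iff_pow_eq_one.1 (dvd_of_eq hiu), mul_one, hk, pow_succ, pow_mul,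
            orderOf_dvd_iff_pow_eq_one.1 (dvd_of_eq h2v), one_pow, one_mul]
        have hvw : v = w := by rw [← hvp v u hv hu hv2 hui, e', hvp w t hw ht hw2 hti]
        subst hvw
        have := mul_left_cancel e'
        subst this
        rfl
      · rintro ⟨t, ht, hto⟩
        have hv : orderOf (t ^ i) = 2 := by
          rw [orderOf_pow_of_dvd (by omega) (hto ▸ dvd_mul_left i 2), hto,
            Nat.mul_div_cancel _ (by omega)]
        have hvv : t ^ i * t ^ i = 1 := by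
          rw [← pow_two]; exact orderOf_dvd_iff_pow_eq_one.1 (dvd_of_eq hv)
        have hui : (t ^ i * t) ^ i = 1 := by
          rw [((Commute.refl t).pow_left i).mul_pow, ← pow_mul]
          obtain ⟨k, hk⟩ := hiodd
          conv_lhs => rw [show t ^ (i * i) = (t ^ i) ^ i from pow_mul t i i]
          nth_rw 2 [hk]
          rw [pow_succ, pow_mul, pow_two, hvv, one_pow, one_mul, hvv]
        have hu : orderOf (t ^ i * t) = i := by
          have hd := orderOf_dvd_of_pow_eq_one hui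
          refine Nat.dvd_antisymm hd ?_
          have h' : orderOf (t ^ i * (t ^ i * t)) ∣ 2 * orderOf (t ^ i * t) := by
            refine ((((Commute.refl t).pow_left i).pow_pow 1 1).orderOf_mul_dvd_lcm |> fun _ => ?_)
            have hc : Commute (t ^ i) (t ^ i * t) :=
              (Commute.refl _).mul_right ((Commute.refl t).pow_left i)
            refine hc.orderOf_mul_dvd_mul_orderOf.trans ?_
            rw [hv]
          rw [← mul_assoc, hvv, one_mul, hto] at h'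
          exact Nat.dvd_of_mul_dvd_mul_left two_pos h'
        exact ⟨⟨⟨t ^ i, pow_mem ht i, hv⟩, ⟨t ^ i * t, mul_mem (pow_mem ht i) ht, hu⟩⟩,
          Subtype.ext (show t ^ i * (t ^ i * t) = t by rw [← mul_assoc, hvv, one_mul])⟩
    constructor
    · have h := card_conj_orderOf hT.torus hi2 (hconj i dvd_rfl)
      rw [hT.normalizer, hCi, hG] at h
      refine Nat.eq_of_mul_eq_mul_right (by omega : 0 < q + 1) ?_
      linear_combination h
    · have h := card_conj_orderOf hT.torus (by omega : 2 < 2 * i) (hconj (2 * i) (dvd_mul_left i 2))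
      rw [hT.normalizer, hC2i, hG] at h
      refine Nat.eq_of_mul_eq_mul_right (by omega : 0 < 3 * (q + 1)) ?_
      linear_combination h
  · intro i hi hid
    obtain ⟨p, hp, hpi⟩ := Nat.exists_prime_and_dvd (show i ≠ 1 by omega)
    have hiodd : i % 2 = 1 := by
      have hro : r % 2 = 1 := Nat.odd_iff.1 ((by decide : Odd 3).pow)
      exact Nat.odd_iff.1 ((Nat.odd_iff.2 (by omega) : Odd (q - r + 1)).of_dvd_nat hid)
    have h := card_conj_orderOf hA.isTorus (by omega : 2 < i) (fun y hy => by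
      obtain ⟨g, hg, -⟩ := hA.exists_conj hp (by rw [hAc]; exact hpi.trans hid) (hy ▸ hpi)
      exact ⟨g, hg⟩)
    rw [hNA, card_orderOf_in_cyclic hA.cyclic (by rw [hAc]; exact hid), hAc, hG, ← hnn] at h
    refine Nat.eq_of_mul_eq_mul_right (show 0 < q - r + 1 from Nat.succ_pos _) ?_
    rw [hs1]
    generalize q - r + 1 = u at h ⊢
    generalize q + r + 1 = v at h ⊢
    generalize q - 1 = w at h ⊢
    linear_combination h
  · intro i hi hid
    obtain ⟨p, hp, hpi⟩ := Nat.exists_prime_and_dvd (show i ≠ 1 by omega)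
    have hiodd : i % 2 = 1 := by
      have hro : r % 2 = 1 := Nat.odd_iff.1 ((by decide : Odd 3).pow)
      exact Nat.odd_iff.1 ((Nat.odd_iff.2 (by omega) : Odd (q + r + 1)).of_dvd_nat hid)
    have h := card_conj_orderOf hB.isTorus (by omega : 2 < i) (fun y hy => by
      obtain ⟨g, hg, -⟩ := hB.exists_conj hp (by rw [hBc]; exact hpi.trans hid) (hy ▸ hpi)
      exact ⟨g, hg⟩)
    rw [hNB, card_orderOf_in_cyclic hB.cyclic (by rw [hBc]; exact hid), hBc, hG, ← hnn] at h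
    refine Nat.eq_of_mul_eq_mul_right (show 0 < q + r + 1 from Nat.succ_pos _) ?_
    rw [hs1]
    generalize q - r + 1 = u at h ⊢
    generalize q + r + 1 = v at h ⊢
    generalize q - 1 = w at h ⊢
    linear_combination h

/-- A cyclic subgroup containing a conjugate of each element of order dividing one of the four
numbers. -/
theorem exists_cyclic_cover (hm : 1 ≤ m) {d : ℕ}
    (hd : d ∣ (3 ^ (2 * m + 1) - 1) / 2 ∨ d ∣ (3 ^ (2 * m + 1) + 1) / 4 ∨
      d ∣ 3 ^ (2 * m + 1) - 3 ^ (m + 1) + 1 ∨ d ∣ 3 ^ (2 * m + 1) + 3 ^ (m + 1) + 1) :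
    ∃ C : Subgroup (G1 K m), IsCyclic C ∧
      ∀ x : G1 K m, orderOf x = d → x ≠ 1 → ∃ g, g * x * g⁻¹ ∈ C := by
  have h8 := pow_odd_mod m
  obtain ⟨T, a, hT, -, hTconj⟩ := exists_qtorus hK hm (m := m) (K := K)
  obtain ⟨A, B, hA, hB, hAc, hBc, -, -⟩ := exists_two_singers hK hm (m := m) (K := K)
  have hpd : ∀ x : G1 K m, orderOf x = d → x ≠ 1 → ∃ p : ℕ, p.Prime ∧ p ∣ orderOf x ∧ p ∣ d :=
    fun x hx hx1 => by
      obtain ⟨p, hp, hpx⟩ := Nat.exists_prime_and_dvd
        (show orderOf x ≠ 1 from fun e => hx1 (orderOf_eq_one_iff.1 e))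
      exact ⟨p, hp, hpx, hx ▸ hpx⟩
  rcases hd with hd | hd | hd | hd
  · refine ⟨H1 hK, isCyclic_H1 hK, fun x hx hx1 => ?_⟩
    obtain ⟨p, hp, hpx, hpd⟩ := hpd x hx hx1
    have hodd : Odd p := (Nat.odd_iff.2 (by omega) : Odd ((3 ^ (2 * m + 1) - 1) / 2)).of_dvd_nat (hpd.trans hd)
    obtain ⟨g, c, -, e⟩ := exists_conj_H1 hK hp (fun e => by subst e; exact absurd hodd (by decide))
      ((hpd.trans hd).trans (Nat.div_dvd_of_dvd (by omega))) hpx
    exact ⟨g, (mem_H1 hK).2 ⟨c, e⟩⟩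
  · refine ⟨Subgroup.zpowers a, inferInstance, fun x hx hx1 => ?_⟩
    obtain ⟨p, hp, hpx, hpd⟩ := hpd x hx hx1
    obtain ⟨g, hg, -⟩ := hTconj x p hp (hpd.trans hd) hpx
    exact ⟨g, hT.mem_zpowers hg (orderOf_dvd_iff_pow_eq_one.1 (by rw [orderOf_conj_eq, hx]; exact hd))⟩
  · refine ⟨A, hA.cyclic, fun x hx hx1 => ?_⟩
    obtain ⟨p, hp, hpx, hpd⟩ := hpd x hx hx1
    obtain ⟨g, hg, -⟩ := hA.exists_conj hp (hAc ▸ hpd.trans hd) hpx
    exact ⟨g, hg⟩
  · refine ⟨B, hB.cyclic, fun x hx hx1 => ?_⟩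
    obtain ⟨p, hp, hpx, hpd⟩ := hpd x hx hx1
    obtain ⟨g, hg, -⟩ := hB.exists_conj hp (hBc ▸ hpd.trans hd) hpx
    exact ⟨g, hg⟩

/-- Cyclic subgroups of equal order dividing one of the four numbers are conjugate. -/
theorem cyclic_conjugate (hm : 1 ≤ m) (d : ℕ)
    (hd : d ∣ (3 ^ (2 * m + 1) - 1) / 2 ∨ d ∣ (3 ^ (2 * m + 1) + 1) / 4 ∨
      d ∣ 3 ^ (2 * m + 1) - 3 ^ (m + 1) + 1 ∨ d ∣ 3 ^ (2 * m + 1) + 3 ^ (m + 1) + 1)
    (A B : Subgroup (G1 K m)) (hA : IsCyclic A) (hB : IsCyclic B)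
    (hAd : Nat.card A = d) (hBd : Nat.card B = d) :
    ∃ g : G1 K m, B = A.map (MulAut.conj g).toMonoidHom := by
  by_cases h1 : d = 1
  · refine ⟨1, ?_⟩
    rw [Subgroup.eq_bot_of_card_eq A (hAd.trans h1), Subgroup.eq_bot_of_card_eq B (hBd.trans h1),
      Subgroup.map_bot]
  obtain ⟨C, hC, hcov⟩ := exists_cyclic_cover hK hm hd
  obtain ⟨x, hxA, hx⟩ := exists_generator_of_isCyclic hA
  obtain ⟨y, hyB, hy⟩ := exists_generator_of_isCyclic hB
  obtain ⟨g, hg⟩ := hcov x (hx.trans hAd) fun e => h1 (by rw [← hAd, ← hx, e, orderOf_one])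
  obtain ⟨h, hh⟩ := hcov y (hy.trans hBd) fun e => h1 (by rw [← hBd, ← hy, e, orderOf_one])
  have e : Subgroup.zpowers (g * x * g⁻¹) = Subgroup.zpowers (h * y * h⁻¹) :=
    eq_of_cyclic_card hC (Subgroup.zpowers_le.2 hg) (Subgroup.zpowers_le.2 hh)
      (by rw [Nat.card_zpowers, Nat.card_zpowers, orderOf_conj_eq, orderOf_conj_eq, hx, hy, hAd, hBd])
  refine ⟨h⁻¹ * g, ?_⟩
  rw [← hxA, ← hyB, MonoidHom.map_zpowers]
  have hy' : y = h⁻¹ * (h * y * h⁻¹) * h := by group
  have e2 : Subgroup.zpowers y = (Subgroup.zpowers (h * y * h⁻¹)).map (MulAut.conj h⁻¹).toMonoidHom := by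
    rw [MonoidHom.map_zpowers]
    congr 1
    all_goals simp [MulAut.conj_apply, mul_assoc]
  rw [e2, ← e, MonoidHom.map_zpowers]
  congr 1
  simp [MulAut.conj_apply, mul_assoc]

theorem exists_hall_prime (hm : 1 ≤ m) {p : ℕ} (hp : p.Prime) (h3 : 3 < p) :
    p ∣ Nat.card (G1 K m) → ∃ C : Subgroup (G1 K m), IsCyclic C ∧
      (Nat.card C).factorization p = (Nat.card (G1 K m)).factorization p := by
  intro hpG
  obtain ⟨T, a, hT, -, -⟩ := exists_qtorus hK hm (m := m) (K := K)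
  obtain ⟨A, B, hA, hB, hAc, hBc, -, -⟩ := exists_two_singers hK hm (m := m) (K := K)
  rcases prime_cases hK hp (by omega) (by omega) hpG with h | h | h | h
  rotate_left 2
  · exact ⟨A, hA.cyclic, hA.hall p hp (hAc ▸ h)⟩
  · exact ⟨B, hB.cyclic, hB.hall p hp (hBc ▸ h)⟩
  all_goals
    set q := 3 ^ (2 * m + 1) with hq
    have h8 : q % 8 = 3 := pow_odd_mod m
    have h27 : 27 ≤ q := le_pow_odd hm
    have hpf := prime_facts (q := q) (by omega) hp
    have hq1 : q - 1 ≠ 0 := by omega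
    have hq2 : q + 1 ≠ 0 := by omega
    have hΦ : q ^ 2 - q + 1 ≠ 0 := Nat.succ_ne_zero _
    have hq3 : q ^ 3 ≠ 0 := pow_ne_zero 3 (by omega)
    have hfac : (Nat.card (G1 K m)).factorization p = (q ^ 3).factorization p + (q - 1).factorization p +
        ((q + 1).factorization p + (q ^ 2 - q + 1).factorization p) := by
      rw [card_G1_prod hK, ← hq, Nat.factorization_mul (mul_ne_zero hq3 hq1) (mul_ne_zero hq2 hΦ),
        Nat.factorization_mul hq3 hq1, Nat.factorization_mul hq2 hΦ]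
      simp only [Finsupp.add_apply]
  · refine ⟨H1 hK, isCyclic_H1 hK, ?_⟩
    rw [card_H1_eq hK, hfac, ← hq, Nat.factorization_eq_zero_of_not_dvd (n := q ^ 3)
        (fun e => hpf.2.2.2.1 ⟨hp.dvd_of_dvd_pow e, h⟩),
      Nat.factorization_eq_zero_of_not_dvd (n := q + 1) (fun e => by have := hpf.1 h e; omega),
      Nat.factorization_eq_zero_of_not_dvd (n := q ^ 2 - q + 1) (fun e => hpf.2.2.1 ⟨h, e⟩)]
    omega
  · refine ⟨Subgroup.zpowers a, inferInstance, ?_⟩
    have he : q + 1 = 4 * ((q + 1) / 4) := by omega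
    have hp1 : p ∣ q + 1 := by rw [he]; exact dvd_mul_of_dvd_right h 4
    have h4 : (q + 1).factorization p = ((q + 1) / 4).factorization p := by
      conv_lhs => rw [he]
      rw [Nat.factorization_mul (by norm_num) (by omega), Finsupp.add_apply,
        Nat.factorization_eq_zero_of_not_dvd (n := 4) (fun e => by
          have := (Nat.prime_dvd_prime_iff_eq hp Nat.prime_two).1
            (hp.dvd_of_dvd_pow (show p ∣ 2 ^ 2 from e))
          omega), zero_add]
    rw [hT.card_zpowers, hfac, h4, Nat.factorization_eq_zero_of_not_dvd (n := q ^ 3)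
        (fun e => hpf.2.2.2.2.1 ⟨hp.dvd_of_dvd_pow e, hp1⟩),
      Nat.factorization_eq_zero_of_not_dvd (n := q - 1) (fun e => by have := hpf.1 e hp1; omega),
      Nat.factorization_eq_zero_of_not_dvd (n := q ^ 2 - q + 1)
        (fun e => by have := hpf.2.1 hp1 e; omega)]
    omega

/-- The Sylow subgroups for the primes greater than three are cyclic. -/
theorem isCyclic_sylow (hm : 1 ≤ m) {p : ℕ} [hp : Fact p.Prime] (h3 : 3 < p) (P : Sylow p (G1 K m)) :
    IsCyclic (P : Subgroup (G1 K m)) := by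
  by_cases hpG : p ∣ Nat.card (G1 K m)
  · obtain ⟨C, hC, hf⟩ := exists_hall_prime hK hm hp.out h3 hpG
    exact isCyclic_sylow_of_factorization hC hf P
  · have e : Nat.card (P : Subgroup (G1 K m)) = 1 := by
      rw [P.card_eq_multiplicity, Nat.factorization_eq_zero_of_not_dvd hpG, pow_zero]
    haveI : Subsingleton (P : Subgroup (G1 K m)) := (Nat.card_eq_one_iff_unique.1 e).1
    infer_instance

end Ree

end Cfsg.Agent.Chev
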