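import Cfsg.Agent.Chev.Ree.MultiplierAvg
import Cfsg.Agent.Chev.Ree.ToriThms
import Cfsg.Agent.SylMult.Basic
import Cfsg.Agent.Classical.LinearBasic
import Cfsg.Agent.Classical.SmallPSL
import Cfsg.Agent.ProjExt.Stem

/-!
The Schur multiplier of `²G₂(q)` is trivial.
-/

set_option autoImplicit false

namespace Cfsg.Agent.Chev

open Cfsg.Lie
open scoped MatrixGroups commutatorElement

universe u

namespace Ree

namespace Mult3

variable {K : Type u} [Field K] [Fintype K] [CharP K 3] {m : ℕ}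
  (hK : Fintype.card K = 3 ^ (2 * m + 1))
include hK

theorem centralizer_invJ_le (hm : 1 ≤ m) :
    Subgroup.centralizer ({(invJ : G1 K m)} : Set (G1 K m)) ≤ Subgroup.zpowers invJ ⊔
      ⁅Subgroup.centralizer ({(invJ : G1 K m)} : Set (G1 K m)),
        Subgroup.centralizer ({(invJ : G1 K m)} : Set (G1 K m))⁆ := by
  obtain ⟨ψ, hc, hne, hker⟩ := exists_psiG hK
  obtain ⟨f, hf, hfe⟩ := centralizer_hom hK hc hne hker
  intro x hx
  obtain ⟨⟨a, b⟩, e⟩ := hf.2 ⟨x, hx⟩
  induction b using QuotientGroup.induction_on with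
  | _ g =>
    have hxe : x = twoHom invJ invJ_sq a * ψ g := by rw [← hfe a g, e]
    rw [hxe]
    refine mul_mem (Subgroup.mem_sup_left ?_) (Subgroup.mem_sup_right ?_)
    · simp only [twoHom, MonoidHom.coe_mk, OneHom.coe_mk]
      split_ifs
      · exact Subgroup.one_mem _
      · exact Subgroup.mem_zpowers _
    · have h4 : 4 ≤ Fintype.card K := by
        rw [hK]
        have : 3 ^ 3 ≤ 3 ^ (2 * m + 1) := Nat.pow_le_pow_right (by norm_num) (by omega)
        omega
      have hperf := Classical.commutator_sl_eq_top (ι := Fin 2) (F := K)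
        (Or.inr (Classical.Small.exists_sq_ne_one h4))
      have hg : ψ g ∈ (commutator (Matrix.SpecialLinearGroup (Fin 2) K)).map ψ :=
        ⟨g, hperf ▸ Subgroup.mem_top g, rfl⟩
      rw [commutator_def, Subgroup.map_commutator] at hg
      refine Subgroup.commutator_mono ?_ ?_ hg <;>
      · rintro _ ⟨y, -, rfl⟩
        exact Subgroup.mem_centralizer_singleton_iff.2 (hc y).eq.symm

/-- Trivial multiplier. -/
theorem ker_eq_bot (hm : 1 ≤ m) {Γ : Type*} [Group Γ] [Finite Γ] (σ : Γ →* G1 K m)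
    (hσ : Cfsg.IsStemExtension σ) : σ.ker = ⊥ := by
  by_contra hne
  obtain ⟨p, hp, hpd⟩ := Nat.exists_prime_and_dvd (n := Nat.card σ.ker)
    (fun e => hne (Subgroup.card_eq_one.1 e))
  haveI := Fact.mk hp
  obtain ⟨⟨z, hz⟩, hzo⟩ := exists_prime_orderOf_dvd_card' p hpd
  rw [Subgroup.orderOf_mk] at hzo
  have hzd := hσ.2.2 hz
  suffices ∀ n : ℕ, z ^ n = 1 → p ∣ n by
    rcases eq_or_ne p 3 with rfl | h3
    · have h := this _ (pow_eq_one hK hσ.1 hσ.2.1 hm hz hzd)
      rcases hp.dvd_mul.1 h with h | h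
      · exact (U1s hK).not_dvd_index (by rw [coe_U1s hK]; exact h)
      · have h3' : 3 ∣ 3 ^ (2 * m + 1) := dvd_pow_self 3 (by omega)
        have : 1 ≤ 3 ^ (2 * m + 1) := Nat.one_le_pow _ _ (by norm_num)
        omega
    obtain ⟨S, hS, hcomm⟩ : ∃ S : Subgroup (G1 K m), ¬ p ∣ S.index ∧
        ∀ u v : Γ, σ u ∈ S → σ v ∈ S → u * v = v * u := by
      rcases eq_or_ne p 2 with rfl | h2
      · obtain ⟨E, -, hE⟩ := exists_sylow_eight (m := m) hK
        refine ⟨E, E.not_dvd_index, fun u v hu hv => ?_⟩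
        have hcm : σ u * σ v = σ v * σ u := by
          have h1 := hE _ hu
          have h2' := hE _ hv
          have h3' := hE _ (mul_mem hu hv)
          calc σ u * σ v = (σ u * σ v)⁻¹ := (inv_eq_of_mul_eq_one_right h3').symm
            _ = σ v * σ u := by
              rw [mul_inv_rev, inv_eq_of_mul_eq_one_right h1, inv_eq_of_mul_eq_one_right h2']
        by_cases h1 : σ u = 1
        · exact (Subgroup.mem_center_iff.1 (hσ.2.1 h1) v).symm
        obtain ⟨g, hg⟩ := involutions_conj hK hm (hE _ hu) h1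
        obtain ⟨k, rfl⟩ := hσ.1 g
        have e1 : σ (k⁻¹ * u * k) = invJ := by
          rw [map_mul, map_mul, map_inv, ← hg]; group
        have h := SylMult.commute_of_centralizer σ hσ.1 hσ.2.1 (u := k⁻¹ * u * k)
          (by rw [e1]; exact centralizer_invJ_le hK hm) (v := k⁻¹ * v * k) (by
            simp only [map_mul, map_inv]
            calc (σ k)⁻¹ * σ u * σ k * ((σ k)⁻¹ * σ v * σ k) = (σ k)⁻¹ * (σ u * σ v) * σ k := by group
              _ = (σ k)⁻¹ * σ v * σ k * ((σ k)⁻¹ * σ u * σ k) := by rw [hcm]; group)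
        calc u * v = k * ((k⁻¹ * u * k) * (k⁻¹ * v * k)) * k⁻¹ := by group
          _ = v * u := by rw [h]; group
      · have hp5 : 3 < p := by
          have := hp.two_le
          omega
        obtain ⟨P⟩ := (inferInstance : Nonempty (Sylow p (G1 K m)))
        haveI := isCyclic_sylow hK hm hp5 P
        obtain ⟨⟨g, hgP⟩, hgen⟩ := IsCyclic.exists_generator (α := (P : Subgroup (G1 K m)))
        obtain ⟨a, rfl⟩ := hσ.1 g
        refine ⟨P, P.not_dvd_index, fun u v hu hv => SylMult.commute_of_cyclic σ hσ.2.1 (a := a) ?_ ?_⟩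
        · obtain ⟨k, hk⟩ := hgen ⟨_, hu⟩
          exact ⟨k, congrArg Subtype.val hk⟩
        · obtain ⟨k, hk⟩ := hgen ⟨_, hv⟩
          exact ⟨k, congrArg Subtype.val hk⟩
    exact hS (this _ (SylMult.pow_index_eq_one σ hσ.1 hσ.2.1 hcomm hz hzd))
  intro n hn
  rw [← hzo]
  exact orderOf_dvd_of_pow_eq_one hn

theorem multiplier (hm : 1 ≤ m) : Cfsg.HasCyclicSchurMultiplier (G1 K m) 1 :=
  ProjExt.Stem.hasCyclicSchurMultiplier_one fun Γ _ _ σ hσ => ker_eq_bot hK hm σ hσ

end Mult3

end Ree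

end Cfsg.Agent.Chev
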