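import Cfsg.Agent.Chev.Ree.MultiplierThree

/-!
Averaging over the torus separates the kernel from the derived group of the preimage of the Sylow
3-subgroup of `²G₂(q)`; the transfer then bounds the 3-part of the multiplier.
-/

set_option autoImplicit false
set_option maxHeartbeats 1000000

namespace Cfsg.Agent.Chev

open Cfsg.Lie
open scoped MatrixGroups commutatorElement

universe u v

namespace Ree

namespace Mult3

variable {Γ : Type v} [Group Γ]

/-- The product of the conjugates of an element by the first powers of `h`. -/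
def avg (h : Γ) : ℕ → Γ → Γ
  | 0, _ => 1
  | n + 1, a => avg h n a * (h ^ n * a * (h ^ n)⁻¹)

variable {A : Subgroup Γ} {h : Γ} (hA : ∀ a ∈ A, ∀ b ∈ A, a * b = b * a)
  (hh : ∀ a ∈ A, h * a * h⁻¹ ∈ A)

include hh in
theorem pow_conj_mem {a : Γ} (ha : a ∈ A) : ∀ n : ℕ, h ^ n * a * (h ^ n)⁻¹ ∈ A
  | 0 => by simpa using ha
  | n + 1 => by
    rw [show h ^ (n + 1) * a * (h ^ (n + 1))⁻¹ = h * (h ^ n * a * (h ^ n)⁻¹) * h⁻¹ by
      rw [pow_succ']; group]
    exact hh _ (pow_conj_mem ha n)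

include hh in
theorem avg_mem {a : Γ} (ha : a ∈ A) : ∀ n : ℕ, avg h n a ∈ A
  | 0 => A.one_mem
  | n + 1 => A.mul_mem (avg_mem ha n) (pow_conj_mem hh ha n)

include hA hh in
theorem avg_mul {a b : Γ} (ha : a ∈ A) (hb : b ∈ A) :
    ∀ n : ℕ, avg h n (a * b) = avg h n a * avg h n b
  | 0 => (mul_one 1).symm
  | n + 1 => by
    rw [avg, avg, avg, avg_mul ha hb n]
    have e := hA _ (avg_mem hh hb n) _ (pow_conj_mem hh ha n)
    calc avg h n a * avg h n b * (h ^ n * (a * b) * (h ^ n)⁻¹)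
        = avg h n a * (avg h n b * (h ^ n * a * (h ^ n)⁻¹)) * (h ^ n * b * (h ^ n)⁻¹) := by group
      _ = _ := by rw [e]; group

theorem avg_central {z : Γ} (hz : z ∈ Subgroup.center Γ) : ∀ n : ℕ, avg h n z = z ^ n
  | 0 => (pow_zero z).symm
  | n + 1 => by
    rw [avg, avg_central hz n, Subgroup.mem_center_iff.1 hz, mul_inv_cancel_right, pow_succ]

theorem avg_one (n : ℕ) : avg h n (1 : Γ) = 1 := by
  rw [avg_central (Subgroup.one_mem _), one_pow]

theorem avg_succ (a : Γ) : ∀ n : ℕ, avg h (n + 1) a = a * (h * avg h n a * h⁻¹)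
  | 0 => by simp [avg]
  | n + 1 => by
    show avg h (n + 1) a * (h ^ (n + 1) * a * (h ^ (n + 1))⁻¹) =
      a * (h * (avg h n a * (h ^ n * a * (h ^ n)⁻¹)) * h⁻¹)
    rw [avg_succ a n, pow_succ']
    group

include hA hh in
theorem avg_fixed {a : Γ} (ha : a ∈ A) {n : ℕ} (hn : h ^ n ∈ Subgroup.center Γ) :
    h * avg h n a * h⁻¹ = avg h n a := by
  have e1 : avg h (n + 1) a = avg h n a * a := by
    rw [avg, ← Subgroup.mem_center_iff.1 hn a, mul_inv_cancel_right]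
  rw [avg_succ, hA _ (avg_mem hh ha n) _ ha] at e1
  exact mul_left_cancel e1

theorem avg_conj {j : Γ} (hj : ∀ x : Γ, h * (j * x * j⁻¹) * h⁻¹ = j * (h * x * h⁻¹) * j⁻¹) (a : Γ) :
    ∀ n : ℕ, avg h n (j * a * j⁻¹) = j * avg h n a * j⁻¹
  | 0 => by simp [avg]
  | n + 1 => by
    rw [avg_succ, avg_succ, avg_conj hj a n, hj]
    group

/-- Conjugations by lifts of commuting elements commute. -/
theorem conj_conj {G : Type*} [Group G] {σ : Γ →* G} (hc : σ.ker ≤ Subgroup.center Γ) {h j : Γ}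
    (e : σ h * σ j = σ j * σ h) (x : Γ) : h * (j * x * j⁻¹) * h⁻¹ = j * (h * x * h⁻¹) * j⁻¹ := by
  have hz : (h * j)⁻¹ * (j * h) ∈ Subgroup.center Γ :=
    hc (by rw [MonoidHom.mem_ker, map_mul, map_inv, map_mul, map_mul, e, inv_mul_cancel])
  calc h * (j * x * j⁻¹) * h⁻¹ = (h * j) * x * (h * j)⁻¹ := by group
    _ = (h * j) * (x * ((h * j)⁻¹ * (j * h))) * ((h * j)⁻¹ * (j * h))⁻¹ * (h * j)⁻¹ := by group
    _ = (h * j) * (((h * j)⁻¹ * (j * h)) * x) * ((h * j)⁻¹ * (j * h))⁻¹ * (h * j)⁻¹ := by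
      rw [Subgroup.mem_center_iff.1 hz x]
    _ = j * (h * x * h⁻¹) * j⁻¹ := by group

section Ree

variable {K : Type u} [Field K] [Fintype K] [CharP K 3] {m : ℕ}
  (hK : Fintype.card K = 3 ^ (2 * m + 1)) {σ : Γ →* G1 K m} (hσ : Function.Surjective σ)
  (hc : σ.ker ≤ Subgroup.center Γ) (hm : 1 ≤ m)

include hK hσ hc hm

/-- Averaging kills the commutators of the preimage of the Sylow subgroup. -/
theorem exists_avg : ∃ h : Γ, (∀ a ∈ (mid hK).comap σ, h * a * h⁻¹ ∈ (mid hK).comap σ) ∧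
    ∀ x y : Γ, σ x ∈ U1 K m → σ y ∈ U1 K m → avg h (3 ^ (2 * m + 1) - 1) ⁅x, y⁆ = 1 := by
  obtain ⟨c₀, hc₀⟩ := exists_free hK hm
  obtain ⟨h, hh0⟩ := hσ (tt hK c₀)
  obtain ⟨x₀, hx0, hx1, hxm⟩ := exists_gen hK hm
  set N := 3 ^ (2 * m + 1) - 1
  set A := (mid hK).comap σ
  have hA : ∀ a ∈ A, ∀ b ∈ A, a * b = b * a := fun a ha b hb =>
    commutatorElement_eq_one_iff_mul_comm.1 (mid_abelian hK hσ hc hm ha hb)
  have hh : ∀ a ∈ A, h * a * h⁻¹ ∈ A := by
    rintro a ⟨u, v, e⟩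
    refine ⟨(mu m c₀ : K) * u, (c₀ : K) * v, ?_⟩
    rw [map_mul, map_mul, map_inv, hh0, e, tt_conj_rr hK, mul_zero]
  have hN : h ^ N ∈ Subgroup.center Γ := hc (by
    have : c₀ ^ N = 1 := by
      refine Units.ext ?_
      rw [Units.val_pow_eq_pow_val, show N = Fintype.card K - 1 by rw [hK], Units.val_one]
      exact FiniteField.pow_card_sub_one_eq_one _ c₀.ne_zero
    rw [MonoidHom.mem_ker, map_pow, hh0, ← map_pow, this, map_one])
  set P := avg h N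
  have Pcen : ∀ a ∈ A, P a ∈ Subgroup.center Γ := fun a ha => by
    obtain ⟨u, v, e⟩ := avg_mem hh ha N
    have e2 := congrArg σ (avg_fixed hA hh ha hN)
    rw [map_mul, map_mul, map_inv, hh0, e] at e2
    obtain ⟨-, hu, hv⟩ := free_of_sq_ne_one (isTheta hK) hc₀ (congrArg Subtype.val e2 :)
    change u = 0 at hu; change v = 0 at hv
    exact hc (by rw [MonoidHom.mem_ker, e, hu, hv, rr_zero])
  have Pmul : ∀ a ∈ A, ∀ b ∈ A, P (a * b) = P a * P b := fun a ha b hb => avg_mul hA hh ha hb N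
  have memL : ∀ p, σ (L hσ p) ∈ U1 K m := fun p => L_spec hσ p ▸ rr_mem_U1 hK p
  have inU : ∀ a ∈ A, σ a ∈ U1 K m := fun a ha => mid_le_U1 hK ha
  have comA : ∀ x y : Γ, σ x ∈ U1 K m → σ y ∈ U1 K m → ⁅x, y⁆ ∈ A := fun x y hx hy => by
    show σ ⁅x, y⁆ ∈ mid hK
    rw [map_commutatorElement]
    exact commutator_mem_mid hK hx hy
  have last : ∀ x a : Γ, σ x ∈ U1 K m → a ∈ A → ∃ w : K, σ ⁅x, a⁆ = rr (0, 0, w) := by
    intro x a hx ha
    obtain ⟨⟨t, u, v⟩, e⟩ := (mem_U1 hK).1 hx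
    obtain ⟨u', v', e'⟩ := ha
    refine ⟨t * u', ?_⟩
    have : σ x * σ a = rr (0, 0, t * u') * (σ a * σ x) := by
      rw [e, e', rr_mid_right hK, rr_mid_left hK, rr_mid_left hK]
      congr 2
      refine Prod.ext (by simp [add_comm]) ?_
      ring
    rw [map_commutatorElement, commutatorElement_def, this]
    group
  have lastC : ∀ x y a : Γ, σ x ∈ U1 K m → σ y ∈ U1 K m → a ∈ A → y * ⁅x, a⁆ * y⁻¹ = ⁅x, a⁆ := by
    intro x y a hx hy ha
    obtain ⟨w, e⟩ := last x a hx ha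
    rw [commutatorElement_eq_one_iff_mul_comm.1 (last_central hK hσ hc hm hy e), mul_inv_cancel_right]
  -- the pairing with the middle
  have b2l : ∀ x x' a : Γ, σ x ∈ U1 K m → σ x' ∈ U1 K m → a ∈ A →
      P ⁅x * x', a⁆ = P ⁅x, a⁆ * P ⁅x', a⁆ := by
    intro x x' a hx hx' ha
    have ma := comA x a hx (inU a ha)
    have ma' := comA x' a hx' (inU a ha)
    rw [show ⁅x * x', a⁆ = x * ⁅x', a⁆ * x⁻¹ * ⁅x, a⁆ by simp only [commutatorElement_def]; group,
      lastC x' x a hx' hx ha, Pmul _ ma' _ ma, Subgroup.mem_center_iff.1 (Pcen _ ma) (P ⁅x', a⁆)]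
  have b2r : ∀ x a b : Γ, σ x ∈ U1 K m → a ∈ A → b ∈ A →
      P ⁅x, a * b⁆ = P ⁅x, a⁆ * P ⁅x, b⁆ := by
    intro x a b hx ha hb
    rw [show ⁅x, a * b⁆ = ⁅x, a⁆ * (a * ⁅x, b⁆ * a⁻¹) by simp only [commutatorElement_def]; group,
      lastC x a b hx (inU a ha) hb, Pmul _ (comA x a hx (inU a ha)) _ (comA x b hx (inU b hb))]
  have Pconj : ∀ (c : Kˣ) (j : Γ), σ j = tt hK c → ∀ a ∈ A, P (j * a * j⁻¹) = P a := fun c j hj a ha => by
    rw [show P (j * a * j⁻¹) = j * P a * j⁻¹ from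
      avg_conj (conj_conj hc (by rw [hh0, hj, ← map_mul, ← map_mul, mul_comm])) a N,
      Subgroup.mem_center_iff.1 (Pcen a ha) j, mul_inv_cancel_right]
  have Umem : ∀ u, L hσ ((0 : K), u, (0 : K)) ∈ A := fun u => ⟨u, 0, L_spec hσ _⟩
  have Vmem : ∀ v, L hσ ((0 : K), (0 : K), v) ∈ A := fun v => ⟨0, v, L_spec hσ _⟩
  -- only the first coordinates matter
  have depT2 : ∀ x a : Γ, ∀ t u v u' v', σ x = rr (t, u, v) → σ a = rr (0, u', v') →
      P ⁅x, a⁆ = P ⁅L hσ (t, 0, 0), L hσ (0, u', 0)⁆ := by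
    intro x a t u v u' v' ex ea
    rw [comm_congr hc (a' := L hσ (t, 0, 0) * L hσ (0, u, v))
      (b' := L hσ (0, u', 0) * L hσ (0, 0, v'))
      (by rw [ex, map_mul, L_spec, L_spec, rr_mid_right hK, zero_add, zero_add])
      (by rw [ea, map_mul, L_spec, L_spec, rr_mid_mul hK, add_zero, zero_add])]
    have hma : L hσ (0, u', 0) * L hσ (0, 0, v') ∈ A := A.mul_mem (Umem u') (Vmem v')
    have huv : L hσ ((0 : K), u, v) ∈ A := ⟨u, v, L_spec hσ _⟩
    rw [b2l _ _ _ (memL _) (memL _) hma, b2r _ _ _ (memL _) (Umem u') (Vmem v'),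
      mid_abelian hK hσ hc hm huv hma, last_central hK hσ hc hm (memL _) (L_spec hσ (0, 0, v'))]
    rw [show P 1 = 1 from avg_one N, mul_one, mul_one]
  have kill : ∀ x a : Γ, σ x ∈ U1 K m → a ∈ A → P ⁅x, a⁆ = 1 := by
    intro x a hx ha
    obtain ⟨⟨t, u, v⟩, ex⟩ := (mem_U1 hK).1 hx
    obtain ⟨u', v', ea⟩ := ha
    rw [depT2 x a t u v u' v' ex ea]
    have inv : ∀ (c : Kˣ) (a b : K), P ⁅L hσ ((lam m c : K) * a, 0, 0), L hσ (0, (mu m c : K) * b, 0)⁆ =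
        P ⁅L hσ (a, 0, 0), L hσ (0, b, 0)⁆ := fun c a b => by
      obtain ⟨j, hj⟩ := hσ (tt hK c)
      rw [← Pconj c j hj _ (comA _ _ (memL (a, 0, 0)) (memL (0, b, 0))), conjugate_commutatorElement]
      congr 1
      refine (comm_congr hc ?_ ?_).symm <;>
        rw [map_mul, map_mul, map_inv, hj, L_spec, L_spec, tt_conj_rr hK, mul_zero, mul_zero]
    exact beta_one (fun a b => P ⁅L hσ (a, 0, 0), L hσ (0, b, 0)⁆)
      (fun a a' b => by
        rw [← b2l _ _ _ (memL (a, 0, 0)) (memL (a', 0, 0)) (Umem b)]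
        exact (depT2 _ _ (a + a') _ _ b 0 (by rw [map_mul, L_spec, L_spec, rr_mul hK])
          (L_spec hσ _)).symm)
      (fun a b b' => by
        rw [← b2r _ _ _ (memL (a, 0, 0)) (Umem b) (Umem b')]
        exact congrArg P (comm_congr hc rfl (by
          rw [map_mul, L_spec, L_spec, L_spec, rr_mid_mul hK, add_zero])))
      1 1 (-1) 1 1 1 (by linear_combination -three_eq (K := K)) one_ne_zero one_ne_zero one_ne_zero
      (fun a b => by simp) (fun a b => by simp)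
      (fun a b => by simpa [lam_neg_one hK, mu_neg_one hK] using inv (-1) a b) (by norm_num) t u'
  have killL : ∀ a y : Γ, σ y ∈ U1 K m → a ∈ A → P ⁅a, y⁆ = 1 := by
    intro a y hy ha
    have h1 := Pmul _ (comA y a hy (inU a ha)) _ (comA a y (inU a ha) hy)
    rw [kill y a hy ha, one_mul, ← commutatorElement_inv a y, inv_mul_cancel,
      show P 1 = 1 from avg_one N] at h1
    exact h1.symm
  have Pin : ∀ x a : Γ, σ x ∈ U1 K m → a ∈ A → P (x * a * x⁻¹) = P a := fun x a hx ha => by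
    rw [show x * a * x⁻¹ = ⁅x, a⁆ * a by rw [commutatorElement_def]; group,
      Pmul _ (comA x a hx (inU a ha)) _ ha, kill x a hx ha, one_mul]
  have ql : ∀ x x' y : Γ, σ x ∈ U1 K m → σ x' ∈ U1 K m → σ y ∈ U1 K m →
      P ⁅x * x', y⁆ = P ⁅x, y⁆ * P ⁅x', y⁆ := by
    intro x x' y hx hx' hy
    have m1 := comA x y hx hy
    have m2 := comA x' y hx' hy
    have m3 : x * ⁅x', y⁆ * x⁻¹ ∈ A := by
      rw [show x * ⁅x', y⁆ * x⁻¹ = ⁅x, ⁅x', y⁆⁆ * ⁅x', y⁆ by simp only [commutatorElement_def]; group]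
      exact A.mul_mem (comA _ _ hx (inU _ m2)) m2
    rw [show ⁅x * x', y⁆ = x * ⁅x', y⁆ * x⁻¹ * ⁅x, y⁆ by simp only [commutatorElement_def]; group,
      Pmul _ m3 _ m1, Pin x _ hx m2, Subgroup.mem_center_iff.1 (Pcen _ m1) (P ⁅x', y⁆)]
  have qswap : ∀ x y : Γ, σ x ∈ U1 K m → σ y ∈ U1 K m → P ⁅x, y⁆ = (P ⁅y, x⁆)⁻¹ := fun x y hx hy => by
    refine eq_inv_of_mul_eq_one_left ?_
    rw [← Pmul _ (comA x y hx hy) _ (comA y x hy hx), ← commutatorElement_inv y x, inv_mul_cancel]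
    exact avg_one N
  have depT : ∀ x y : Γ, ∀ t u v, σ x = rr (t, u, v) → σ y ∈ U1 K m →
      P ⁅x, y⁆ = P ⁅L hσ (t, 0, 0), y⁆ := by
    intro x y t u v ex hy
    rw [comm_congr hc (a' := L hσ (t, 0, 0) * L hσ (0, u, v)) (b' := y)
      (by rw [ex, map_mul, L_spec, L_spec, rr_mid_right hK, zero_add, zero_add]) rfl,
      ql _ _ _ (memL _) (memL _) hy, killL _ _ hy ⟨u, v, L_spec hσ _⟩, mul_one]
  refine ⟨h, hh, fun x y hx hy => ?_⟩
  obtain ⟨⟨t, u, v⟩, ex⟩ := (mem_U1 hK).1 hx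
  obtain ⟨⟨t', u', v'⟩, ey⟩ := (mem_U1 hK).1 hy
  show P ⁅x, y⁆ = 1
  rw [depT x y t u v ex hy, qswap _ _ (memL _) hy, depT y _ t' u' v' ey (memL _),
    ← qswap _ _ (memL _) (memL _)]
  have inv : ∀ (c : Kˣ) (a b : K), P ⁅L hσ ((lam m c : K) * a, 0, 0), L hσ ((lam m c : K) * b, 0, 0)⁆ =
      P ⁅L hσ (a, 0, 0), L hσ (b, 0, 0)⁆ := fun c a b => by
    obtain ⟨j, hj⟩ := hσ (tt hK c)
    rw [← Pconj c j hj _ (comA _ _ (memL (a, 0, 0)) (memL (b, 0, 0))), conjugate_commutatorElement]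
    congr 1
    refine (comm_congr hc ?_ ?_).symm <;>
      rw [map_mul, map_mul, map_inv, hj, L_spec, L_spec, tt_conj_rr hK, mul_zero, mul_zero]
  have addl : ∀ a a' b : K, P ⁅L hσ (a + a', 0, 0), L hσ (b, 0, 0)⁆ =
      P ⁅L hσ (a, 0, 0), L hσ (b, 0, 0)⁆ * P ⁅L hσ (a', 0, 0), L hσ (b, 0, 0)⁆ := fun a a' b => by
    rw [← ql _ _ _ (memL (a, 0, 0)) (memL (a', 0, 0)) (memL (b, 0, 0))]
    exact (depT _ _ (a + a') _ _ (by rw [map_mul, L_spec, L_spec, rr_mul hK]) (memL _)).symm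
  have addr : ∀ a b b' : K, P ⁅L hσ (a, 0, 0), L hσ (b + b', 0, 0)⁆ =
      P ⁅L hσ (a, 0, 0), L hσ (b, 0, 0)⁆ * P ⁅L hσ (a, 0, 0), L hσ (b', 0, 0)⁆ := fun a b b' => by
    simp only [qswap _ _ (memL (a, 0, 0)) (memL _), addl b b' a, mul_inv_rev]
    exact (Subgroup.mem_center_iff.1 (inv_mem (Pcen _ (comA _ _ (memL (b, 0, 0)) (memL (a, 0, 0))))) _)
  obtain ⟨c, hcl⟩ := exists_lam hK hx0
  have hs : 1 + x₀ ≠ 0 := fun e => hxm (by linear_combination e)
  obtain ⟨d, hdl⟩ := exists_lam hK hs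
  exact beta_one (fun a b => P ⁅L hσ (a, 0, 0), L hσ (b, 0, 0)⁆) addl addr 1 x₀ (1 + x₀) 1 x₀ (1 + x₀) rfl one_ne_zero hx0 hs
    (fun a b => by simp) (fun a b => by simpa [hcl] using inv c a b)
    (fun a b => by simpa [hdl] using inv d a b) (inv_not_add one_ne_zero hx0 hs (Ne.symm hx1)) t t'

/-- The transfer to the preimage of the Sylow 3-subgroup bounds the kernel. -/
theorem pow_eq_one [Finite Γ] {z : Γ} (hz : z ∈ σ.ker) (hzd : z ∈ commutator Γ) :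
    z ^ ((U1 K m).index * (3 ^ (2 * m + 1) - 1)) = 1 := by
  obtain ⟨h, hh, havg⟩ := exists_avg hK hσ hc hm
  set W := (U1 K m).comap σ
  set A := (mid hK).comap σ
  have hA : ∀ a ∈ A, ∀ b ∈ A, a * b = b * a := fun a ha b hb =>
    commutatorElement_eq_one_iff_mul_comm.1 (mid_abelian hK hσ hc hm ha hb)
  have key : ∀ (n : ℕ) (g₀ : Γ), g₀⁻¹ * z ^ n * g₀ ∈ W → g₀⁻¹ * z ^ n * g₀ = z ^ n := fun n g₀ _ => by
    rw [Subgroup.mem_center_iff.1 (hc (pow_mem hz n)) g₀⁻¹, inv_mul_cancel_right]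
  have hT : MonoidHom.transfer (Abelianization.of (G := ↥W)) z = 1 :=
    Abelianization.commutator_subset_ker (MonoidHom.transfer (Abelianization.of (G := ↥W))) hzd
  rw [MonoidHom.transfer_eq_pow _ z key] at hT
  replace hT := (QuotientGroup.eq_one_iff _).1 hT
  have hW : W.index = (U1 K m).index := Subgroup.index_comap_of_surjective _ hσ
  have hin : z ^ W.index ∈ (commutator ↥W).map W.subtype := ⟨_, hT, rfl⟩
  rw [Subgroup.map_subtype_commutator] at hin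
  have main : ∀ x ∈ ⁅W, W⁆, x ∈ A ∧ avg h (3 ^ (2 * m + 1) - 1) x = 1 := by
    intro x hx
    rw [Subgroup.commutator_def] at hx
    induction hx using Subgroup.closure_induction with
    | mem x hx =>
      obtain ⟨a, ha, b, hb, rfl⟩ := hx
      exact ⟨by
        show σ ⁅a, b⁆ ∈ mid hK
        rw [map_commutatorElement]
        exact commutator_mem_mid hK ha hb, havg a b ha hb⟩
    | one => exact ⟨A.one_mem, avg_one _⟩
    | mul a b _ _ ha hb =>
      exact ⟨A.mul_mem ha.1 hb.1, by rw [avg_mul hA hh ha.1 hb.1, ha.2, hb.2, mul_one]⟩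
    | inv a _ ha =>
      refine ⟨A.inv_mem ha.1, ?_⟩
      have := avg_mul hA hh ha.1 (A.inv_mem ha.1) (3 ^ (2 * m + 1) - 1)
      rw [mul_inv_cancel, avg_one, ha.2, one_mul] at this
      exact this.symm
  have := (main _ hin).2
  rw [avg_central (hc (pow_mem hz _)), ← pow_mul, hW] at this
  exact this

end Ree

end Mult3

end Ree

end Cfsg.Agent.Chev
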