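import Cfsg.Agent.Chev.Ree.Point
import Mathlib.GroupTheory.Transfer
import Mathlib.FieldTheory.Finite.Basic

/-!
Central extensions of `²G₂(q)` above the Sylow 3-subgroup: the kernel meets the derived group of
the preimage in elements killed by `q - 1`.
-/

set_option autoImplicit false
set_option maxHeartbeats 1000000

namespace Cfsg.Agent.Chev

open Cfsg.Lie
open scoped MatrixGroups commutatorElement IsMulCommutative

universe u v

namespace Ree

namespace Mult3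

/-- A pairing invariant under three scalings, two adding up to the third, is trivial. -/
theorem beta_one {K : Type*} [Field K] {A : Type*} [Group A] (β : K → K → A)
    (hl : ∀ x x' y, β (x + x') y = β x y * β x' y) (hr : ∀ x y y', β x (y + y') = β x y * β x y')
    (a₁ a₂ a₃ b₁ b₂ b₃ : K) (ha : a₃ = a₁ + a₂)
    (hb₁ : b₁ ≠ 0) (hb₂ : b₂ ≠ 0) (hb₃ : b₃ ≠ 0)
    (h₁ : ∀ x y, β (a₁ * x) (b₁ * y) = β x y) (h₂ : ∀ x y, β (a₂ * x) (b₂ * y) = β x y)
    (h₃ : ∀ x y, β (a₃ * x) (b₃ * y) = β x y)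
    (hd : b₃⁻¹ - (b₁⁻¹ + b₂⁻¹) ≠ 0) : ∀ x y, β x y = 1 := by
  have mv : ∀ a b : K, b ≠ 0 → (∀ x y, β (a * x) (b * y) = β x y) →
      ∀ x y, β (a * x) y = β x (b⁻¹ * y) := fun a b hb h x y => by
    have e := h x (b⁻¹ * y)
    rw [mul_inv_cancel_left₀ hb] at e
    exact e
  intro x y
  set δ := b₃⁻¹ - (b₁⁻¹ + b₂⁻¹) with hδ
  have key : β x (b₃⁻¹ * (δ⁻¹ * y)) = β x ((b₁⁻¹ + b₂⁻¹) * (δ⁻¹ * y)) := by
    rw [← mv a₃ b₃ hb₃ h₃, ha, add_mul, hl, mv a₁ b₁ hb₁ h₁, mv a₂ b₂ hb₂ h₂, ← hr, add_mul]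
  have split : b₃⁻¹ * (δ⁻¹ * y) = y + (b₁⁻¹ + b₂⁻¹) * (δ⁻¹ * y) := by
    have : b₃⁻¹ = δ + (b₁⁻¹ + b₂⁻¹) := by rw [hδ]; ring
    rw [this, add_mul, mul_inv_cancel_left₀ hd]
  rw [split, hr] at key
  exact mul_eq_right.1 key

variable {K : Type u} [Field K] [Fintype K] [CharP K 3] {m : ℕ}
  (hK : Fintype.card K = 3 ^ (2 * m + 1))

omit [Fintype K] in
/-- Inversion is not additive. -/
theorem inv_not_add {a b : K} (ha : a ≠ 0) (hb : b ≠ 0) (hab : a + b ≠ 0) (hne : a ≠ b) :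
    (a + b)⁻¹ - (a⁻¹ + b⁻¹) ≠ 0 := by
  intro h
  field_simp at h
  refine hne (sub_eq_zero.1 (pow_eq_zero_iff (two_ne_zero) |>.1 ?_))
  linear_combination (-1 : K) * h - a * b * three_eq (K := K)

include hK

omit [CharP K 3] in
theorem neg_one_not_sq (x : K) : x ^ 2 + 1 ≠ 0 := by
  intro h
  have hs : IsSquare (-1 : K) := ⟨x, by linear_combination -h⟩
  refine FiniteField.isSquare_neg_one_iff.1 hs ?_
  rw [hK, Nat.pow_mod]
  have : (3 ^ (2 * m + 1)) % 4 = 3 := by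
    rw [pow_succ, pow_mul, Nat.mul_mod, Nat.pow_mod]
    norm_num
  rwa [← Nat.pow_mod]

theorem exists_gen (hm : 1 ≤ m) : ∃ x : K, x ≠ 0 ∧ x ≠ 1 ∧ x ≠ -1 := by
  obtain ⟨c, hc⟩ := exists_free hK hm
  refine ⟨c, c.ne_zero, fun e => hc ?_, fun e => hc ?_⟩
  · ext; simp [e]
  · ext; simp [e]

theorem sq_mem_mu {s : K} (hs : s ≠ 0) : ∃ c : Kˣ, (mu m c : K) = s ^ 2 := by
  have hker : Nat.card (mu (K := K) m).ker ≤ 2 := by
    have hsub : ((mu (K := K) m).ker : Set Kˣ) ⊆ {1, -1} := fun c hc => by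
      have h2 := mu_eq_one hK hc
      have h3 : (c : K) ^ 2 = 1 := by rw [← Units.val_pow_eq_pow_val, h2, Units.val_one]
      rcases sq_eq_one_iff.1 h3 with e | e
      · exact Or.inl (Units.ext e)
      · exact Or.inr (Units.ext (by rw [e, Units.val_neg, Units.val_one]))
    exact (Nat.card_mono (Set.toFinite _) hsub).trans (by
      rw [Nat.card_coe_set_eq]; exact (Set.ncard_insert_le _ _).trans (by simp))
  have hidx : (mu (K := K) m).range.index = Nat.card (mu (K := K) m).ker := by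
    have h1 := (mu (K := K) m).range.card_mul_index
    have h2 := (mu (K := K) m).ker.card_mul_index
    rw [Subgroup.index_ker] at h2
    have : 0 < Nat.card (mu (K := K) m).range := Nat.card_pos
    refine Nat.eq_of_mul_eq_mul_left this ?_
    rw [h1, ← h2, mul_comm]
  have h := Subgroup.pow_index_mem (mu (K := K) m).range (Units.mk0 s hs)
  rw [hidx] at h
  have hpos : 0 < Nat.card (mu (K := K) m).ker := Nat.card_pos
  rcases (show Nat.card (mu (K := K) m).ker = 1 ∨ Nat.card (mu (K := K) m).ker = 2 by omega) with e | e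
  · rw [e, pow_one] at h
    obtain ⟨c, hc⟩ := h
    exact ⟨c * c, by rw [map_mul, hc, Units.val_mul, Units.val_mk0, pow_two]⟩
  · rw [e] at h
    obtain ⟨c, hc⟩ := h
    exact ⟨c, by rw [hc, Units.val_pow_eq_pow_val, Units.val_mk0]⟩

theorem exists_lam {a : K} (ha : a ≠ 0) : ∃ c : Kˣ, (lam m c : K) = a := by
  obtain ⟨c, hc⟩ := (lam_bijective hK).2 (Units.mk0 a ha)
  exact ⟨c, by rw [hc, Units.val_mk0]⟩

theorem lam_neg_one : (lam m (-1 : Kˣ) : K) = -1 := by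
  rw [lam_val, Units.val_neg, Units.val_one, map_neg, map_one, neg_one_sq, Odd.neg_one_pow (by decide)]
  simp

theorem mu_neg_one : (mu m (-1 : Kˣ) : K) = 1 := by
  rw [mu_val, Units.val_neg, Units.val_one, map_neg, map_one, Odd.neg_one_pow (by decide)]
  simp

/-- The weights `(lam c, c)` do not add up like their second entries' inverses. -/
theorem lam_not_add {a : K} (ha1 : a ≠ 1) (ham : a ≠ -1) {c d : Kˣ} (hc : (lam m c : K) = a)
    (hd : (lam m d : K) = 1 + a) : (d : K)⁻¹ - (1 + (c : K)⁻¹) ≠ 0 := by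
  intro h
  rw [sub_eq_zero] at h
  set x := (c : K)⁻¹ with hx
  have hx0 : x ≠ 0 := inv_ne_zero c.ne_zero
  have hx10 : 1 + x ≠ 0 := h ▸ inv_ne_zero d.ne_zero
  have eF : ∀ e : Kˣ, (lam m e : K) = th K m ((e : K)⁻¹) ^ 3 / ((e : K)⁻¹) ^ 2 := fun e => by
    have h1 := e.ne_zero
    have h2 : th K m (e : K) ≠ 0 := fun z => h1 ((map_eq_zero (th K m)).1 z)
    rw [lam_val, map_inv₀]
    field_simp
  have e1 := eF c
  have e2 := eF d
  rw [hc, ← hx] at e1
  rw [hd, h, map_add, map_one] at e2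
  have hA : th K m x ^ 3 = a * x ^ 2 := ((eq_div_iff (pow_ne_zero 2 hx0)).1 e1).symm
  have hB : (1 + th K m x) ^ 3 = (1 + a) * (1 + x) ^ 2 :=
    ((eq_div_iff (pow_ne_zero 2 hx10)).1 e2).symm
  have hC : 1 + a * x ^ 2 = (1 + a) * (1 + x) ^ 2 := by
    rw [← hA, ← hB]
    linear_combination -(th K m x + th K m x ^ 2) * three_eq (K := K)
  have hxne : x ≠ 1 := fun e => by
    have hc1 : c = 1 := Units.ext (inv_eq_one.1 e)
    rw [hc1, map_one, Units.val_one] at hc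
    exact ha1 hc.symm
  have hfac : (x - 1) * (a - x) = 0 := by
    linear_combination hC + (a * x + x) * three_eq (K := K)
  have hax : a = x := sub_eq_zero.1 ((mul_eq_zero.1 hfac).resolve_left (sub_ne_zero.2 hxne))
  have hcube : th K m x ^ 3 = x ^ 3 := by rw [hA, hax]; ring
  have hfix : th K m x = x := by
    refine sub_eq_zero.1 ((pow_eq_zero_iff (three_ne_zero)).1 ?_)
    linear_combination hcube + (th K m x * x ^ 2 - th K m x ^ 2 * x) * three_eq (K := K)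
  have h3 := isTheta hK x
  rw [hfix, map_pow, hfix] at h3
  have hsq : x ^ 2 = 1 := mul_left_cancel₀ hx0 (by rw [mul_one, ← pow_succ', h3])
  rcases sq_eq_one_iff.1 hsq with e | e
  · exact hxne e
  · exact ham (hax.trans e)

/-! ### The middle subgroup -/

theorem rr_mid_mul (u v u' v' : K) :
    (rr (0, u, v) : G1 K m) * rr (0, u', v') = rr (0, u + u', v + v') := by
  rw [rr_mul hK]
  simp [tw_zero]

theorem rr_mid_right (t u v u' v' : K) :
    (rr (t, u, v) : G1 K m) * rr (0, u', v') = rr (t, u + u', v + v') := by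
  rw [rr_mul hK]
  simp [tw_zero]

theorem rr_mid_left (t u v u' v' : K) :
    (rr (0, u', v') : G1 K m) * rr (t, u, v) = rr (t, u' + u, v' + v - t * u') := by
  rw [rr_mul hK]
  simp

theorem rr_inv_t (p : K × K × K) : ∃ u v, (rr p : G1 K m)⁻¹ = rr (-p.1, u, v) := rr_inv hK p.1 p.2.1 p.2.2

/-- The elements with vanishing first coordinate. -/
def mid : Subgroup (G1 K m) where
  carrier := {g | ∃ u v, g = rr (0, u, v)}
  one_mem' := ⟨0, 0, rr_zero.symm⟩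
  mul_mem' := by
    rintro _ _ ⟨u, v, rfl⟩ ⟨u', v', rfl⟩
    exact ⟨_, _, rr_mid_mul hK u v u' v'⟩
  inv_mem' := by
    rintro _ ⟨u, v, rfl⟩
    obtain ⟨u', v', e⟩ := rr_inv hK (0 : K) u v
    exact ⟨u', v', by rw [e, neg_zero]⟩

theorem mid_comm {a b : G1 K m} (ha : a ∈ mid hK) (hb : b ∈ mid hK) : a * b = b * a := by
  obtain ⟨u, v, rfl⟩ := ha
  obtain ⟨u', v', rfl⟩ := hb
  rw [rr_mid_mul hK, rr_mid_mul hK, add_comm u, add_comm v]

theorem mid_le_U1 : mid hK ≤ U1 K m := by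
  rintro _ ⟨u, v, rfl⟩
  exact rr_mem_U1 hK _

theorem commutator_mem_mid {a b : G1 K m} (ha : a ∈ U1 K m) (hb : b ∈ U1 K m) :
    ⁅a, b⁆ ∈ mid hK := by
  obtain ⟨p, rfl⟩ := (mem_U1 hK).1 ha
  obtain ⟨q, rfl⟩ := (mem_U1 hK).1 hb
  obtain ⟨u, v, e⟩ := rr_inv_t hK p
  obtain ⟨u', v', e'⟩ := rr_inv_t hK q
  rw [commutatorElement_def, e, e']
  obtain ⟨t, u₁, v₁⟩ := p
  obtain ⟨t', u₂, v₂⟩ := q
  rw [rr_mul hK, rr_mul hK, rr_mul hK]
  refine ⟨_, _, congrArg rr (Prod.ext ?_ rfl)⟩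
  show t + t' + -t + -t' = 0
  ring

section Lift

variable {Γ : Type v} [Group Γ] (σ : Γ →* G1 K m) (hσ : Function.Surjective σ)
  (hc : σ.ker ≤ Subgroup.center Γ)

omit [Fintype K] hK

variable {σ}

include hc

theorem diff_central {a b : Γ} (h : σ a = σ b) : a⁻¹ * b ∈ Subgroup.center Γ :=
  hc (by rw [MonoidHom.mem_ker, map_mul, map_inv, h, inv_mul_cancel])

theorem comm_congr {a a' b b' : Γ} (ha : σ a = σ a') (hb : σ b = σ b') : ⁅a, b⁆ = ⁅a', b'⁆ := by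
  have key : ∀ z ∈ Subgroup.center Γ, ∀ x y : Γ, ⁅x * z, y⁆ = ⁅x, y⁆ ∧ ⁅y, x * z⁆ = ⁅y, x⁆ := by
    intro z hz x y
    have h1 := Subgroup.mem_center_iff.1 hz
    constructor
    · calc ⁅x * z, y⁆ = x * (z * y) * z⁻¹ * x⁻¹ * y⁻¹ := by rw [commutatorElement_def]; group
        _ = ⁅x, y⁆ := by rw [← h1 y, commutatorElement_def]; group
    · calc ⁅y, x * z⁆ = y * x * (z * y⁻¹) * z⁻¹ * x⁻¹ := by rw [commutatorElement_def]; group
        _ = ⁅y, x⁆ := by rw [← h1 y⁻¹, commutatorElement_def]; group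
  have ea : a' = a * (a⁻¹ * a') := by group
  have eb : b' = b * (b⁻¹ * b') := by group
  rw [ea, (key _ (diff_central hc ha) _ _).1, eb, (key _ (diff_central hc hb) _ _).2]

theorem comm_central {a b : Γ} (h : σ a * σ b = σ b * σ a) : ⁅a, b⁆ ∈ Subgroup.center Γ :=
  hc (by rw [MonoidHom.mem_ker, map_commutatorElement, commutatorElement_eq_one_iff_mul_comm.2 h])

theorem conj_comm {k a b : Γ} (h : σ a * σ b = σ b * σ a) :
    ⁅k * a * k⁻¹, k * b * k⁻¹⁆ = ⁅a, b⁆ := by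
  rw [← conjugate_commutatorElement, Subgroup.mem_center_iff.1 (comm_central hc h) k,
    mul_inv_cancel_right]

theorem mul_left_comm' {a b c : Γ} (h : σ b * σ c = σ c * σ b) : ⁅a * b, c⁆ = ⁅a, c⁆ * ⁅b, c⁆ := by
  have h1 := Subgroup.mem_center_iff.1 (comm_central hc h)
  calc ⁅a * b, c⁆ = a * ⁅b, c⁆ * a⁻¹ * ⁅a, c⁆ := by simp only [commutatorElement_def]; group
    _ = ⁅a, c⁆ * ⁅b, c⁆ := by rw [h1 a, mul_inv_cancel_right, ← h1]

theorem mul_right_comm' {a b c : Γ} (h : σ a * σ c = σ c * σ a) : ⁅a, b * c⁆ = ⁅a, b⁆ * ⁅a, c⁆ := by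
  have h1 := Subgroup.mem_center_iff.1 (comm_central hc h)
  calc ⁅a, b * c⁆ = ⁅a, b⁆ * (b * ⁅a, c⁆ * b⁻¹) := by simp only [commutatorElement_def]; group
    _ = ⁅a, b⁆ * ⁅a, c⁆ := by rw [h1 b, mul_inv_cancel_right]

omit hc

/-- Chosen lifts. -/
noncomputable def L (p : K × K × K) : Γ := Function.surjInv hσ (rr p)

theorem L_spec (p : K × K × K) : σ (L hσ p) = rr p := Function.surjInv_eq hσ _

end Lift

section Stages

variable {Γ : Type v} [Group Γ] {σ : Γ →* G1 K m} (hσ : Function.Surjective σ)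
  (hc : σ.ker ≤ Subgroup.center Γ) (hm : 1 ≤ m)

include hσ

theorem exists_torus (c : Kˣ) : ∃ k : Γ, ∀ t u v (x : Γ), σ x = rr (t, u, v) →
    σ (k * x * k⁻¹) = rr ((lam m c : K) * t, (mu m c : K) * u, (c : K) * v) := by
  obtain ⟨k, hk⟩ := hσ (tt hK c)
  exact ⟨k, fun t u v x hx => by rw [map_mul, map_mul, map_inv, hk, hx, tt_conj_rr hK]⟩

include hc hm

theorem uu_one (u u' : K) : ⁅L hσ (0, u, 0), L hσ (0, u', 0)⁆ = 1 := by
  obtain ⟨x, hx0, hx1, hxm⟩ := exists_gen hK hm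
  have hp : x ^ 2 - 1 ≠ 0 := fun e => by
    rcases sq_eq_one_iff.1 (sub_eq_zero.1 e) with h | h
    · exact hx1 h
    · exact hxm h
  obtain ⟨c₁, e₁⟩ := sq_mem_mu hK hp
  obtain ⟨c₂, e₂⟩ := sq_mem_mu hK hx0
  obtain ⟨c₃, e₃⟩ := sq_mem_mu hK (neg_one_not_sq hK x)
  have cm : ∀ a b : K, σ (L hσ (0, a, 0)) * σ (L hσ (0, b, 0)) = σ (L hσ (0, b, 0)) * σ (L hσ (0, a, 0)) :=
    fun a b => mid_comm hK ⟨a, 0, L_spec hσ _⟩ ⟨b, 0, L_spec hσ _⟩
  have add : ∀ a b : K, σ (L hσ (0, a + b, 0)) = σ (L hσ (0, a, 0) * L hσ (0, b, 0)) := fun a b => by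
    rw [map_mul, L_spec, L_spec, L_spec, rr_mid_mul hK, add_zero]
  have inv : ∀ c : Kˣ, ∀ a b : K, ⁅L hσ (0, (mu m c : K) * a, 0), L hσ (0, (mu m c : K) * b, 0)⁆ =
      ⁅L hσ (0, a, 0), L hσ (0, b, 0)⁆ := fun c a b => by
    obtain ⟨k, hk⟩ := exists_torus hK hσ c
    rw [← conj_comm hc (k := k) (cm a b)]
    exact comm_congr hc (by rw [hk _ _ _ _ (L_spec hσ _), L_spec, mul_zero, mul_zero])
      (by rw [hk _ _ _ _ (L_spec hσ _), L_spec, mul_zero, mul_zero])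
  refine beta_one (fun a b => ⁅L hσ (0, a, 0), L hσ (0, b, 0)⁆)
    (fun a a' b => by rw [← mul_left_comm' hc (cm a' b)]; exact comm_congr hc (add a a') rfl)
    (fun a b b' => by rw [← mul_right_comm' hc (cm a b')]; exact comm_congr hc rfl (add b b'))
    (mu m c₁ : K) (mu m c₂) (mu m c₃) _ _ _ ?_ (mu m c₁).ne_zero (mu m c₂).ne_zero (mu m c₃).ne_zero
    (inv c₁) (inv c₂) (inv c₃) ?_ u u'
  · rw [e₁, e₂, e₃]; linear_combination x ^ 2 * three_eq (K := K)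
  · rw [show (mu m c₃ : K) = (mu m c₁ : K) + mu m c₂ by
      rw [e₁, e₂, e₃]; linear_combination x ^ 2 * three_eq (K := K)]
    refine inv_not_add (mu m c₁).ne_zero (mu m c₂).ne_zero ?_ ?_
    · rw [show (mu m c₁ : K) + mu m c₂ = mu m c₃ by
        rw [e₁, e₂, e₃]; linear_combination -(x ^ 2) * three_eq (K := K)]
      exact (mu m c₃).ne_zero
    · rw [e₁, e₂]
      intro e
      rcases sq_eq_sq_iff_eq_or_eq_neg.1 e with h | h
      · exact neg_one_not_sq hK (x + 1) (by linear_combination h + (x + 1) * three_eq (K := K))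
      · exact neg_one_not_sq hK (x + 2) (by linear_combination h + (x + 2) * three_eq (K := K))

theorem vv_one (v v' : K) : ⁅L hσ (0, 0, v), L hσ (0, 0, v')⁆ = 1 := by
  obtain ⟨x, hx0, hx1, hxm⟩ := exists_gen hK hm
  have hs : 1 + x ≠ 0 := fun e => hxm (by linear_combination e)
  have cm : ∀ a b : K, σ (L hσ (0, 0, a)) * σ (L hσ (0, 0, b)) = σ (L hσ (0, 0, b)) * σ (L hσ (0, 0, a)) :=
    fun a b => mid_comm hK ⟨0, a, L_spec hσ _⟩ ⟨0, b, L_spec hσ _⟩
  have add : ∀ a b : K, σ (L hσ (0, 0, a + b)) = σ (L hσ (0, 0, a) * L hσ (0, 0, b)) := fun a b => by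
    rw [map_mul, L_spec, L_spec, L_spec, rr_mid_mul hK, add_zero]
  have inv : ∀ c : Kˣ, ∀ a b : K, ⁅L hσ (0, 0, (c : K) * a), L hσ (0, 0, (c : K) * b)⁆ =
      ⁅L hσ (0, 0, a), L hσ (0, 0, b)⁆ := fun c a b => by
    obtain ⟨k, hk⟩ := exists_torus hK hσ c
    rw [← conj_comm hc (k := k) (cm a b)]
    exact comm_congr hc (by rw [hk _ _ _ _ (L_spec hσ _), L_spec, mul_zero, mul_zero])
      (by rw [hk _ _ _ _ (L_spec hσ _), L_spec, mul_zero, mul_zero])
  exact beta_one (fun a b => ⁅L hσ (0, 0, a), L hσ (0, 0, b)⁆)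
    (fun a a' b => by rw [← mul_left_comm' hc (cm a' b)]; exact comm_congr hc (add a a') rfl)
    (fun a b b' => by rw [← mul_right_comm' hc (cm a b')]; exact comm_congr hc rfl (add b b'))
    1 x (1 + x) 1 x (1 + x) rfl one_ne_zero hx0 hs (inv 1) (inv (Units.mk0 x hx0))
    (inv (Units.mk0 _ hs)) (inv_not_add one_ne_zero hx0 hs (Ne.symm hx1)) v v'

theorem vu_one (v u : K) : ⁅L hσ (0, 0, v), L hσ (0, u, 0)⁆ = 1 := by
  have cm : ∀ a b : K, σ (L hσ (0, 0, a)) * σ (L hσ (0, b, 0)) = σ (L hσ (0, b, 0)) * σ (L hσ (0, 0, a)) :=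
    fun a b => mid_comm hK ⟨0, a, L_spec hσ _⟩ ⟨b, 0, L_spec hσ _⟩
  have addV : ∀ a b : K, σ (L hσ (0, 0, a + b)) = σ (L hσ (0, 0, a) * L hσ (0, 0, b)) := fun a b => by
    rw [map_mul, L_spec, L_spec, L_spec, rr_mid_mul hK, add_zero]
  have addU : ∀ a b : K, σ (L hσ (0, a + b, 0)) = σ (L hσ (0, a, 0) * L hσ (0, b, 0)) := fun a b => by
    rw [map_mul, L_spec, L_spec, L_spec, rr_mid_mul hK, add_zero]
  have inv : ∀ c : Kˣ, ∀ a b : K, ⁅L hσ (0, 0, (c : K) * a), L hσ (0, (mu m c : K) * b, 0)⁆ =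
      ⁅L hσ (0, 0, a), L hσ (0, b, 0)⁆ := fun c a b => by
    obtain ⟨k, hk⟩ := exists_torus hK hσ c
    rw [← conj_comm hc (k := k) (cm a b)]
    exact comm_congr hc (by rw [hk _ _ _ _ (L_spec hσ _), L_spec, mul_zero, mul_zero])
      (by rw [hk _ _ _ _ (L_spec hσ _), L_spec, mul_zero, mul_zero])
  exact beta_one (fun a b => ⁅L hσ (0, 0, a), L hσ (0, b, 0)⁆)
    (fun a a' b => by rw [← mul_left_comm' hc (cm a' b)]; exact comm_congr hc (addV a a') rfl)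
    (fun a b b' => by rw [← mul_right_comm' hc (cm a b')]; exact comm_congr hc rfl (addU b b'))
    1 1 (-1) 1 1 1 (by linear_combination -three_eq (K := K)) one_ne_zero one_ne_zero one_ne_zero
    (fun a b => by simp) (fun a b => by simp)
    (fun a b => by simpa [mu_neg_one hK] using inv (-1) a b) (by norm_num) v u

theorem mid_abelian {a b : Γ} (ha : σ a ∈ mid hK) (hb : σ b ∈ mid hK) : ⁅a, b⁆ = 1 := by
  obtain ⟨u, v, ea⟩ := ha
  obtain ⟨u', v', eb⟩ := hb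
  have split : ∀ u v : K, σ (L hσ (0, u, 0) * L hσ (0, 0, v)) = rr (0, u, v) := fun u v => by
    rw [map_mul, L_spec, L_spec, rr_mid_mul hK, add_zero, zero_add]
  have cm : ∀ p q : K × K, σ (L hσ (0, p.1, p.2)) * σ (L hσ (0, q.1, q.2)) =
      σ (L hσ (0, q.1, q.2)) * σ (L hσ (0, p.1, p.2)) :=
    fun p q => mid_comm hK ⟨_, _, L_spec hσ _⟩ ⟨_, _, L_spec hσ _⟩
  have uv : ∀ u v, ⁅L hσ (0, u, 0), L hσ (0, 0, v)⁆ = 1 := fun u v => by
    rw [← commutatorElement_inv, vu_one hK hσ hc hm, inv_one]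
  rw [comm_congr hc (ea.trans (split u v).symm) (eb.trans (split u' v').symm)]
  rw [mul_left_comm' hc (by rw [split, L_spec]; exact mid_comm hK ⟨_, _, rfl⟩ ⟨_, _, rfl⟩),
    mul_right_comm' hc (cm (u, 0) (0, v')), mul_right_comm' hc (cm (0, v) (0, v')),
    uu_one hK hσ hc hm, uv, vu_one hK hσ hc hm, vv_one hK hσ hc hm]
  simp

/-- The lifts of the last root subgroup are central in the preimage of the Sylow subgroup. -/
theorem last_central {x a : Γ} (hx : σ x ∈ U1 K m) {v : K} (ha : σ a = rr (0, 0, v)) :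
    ⁅x, a⁆ = 1 := by
  have cm : ∀ (y : Γ) (v : K), σ y ∈ U1 K m → σ y * σ (L hσ (0, 0, v)) = σ (L hσ (0, 0, v)) * σ y := by
    intro y v hy
    obtain ⟨⟨t, u, w⟩, e⟩ := (mem_U1 hK).1 hy
    rw [e, L_spec, rr_mid_right hK, rr_mid_left hK]
    simp [add_comm]
  have memL : ∀ p, σ (L hσ p) ∈ U1 K m := fun p => L_spec hσ p ▸ rr_mem_U1 hK p
  have depT : ∀ (y : Γ) t u w v, σ y = rr (t, u, w) →
      ⁅y, L hσ (0, 0, v)⁆ = ⁅L hσ (t, 0, 0), L hσ (0, 0, v)⁆ := by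
    intro y t u w v e
    rw [comm_congr hc (a' := L hσ (t, 0, 0) * L hσ (0, u, w)) (b' := L hσ (0, 0, v))
      (by rw [e, map_mul, L_spec, L_spec, rr_mid_right hK, zero_add, zero_add]) rfl,
      mul_left_comm' hc (cm _ _ (memL _)),
      mid_abelian hK hσ hc hm ⟨u, w, L_spec hσ _⟩ ⟨0, v, L_spec hσ _⟩, mul_one]
  obtain ⟨x₀, hx0, hx1, hxm⟩ := exists_gen hK hm
  obtain ⟨c, hcl⟩ := exists_lam hK hx0
  have hs : 1 + x₀ ≠ 0 := fun e => hxm (by linear_combination e)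
  obtain ⟨d, hdl⟩ := exists_lam hK hs
  have inv : ∀ c : Kˣ, ∀ a b : K, ⁅L hσ ((lam m c : K) * a, 0, 0), L hσ (0, 0, (c : K) * b)⁆ =
      ⁅L hσ (a, 0, 0), L hσ (0, 0, b)⁆ := fun c a b => by
    obtain ⟨k, hk⟩ := exists_torus hK hσ c
    rw [← conj_comm hc (k := k) (cm _ b (memL (a, 0, 0)))]
    exact comm_congr hc (by rw [hk _ _ _ _ (L_spec hσ _), L_spec, mul_zero, mul_zero])
      (by rw [hk _ _ _ _ (L_spec hσ _), L_spec, mul_zero, mul_zero])
  have all := beta_one (fun a b => ⁅L hσ (a, 0, 0), L hσ (0, 0, b)⁆)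
    (fun a a' b => by
      rw [← mul_left_comm' hc (cm _ b (memL (a', 0, 0)))]
      exact (depT _ (a + a') _ _ b (by rw [map_mul, L_spec, L_spec, rr_mul hK])).symm)
    (fun a b b' => by
      rw [← mul_right_comm' hc (cm _ b' (memL (a, 0, 0)))]
      exact comm_congr hc rfl (by rw [map_mul, L_spec, L_spec, L_spec, rr_mid_mul hK, add_zero]))
    1 x₀ (1 + x₀) 1 c d rfl one_ne_zero c.ne_zero d.ne_zero
    (fun a b => by simp) (fun a b => by simpa [hcl] using inv c a b)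
    (fun a b => by simpa [hdl] using inv d a b)
    (by simpa using lam_not_add hK hx1 hxm hcl hdl)
  obtain ⟨⟨t, u, w⟩, e⟩ := (mem_U1 hK).1 hx
  rw [comm_congr hc rfl (ha.trans (L_spec hσ (0, 0, v)).symm), depT x t u w v e]
  exact all t v

end Stages

end Mult3

end Ree

end Cfsg.Agent.Chev
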