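import Mathlib

/-!
An odd-order group with a four-group of automorphisms having one common fixed subgroup is fixed.
-/

set_option autoImplicit false

namespace Cfsg.Agent.Chev.Ree

/-- Two commuting involutory automorphisms of a group of odd order whose fixed elements, and those
of their product, agree: the group is fixed. -/
theorem odd_fixed {G : Type*} [Group G] (M : Subgroup G) [Finite M] (hM : Odd (Nat.card M)) {v w : G}
    (hv : v * v = 1) (hw : w * w = 1) (hvw : v * w = w * v)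
    (hnv : ∀ m ∈ M, v * m * v⁻¹ ∈ M) (hnw : ∀ m ∈ M, w * m * w⁻¹ ∈ M)
    (h1 : ∀ m ∈ M, Commute w m → Commute v m)
    (h2 : ∀ m ∈ M, Commute (v * w) m → Commute v m) {m : G} (hm : m ∈ M) : Commute v m := by
  obtain ⟨j, hj⟩ := hM
  have hpow : ∀ x ∈ M, x ^ (2 * j + 1) = 1 := fun x hx => by
    rw [← hj]
    exact (congrArg Subtype.val (pow_card_eq_one' (x := (⟨x, hx⟩ : M))) :)
  have huniq : ∀ x ∈ M, x * x = 1 → x = 1 := fun x hx e => by
    have := hpow x hx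
    rwa [pow_succ, pow_mul, pow_two, e, one_pow, one_mul] at this
  -- the root of `s` inverted by an involution
  have split : ∀ z : G, z * z = 1 → (∀ m ∈ M, z * m * z⁻¹ ∈ M) → ∀ m ∈ M,
      ∃ a ∈ M, ∃ b ∈ M, Commute z a ∧ z * b * z⁻¹ = b⁻¹ ∧ m = a * b := by
    intro z hz hnz m hm
    have hzi : z⁻¹ = z := inv_eq_of_mul_eq_one_right hz
    set s := (z * m * z⁻¹)⁻¹ * m with hs
    have hsM : s ∈ M := mul_mem (inv_mem (hnz m hm)) hm
    have hzs : z * s * z⁻¹ = s⁻¹ := by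
      rw [hs]
      simp only [mul_inv_rev, inv_inv, hzi, mul_assoc, ← mul_assoc z z, hz, one_mul, mul_one]
    set b := s ^ (j + 1) with hb
    have hbb : b * b = s := by
      rw [hb, ← pow_add, show j + 1 + (j + 1) = (2 * j + 1) + 1 by ring, pow_succ, hpow s hsM, one_mul]
    have hzb : z * b * z⁻¹ = b⁻¹ := by rw [hb, ← conj_pow, hzs, inv_pow]
    refine ⟨m * b⁻¹, mul_mem hm (inv_mem (pow_mem hsM _)), b, pow_mem hsM _, ?_, hzb,
      by rw [inv_mul_cancel_right]⟩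
    show z * (m * b⁻¹) = m * b⁻¹ * z
    refine mul_inv_eq_iff_eq_mul.1 ?_
    have hzbi : z * b⁻¹ * z⁻¹ = b := by
      have := congrArg (·⁻¹) hzb
      simpa [mul_assoc] using this
    calc z * (m * b⁻¹) * z⁻¹ = (z * m * z⁻¹) * (z * b⁻¹ * z⁻¹) := by group
      _ = (m * s⁻¹) * b := by rw [hzbi, hs]; group
      _ = m * b⁻¹ := by rw [← hbb]; group
  obtain ⟨a, ha, b, hb, hca, hinv, rfl⟩ := split v hv hnv m hm
  suffices hb1 : b = 1 by rw [hb1, mul_one]; exact hca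
  obtain ⟨c, hc, d, hd, hcc, hdw, rfl⟩ := split w hw hnw b hb
  have hvc : v * c * v⁻¹ = c := mul_inv_eq_iff_eq_mul.2 (h1 c hc hcc).eq
  have e : v * d * v⁻¹ = c⁻¹ * d⁻¹ * c⁻¹ := by
    have : (v * c * v⁻¹) * (v * d * v⁻¹) = (c * d)⁻¹ := by rw [← hinv]; group
    rw [hvc, mul_inv_rev] at this
    rw [eq_inv_mul_of_mul_eq this]
    group
  have hwd : w * (v * d * v⁻¹) * w⁻¹ = (v * d * v⁻¹)⁻¹ := by
    calc w * (v * d * v⁻¹) * w⁻¹ = (w * v) * d * (w * v)⁻¹ := by group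
      _ = v * (w * d * w⁻¹) * v⁻¹ := by rw [← hvw]; group
      _ = _ := by rw [hdw]; group
  rw [e] at hwd
  have hwc : w * c⁻¹ * w⁻¹ = c⁻¹ := mul_inv_eq_iff_eq_mul.2 hcc.inv_right.eq
  have hwdi : w * d⁻¹ * w⁻¹ = d := by
    have := congrArg (·⁻¹) hdw
    simpa [mul_assoc] using this
  have hc2 : c * c = 1 := by
    have e2 : w * (c⁻¹ * d⁻¹ * c⁻¹) * w⁻¹ = c⁻¹ * d * c⁻¹ := by
      calc w * (c⁻¹ * d⁻¹ * c⁻¹) * w⁻¹ = (w * c⁻¹ * w⁻¹) * (w * d⁻¹ * w⁻¹) * (w * c⁻¹ * w⁻¹) := by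
            group
        _ = _ := by rw [hwc, hwdi]
    rw [e2] at hwd
    have e3 : c⁻¹ * d * c⁻¹ = c * d * c := by rw [hwd]; group
    have e4 : (d * (c * c)) * (d * (c * c)) = d * d := by
      calc d * (c * c) * (d * (c * c)) = d * c * (c * d * c) * c := by group
        _ = d * c * (c⁻¹ * d * c⁻¹) * c := by rw [e3]
        _ = d * d := by group
    have hmem : d * (c * c) ∈ M := mul_mem hd (mul_mem hc hc)
    have hsq : ∀ x ∈ M, (x * x) ^ (j + 1) = x := fun x hx => by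
      rw [← pow_two, ← pow_mul, show 2 * (j + 1) = 2 * j + 1 + 1 by ring, pow_succ, hpow x hx, one_mul]
    have := hsq _ hmem
    rw [e4, hsq d hd] at this
    exact left_eq_mul.1 this
  have hc1 := huniq c hc hc2
  subst hc1
  rw [inv_one, one_mul, mul_one] at e
  have hd' : Commute (v * w) d := by
    show v * w * d = d * (v * w)
    refine mul_inv_eq_iff_eq_mul.1 ?_
    calc v * w * d * (v * w)⁻¹ = v * (w * d * w⁻¹) * v⁻¹ := by group
      _ = (v * d * v⁻¹)⁻¹ := by rw [hdw]; group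
      _ = d := by rw [e, inv_inv]
  have hvd : v * d * v⁻¹ = d := mul_inv_eq_iff_eq_mul.2 (h2 d hd hd').eq
  rw [hvd] at e
  rw [one_mul]
  exact huniq d hd (mul_eq_one_iff_eq_inv.2 e)

end Cfsg.Agent.Chev.Ree
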