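import Cfsg.Agent.Chev.Ree.Prime3

/-!
The automorphism `x_r(c) ↦ x_{-r}(-c)` of `G₂` in characteristic three, as a conjugation by a
permutation matrix.
-/

set_option autoImplicit false
set_option maxRecDepth 100000

namespace Cfsg.Agent.Chev

open Cfsg.Lie
open scoped MatrixGroups

universe u

namespace Ree

/-- `r ↦ -r` on the coordinates. -/
def negI : chevG2.Idx ≃ chevG2.Idx :=
  Equiv.sumCongr (Equiv.refl _)
    (Function.Involutive.toPerm (negF facts_chevG2.{0}) (negF_negF facts_chevG2.{0}))

theorem negI_chk : ∀ r : Fin chevG2.nroots, ∀ a b : chevG2.Idx,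
    chkZero 3 (xCoefs chevG2 r (negI a) (negI b) ++
      (xCoefs chevG2 (chevG2.neg r) a b).map fun e => (e.1, -(e.2 * (-1) ^ e.1))) = true := by
  decide +kernel

variable {K : Type u} [Field K]

/-- The automorphism of matrices. -/
def omM : Matrix chevG2.Idx chevG2.Idx K →* Matrix chevG2.Idx chevG2.Idx K where
  toFun M := M.submatrix negI negI
  map_one' := Matrix.submatrix_one_equiv _
  map_mul' M N := (Matrix.submatrix_mul_equiv M N _ negI _).symm

/-- The automorphism of the general linear group. -/
def om : GL chevG2.Idx K →* GL chevG2.Idx K := Units.map omM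

theorem om_val (g : GL chevG2.Idx K) (a b : chevG2.Idx) :
    ((om g : GL chevG2.Idx K) : Matrix chevG2.Idx chevG2.Idx K) a b =
      (g : Matrix chevG2.Idx chevG2.Idx K) (negI a) (negI b) := rfl

theorem om_torus (c : Fin chevG2.rank → Kˣ) :
    om (torusHom c : GL chevG2.Idx K) = torusHom c⁻¹ := by
  apply Units.ext
  ext a b
  rw [om_val, torusHom_apply, torusHom_apply]
  by_cases h : a = b
  · subst h
    rw [if_pos rfl, if_pos rfl]
    rcases a with i | r
    · rfl
    · show ((chiU c (chevG2.neg r) : Kˣ) : K) = _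
      rw [chiU_neg facts_chevG2 c r.2]
      simp [chiU, inv_zpow, Finset.prod_inv_distrib]
  · rw [if_neg h, if_neg fun e => h (negI.injective e)]

variable [CharP K 3]

theorem om_x (r : Fin chevG2.nroots) (t : K) :
    om (xG facts_chevG2 r t) = xG facts_chevG2 (chevG2.neg r) (-t) := by
  obtain ⟨r', hr'⟩ : ∃ r' : Fin chevG2.nroots, (r' : ℕ) = chevG2.neg r :=
    ⟨⟨_, neg_lt facts_chevG2.{u} r.2⟩, rfl⟩
  apply Units.ext
  ext a b
  rw [om_val, xG_val, xG_val, xMat_eq_xCoefs, ← hr', xMat_eq_xCoefs, hr']
  have h := negI_chk r a b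
  have hz : ∀ L : List (ℕ × ℤ), chkZero 3 L = true →
      (L.map fun km => ((km.2 : ℤ) : K) * t ^ km.1).sum = 0 := fun L hL => by
    let S : SpecData chevG2 := ⟨3, fun _ => true, id, id, fun _ => 1⟩
    haveI : CharP K S.p := ‹CharP K 3›
    exact SpecFacts.sum_eq_zero_of_chkZero (S := S) hL t
  have h' := hz _ h
  rw [List.map_append, List.sum_append] at h'
  rw [eq_neg_of_add_eq_zero_left h', List.map_map]
  generalize xCoefs chevG2 (chevG2.neg r) a b = l
  induction l with
  | nil => simp
  | cons e l ih =>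
    simp only [List.map_cons, List.sum_cons, Function.comp_apply, neg_add, ih]
    push_cast
    rw [neg_pow t e.1]
    ring

end Ree

end Cfsg.Agent.Chev
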