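import Cfsg.Agent.Chev.Ree.Invol
import Cfsg.Agent.Chev.Ree.Extra

/-!
Elements of `²G₂(q)` in the coordinates of the Bruhat cells.
-/

set_option autoImplicit false
set_option maxRecDepth 100000
set_option maxHeartbeats 1000000

namespace Cfsg.Agent.Chev

open Cfsg.Lie
open scoped MatrixGroups

universe u

namespace Ree

/-- The group `²G₂`. -/
abbrev G1 (K : Type u) [Field K] (m : ℕ) : Type u := ↥(twistedG2 K (3 ^ m))

section Basic

variable {K : Type u} [Field K] [CharP K 3] {m : ℕ}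

/-- An element of the fixed unipotent group. -/
def rr (p : K × K × K) : G1 K m := ⟨R m p.1 p.2.1 p.2.2, R_mem_G1 _ _ _⟩

/-- The element exchanging the two opposite points. -/
noncomputable def nn : G1 K m := ⟨n0, n0_mem_G1⟩

theorem rr_val (p : K × K × K) : ((rr p : G1 K m) : GL chevG2.Idx K) = R m p.1 p.2.1 p.2.2 := rfl

theorem nn_val : ((nn : G1 K m) : GL chevG2.Idx K) = n0 := rfl

theorem rr_injective : Function.Injective (rr : K × K × K → G1 K m) := fun p q e => by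
  obtain ⟨h1, h2, h3⟩ := R_injective m (congrArg Subtype.val e :)
  exact Prod.ext h1 (Prod.ext h2 h3)

theorem rr_zero : (rr (0, 0, 0) : G1 K m) = 1 := Subtype.ext (R_zero m)

theorem rr_eq_one {p : K × K × K} (h : (rr p : G1 K m) = 1) : p = (0, 0, 0) :=
  rr_injective (h.trans rr_zero.symm)

/-- The twisted third power. -/
def tw (m : ℕ) (t : K) : K := (t ^ 3 ^ m) ^ 3

theorem tw_eq (t : K) : tw m t = th K m t ^ 3 := by rw [tw, th_apply]

theorem tw_add (s t : K) : tw m (s + t) = tw m s + tw m t := by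
  rw [tw_eq, tw_eq, tw_eq, map_add, add_pow_char]

theorem tw_mul (s t : K) : tw m (s * t) = tw m s * tw m t := by
  rw [tw_eq, tw_eq, tw_eq, map_mul, mul_pow]

theorem tw_zero : tw m (0 : K) = 0 := by rw [tw_eq, map_zero, zero_pow three_ne_zero]

theorem tw_one : tw m (1 : K) = 1 := by rw [tw_eq, map_one, one_pow]

theorem tw_neg (t : K) : tw m (-t) = -tw m t := by
  rw [tw_eq, tw_eq, map_neg, Odd.neg_pow (by decide)]

end Basic

section Finite

variable {K : Type u} [Field K] [Fintype K] [CharP K 3] {m : ℕ}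
  (hK : Fintype.card K = 3 ^ (2 * m + 1))
include hK

theorem rr_mul (t u v t' u' v' : K) : (rr (t, u, v) : G1 K m) * rr (t', u', v') =
    rr (t + t', u + u' - tw m t' * t,
      v + v' - tw m t' * t ^ 2 - t' * (u - tw m t' * t)) :=
  Subtype.ext (R_mul (isTheta hK) t u v t' u' v')

theorem rr_split (t u v : K) :
    (rr (t, u, v) : G1 K m) = rr (t, 0, 0) * rr (0, u, 0) * rr (0, 0, v) := by
  simp only [rr_mul hK, tw_zero]
  congr 3 <;> ring

theorem rr_inv (t u v : K) : ∃ u' v' : K, (rr (t, u, v) : G1 K m)⁻¹ = rr (-t, u', v') := by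
  refine ⟨-u - tw m t * t, -v + tw m (-t) * t ^ 2 - t * (u - tw m (-t) * t), ?_⟩
  refine inv_eq_of_mul_eq_one_right ?_
  rw [rr_mul hK, ← rr_zero, tw_neg]
  congr 1
  refine Prod.ext ?_ (Prod.ext ?_ ?_) <;> ring

theorem rr_cube (t u v : K) : (rr (t, u, v) : G1 K m) ^ 3 = rr (0, 0, -(tw m t * t ^ 2)) :=
  Subtype.ext (R_cube (isTheta hK) t u v)

theorem rr_cube_eq_one {p : K × K × K} : (rr p : G1 K m) ^ 3 = 1 ↔ p.1 = 0 := by
  obtain ⟨t, u, v⟩ := p
  constructor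
  · intro h
    rw [rr_cube hK] at h
    have h' := congrArg (fun p : K × K × K => p.2.2) (rr_eq_one h)
    simp only [neg_eq_zero, mul_eq_zero] at h'
    rcases h' with h' | h'
    · rw [tw] at h'
      exact eq_zero_of_pow_eq_zero (eq_zero_of_pow_eq_zero h')
    · exact eq_zero_of_pow_eq_zero h'
  · rintro rfl
    rw [rr_cube hK, tw_zero, zero_mul, neg_zero, rr_zero]

theorem rr_pow_nine (p : K × K × K) : (rr p : G1 K m) ^ 9 = 1 := by
  obtain ⟨t, u, v⟩ := p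
  rw [show 9 = 3 * 3 from rfl, pow_mul, rr_cube hK]
  exact (rr_cube_eq_one hK).2 rfl

/-- The torus. -/
noncomputable def tt : Kˣ →* G1 K m := (tor m).codRestrict _ (tor_mem_G1 hK)

theorem tt_val (c : Kˣ) : ((tt hK c : G1 K m) : GL chevG2.Idx K) = tor m c := rfl

theorem tt_injective : Function.Injective (tt hK) := fun _ _ e =>
  tor_injective (congrArg Subtype.val e :)

theorem tt_neg_one : tt hK (-1) = invJ := rfl

omit hK [Fintype K] in
/-- The weight of the torus on `t`. -/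
noncomputable def lam (m : ℕ) : Kˣ →* Kˣ where
  toFun c := c ^ 2 / Units.map (th K m).toMonoidHom c ^ 3
  map_one' := by simp
  map_mul' a b := by rw [mul_pow, map_mul, mul_pow, div_mul_div_comm]

omit hK [Fintype K] in
/-- The weight of the torus on `u`. -/
noncomputable def mu (m : ℕ) : Kˣ →* Kˣ where
  toFun c := Units.map (th K m).toMonoidHom c ^ 3 / c
  map_one' := by simp
  map_mul' a b := by rw [map_mul, mul_pow, div_mul_div_comm]

omit hK [Fintype K] in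
theorem lam_val (c : Kˣ) :
    ((lam m c : Kˣ) : K) = (c : K) ^ 2 / th K m (c : K) ^ 3 := by
  simp [lam, Units.val_div_eq_div_val]

omit hK [Fintype K] in
theorem mu_val (c : Kˣ) : ((mu m c : Kˣ) : K) = th K m (c : K) ^ 3 / (c : K) := by
  simp [mu, Units.val_div_eq_div_val]

theorem lam_injective : Function.Injective (lam (K := K) m) :=
  (injective_iff_map_eq_one _).2 fun c h =>
    tor_fix_t (isTheta hK) c (by rw [← lam_val, h, Units.val_one])

theorem lam_bijective : Function.Bijective (lam (K := K) m) :=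
  ⟨lam_injective hK, Finite.injective_iff_surjective.1 (lam_injective hK)⟩

theorem mu_eq_one {c : Kˣ} (h : mu m c = 1) : c ^ 2 = 1 := by
  have h1 : th K m (c : K) ^ 3 = (c : K) :=
    (div_eq_one_iff_eq c.ne_zero).1 (by rw [← mu_val, h, Units.val_one])
  have h2 : th K m (c : K) = c := (congrArg (th K m) h1).symm.trans (isTheta hK _)
  rw [h2] at h1
  have h3 : (c : K) * (c : K) ^ 2 = (c : K) * 1 := by rw [← pow_succ', h1, mul_one]
  exact Units.ext (by simpa using mul_left_cancel₀ c.ne_zero h3)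

theorem tt_conj_rr (c : Kˣ) (t u v : K) : tt hK c * rr (t, u, v) * (tt hK c)⁻¹ =
    rr ((lam m c : K) * t, (mu m c : K) * u, (c : K) * v) :=
  Subtype.ext (by
    rw [lam_val, mu_val]
    exact tor_conj_R_eq (isTheta hK) c t u v)

theorem invJ_conj_rr (t u v : K) :
    invJ * rr (t, u, v) * (invJ : G1 K m)⁻¹ = rr (-t, u, -v) := by
  rw [← tt_neg_one hK, tt_conj_rr hK, lam_val, mu_val]
  simp only [Units.val_neg, Units.val_one, map_neg, map_one]
  norm_num

theorem nn_conj_tt (c : Kˣ) : nn * tt hK c * nn⁻¹ = tt hK c⁻¹ := Subtype.ext (n0_conj_tor c)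

theorem no_four {x : G1 K m} (h : x ^ 4 = 1) : x ^ 2 = 1 := by
  haveI : Fact (Nat.Prime 2) := ⟨Nat.prime_two⟩
  have hp : IsPGroup 2 (Subgroup.zpowers x) := by
    rintro ⟨y, k, rfl⟩
    refine ⟨2, Subtype.ext ?_⟩
    show (x ^ k) ^ (2 ^ 2) = 1
    rw [← zpow_natCast, ← zpow_mul, mul_comm, zpow_mul, zpow_natCast]
    simp [h]
  obtain ⟨S, hS⟩ := hp.exists_le_sylow
  rw [pow_two]
  exact (sylow_two hK S).2 x (hS (Subgroup.mem_zpowers x))

theorem nn_sq : (nn : G1 K m) * nn = 1 := by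
  obtain ⟨c, hc⟩ : ∃ c, (nn : G1 K m) * nn = tt hK c := by
    obtain ⟨t, u, v, c, e⟩ := (inf_borel hK _).1 (n0_sq_mem hK (m := m) (K := K))
    have hd : (n0 : GL chevG2.Idx K) * n0 ∈ chevG2.diagonalSubgroup K :=
      (borel_inf_monomial facts_chevG2).le ⟨(n0_sq_mem hK (m := m) (K := K)).1,
        mul_mem n0_mem_monomial n0_mem_monomial⟩
    obtain ⟨d, hd'⟩ := (inf_diagonal hK).le ⟨hd, mul_mem n0_mem_G1 n0_mem_G1⟩
    exact ⟨d, Subtype.ext hd'.symm⟩
  have h1 : tt hK c⁻¹ = tt hK c := by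
    rw [← nn_conj_tt hK c, ← hc]
    group
  have hc2 : c ^ 2 = 1 := by
    have h2 := tt_injective hK h1
    rw [pow_two]
    nth_rewrite 1 [← h2]
    exact inv_mul_cancel c
  have h4 : (nn : G1 K m) ^ 4 = 1 := by
    rw [show 4 = 2 * 2 from rfl, pow_mul, pow_two (nn : G1 K m), hc, ← map_pow, hc2, map_one]
  rw [← pow_two]
  exact no_four hK h4

theorem nn_inv : (nn : G1 K m)⁻¹ = nn := inv_eq_of_mul_eq_one_right (nn_sq hK)

theorem nn_conj_tt' (c : Kˣ) : nn * tt hK c * nn = tt hK c⁻¹ := by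
  rw [← nn_conj_tt hK, nn_inv hK]

theorem nn_tt (c : Kˣ) : nn * tt hK c = tt hK c⁻¹ * nn := by
  rw [← nn_conj_tt' hK, mul_assoc, mul_assoc, nn_sq hK, mul_one]

omit hK [Fintype K] in
/-- The fixed unipotent group. -/
def U1 (K : Type u) [Field K] [CharP K 3] (m : ℕ) : Subgroup (G1 K m) :=
  (chevG2.posUnipotent K ⊓ twistedG2 K (3 ^ m)).subgroupOf (twistedG2 K (3 ^ m))

omit hK [Fintype K] in
/-- The stabiliser of the base point. -/
def B1 (K : Type u) [Field K] [CharP K 3] (m : ℕ) : Subgroup (G1 K m) :=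
  (chevG2.borelSubgroup K ⊓ twistedG2 K (3 ^ m)).subgroupOf (twistedG2 K (3 ^ m))

theorem mem_U1 {g : G1 K m} : g ∈ U1 K m ↔ ∃ p, g = rr p := by
  rw [U1, Subgroup.mem_subgroupOf, inf_posU hK]
  constructor
  · rintro ⟨t, u, v, e⟩
    exact ⟨(t, u, v), Subtype.ext e⟩
  · rintro ⟨⟨t, u, v⟩, rfl⟩
    exact ⟨t, u, v, rfl⟩

theorem mem_B1 {g : G1 K m} : g ∈ B1 K m ↔ ∃ p c, g = rr p * tt hK c := by
  rw [B1, Subgroup.mem_subgroupOf, inf_borel hK]
  constructor
  · rintro ⟨t, u, v, c, e⟩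
    exact ⟨(t, u, v), c, Subtype.ext e⟩
  · rintro ⟨⟨t, u, v⟩, c, rfl⟩
    exact ⟨t, u, v, c, rfl⟩

theorem rr_mem_U1 (p : K × K × K) : (rr p : G1 K m) ∈ U1 K m := (mem_U1 hK).2 ⟨p, rfl⟩

theorem rr_mem_B1 (p : K × K × K) : (rr p : G1 K m) ∈ B1 K m :=
  (mem_B1 hK).2 ⟨p, 1, by rw [map_one, mul_one]⟩

theorem tt_mem_B1 (c : Kˣ) : tt hK c ∈ B1 K m :=
  (mem_B1 hK).2 ⟨(0, 0, 0), c, by rw [rr_zero, one_mul]⟩

theorem U1_le_B1 : U1 K m ≤ B1 K m := fun g hg => by
  obtain ⟨p, rfl⟩ := (mem_U1 hK).1 hg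
  exact rr_mem_B1 hK p

theorem rr_tt_unique {p q : K × K × K} {c d : Kˣ}
    (e : (rr p : G1 K m) * tt hK c = rr q * tt hK d) : p = q ∧ c = d := by
  obtain ⟨h1, h2⟩ := posUnipotent_torus_unique facts_chevG2 (R_mem_U (m := m) p.1 p.2.1 p.2.2)
    (R_mem_U (m := m) q.1 q.2.1 q.2.2) (show _ * torusHom _ = _ * torusHom _ from congrArg Subtype.val e :)
  exact ⟨rr_injective (Subtype.ext h1), tor_injective (m := m) h2⟩

theorem cell_not_mem_B1 (p q : K × K × K) (c : Kˣ) :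
    rr p * tt hK c * nn * rr q ∉ B1 K m := fun h =>
  cell_not_borel p.1 p.2.1 p.2.2 c q.1 q.2.1 q.2.2 (Subgroup.mem_subgroupOf.1 h).1

theorem nn_not_mem_B1 : (nn : G1 K m) ∉ B1 K m := by
  have h := cell_not_mem_B1 hK ((0, 0, 0) : K × K × K) (0, 0, 0) (1 : Kˣ) (m := m)
  simpa [rr_zero] using h

theorem cell_unique {p p' q q' : K × K × K} {c c' : Kˣ}
    (e : rr p * tt hK c * nn * rr p' = rr q * tt hK c' * nn * rr q') :
    p = q ∧ c = c' ∧ p' = q' := by
  obtain ⟨h1, h2⟩ := (normalForm_unique facts_chevG2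
    (mul_mem (R_mem_borel p.1 p.2.1 p.2.2) (tor_mem_borel c))
    (mul_mem (R_mem_borel q.1 q.2.1 q.2.2) (tor_mem_borel c')) n0_mem_monomial n0_mem_monomial
    (by rw [monPerm_eq facts_chevG2 n0_isMon]; exact posU_le_uMinus (R_mem_U (m := m) p'.1 p'.2.1 p'.2.2))
    (by rw [monPerm_eq facts_chevG2 n0_isMon]; exact posU_le_uMinus (R_mem_U (m := m) q'.1 q'.2.1 q'.2.2))
    (congrArg Subtype.val e :)).2 rfl
  obtain ⟨h3, h4⟩ := rr_tt_unique hK (show rr p * tt hK c = rr q * tt hK c' from Subtype.ext h1)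
  exact ⟨h3, h4, rr_injective (Subtype.ext h2)⟩

theorem cases_cell (g : G1 K m) :
    g ∈ B1 K m ∨ ∃ p c q, g = rr p * tt hK c * nn * rr q := by
  rcases exists_nf (isTheta hK) (show (g : GL chevG2.Idx K) ∈ fx m by
    rw [fx_eq hK]; exact g.2) with ⟨t, u, v, c, e⟩ | ⟨t, u, v, c, t', u', v', e⟩
  · exact Or.inl ((mem_B1 hK).2 ⟨(t, u, v), c, Subtype.ext e⟩)
  · exact Or.inr ⟨(t, u, v), c, (t', u', v'), Subtype.ext e⟩

theorem cases_point (g : G1 K m) :
    g ∈ B1 K m ∨ ∃ p, ∃ b ∈ B1 K m, g = rr p * nn * b := by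
  rcases cases_cell hK g with h | ⟨p, c, q, rfl⟩
  · exact Or.inl h
  · refine Or.inr ⟨p, tt hK c⁻¹ * rr q, mul_mem (tt_mem_B1 hK _) (rr_mem_B1 hK q), ?_⟩
    rw [mul_assoc (rr p) nn, ← mul_assoc nn, nn_tt hK, inv_inv]
    simp only [mul_assoc]

theorem mem_B1_of_conj {g x : G1 K m} (hx : x ∈ U1 K m) (hxg : g⁻¹ * x * g ∈ U1 K m)
    (hne : x ≠ 1) : g ∈ B1 K m := by
  rcases inter_cases hK g.2 (Subgroup.mem_subgroupOf.1 hx) (Subgroup.mem_subgroupOf.1 hxg) with h | h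
  · exact Subgroup.mem_subgroupOf.2 ⟨h, g.2⟩
  · exact absurd (Subtype.ext h) hne

theorem B1_conj_U1 {b x : G1 K m} (hb : b ∈ B1 K m) (hx : x ∈ U1 K m) :
    b * x * b⁻¹ ∈ U1 K m :=
  Subgroup.mem_subgroupOf.2 (borel_conj_U hK (Subgroup.mem_subgroupOf.1 hb).1 b.2
    (Subgroup.mem_subgroupOf.1 hx))

theorem exists_tt_of_two {g : G1 K m} (h1 : g ∈ B1 K m) (h2 : nn⁻¹ * g * nn ∈ B1 K m) :
    ∃ c, g = tt hK c := by
  obtain ⟨c, hc⟩ := borel_inter_conj hK (Subgroup.mem_subgroupOf.1 h1) (Subgroup.mem_subgroupOf.1 h2)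
  exact ⟨c, Subtype.ext hc⟩

theorem nn_rr_nn_mem_B1 {p : K × K × K} (h : nn * rr p * nn ∈ B1 K m) : p = (0, 0, 0) := by
  refine rr_eq_one (m := m) (Subtype.ext ?_)
  refine n0_conj_not_borel (R_mem_U (m := m) p.1 p.2.1 p.2.2) ?_
  have h' := (Subgroup.mem_subgroupOf.1 h).1
  have e : (n0 : GL chevG2.Idx K)⁻¹ = n0 := congrArg Subtype.val (nn_inv hK (m := m) (K := K))
  rw [e]
  exact h'

theorem point_unique {p q : K × K × K} (h : (rr p * nn)⁻¹ * (rr q * nn) ∈ B1 K m) : p = q := by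
  obtain ⟨w, hw⟩ := (mem_U1 hK).1 (mul_mem (inv_mem (rr_mem_U1 hK p)) (rr_mem_U1 hK q))
  have h' : nn * rr w * nn ∈ B1 K m := by
    rw [← hw]
    rwa [mul_inv_rev, nn_inv hK, show (nn : G1 K m) * (rr p)⁻¹ * (rr q * nn) =
      nn * ((rr p)⁻¹ * rr q) * nn by group] at h
  rw [nn_rr_nn_mem_B1 hK h', rr_zero, inv_mul_eq_one] at hw
  exact rr_injective hw

theorem card_U1_eq : Nat.card (U1 K m) = (3 ^ (2 * m + 1)) ^ 3 := by
  rw [U1, Nat.card_congr (Subgroup.subgroupOfEquivOfLe inf_le_right).toEquiv]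
  exact card_U1 hK

theorem factorization_three :
    (Nat.card (G1 K m)).factorization 3 = 3 * (2 * m + 1) := by
  rw [card_G1 hK]
  set r := 2 * m + 1
  have hr : 3 ∣ 3 ^ r := dvd_pow_self 3 (by omega)
  have h1 : 1 ≤ 3 ^ r := Nat.one_le_pow _ _ (by norm_num)
  have hlt : 3 ≤ 3 ^ r := Nat.le_of_dvd (by omega) hr
  have hA : ¬ 3 ∣ 3 ^ r - 1 := fun h => by omega
  have hB : ¬ 3 ∣ (3 ^ r) ^ 3 + 1 := fun h => by
    have h3 : 3 ∣ (3 ^ r) ^ 3 := hr.trans (dvd_pow_self _ three_ne_zero)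
    exact absurd ((Nat.dvd_add_right h3).1 h) (by norm_num)
  rw [Nat.factorization_mul (Nat.mul_ne_zero (by positivity) (by omega)) (by omega),
    Nat.factorization_mul (by positivity) (by omega), Finsupp.add_apply, Finsupp.add_apply,
    Nat.factorization_eq_zero_of_not_dvd hA, Nat.factorization_eq_zero_of_not_dvd hB,
    ← pow_mul, Nat.prime_three.factorization_pow, Finsupp.single_eq_same, Nat.add_zero,
    mul_comm]

/-- The fixed unipotent group as a Sylow subgroup. -/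
noncomputable def U1s : Sylow 3 (G1 K m) :=
  Sylow.ofCard (U1 K m) (by rw [card_U1_eq hK, factorization_three hK, ← pow_mul, mul_comm])

theorem coe_U1s : ((U1s hK : Sylow 3 (G1 K m)) : Subgroup (G1 K m)) = U1 K m := by
  simp [U1s]

theorem exists_conj_U1 {x : G1 K m} {n : ℕ} (h : x ^ 3 ^ n = 1) :
    ∃ g : G1 K m, g * x * g⁻¹ ∈ U1 K m := by
  have hp : IsPGroup 3 (Subgroup.zpowers x) := by
    rintro ⟨y, k, rfl⟩
    refine ⟨n, Subtype.ext ?_⟩
    show (x ^ k) ^ (3 ^ n) = 1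
    rw [← zpow_natCast, ← zpow_mul, mul_comm, zpow_mul, zpow_natCast, h, one_zpow]
  obtain ⟨P, hP⟩ := hp.exists_le_sylow
  obtain ⟨g, hg⟩ := MulAction.exists_smul_eq (G1 K m) P (U1s hK)
  refine ⟨g, ?_⟩
  rw [← coe_U1s hK, ← hg, Sylow.coe_subgroup_smul]
  exact ⟨x, hP (Subgroup.mem_zpowers x), rfl⟩

theorem centralizer_le_B1 {u g : G1 K m} (hu : u ∈ U1 K m) (hne : u ≠ 1) (hc : g * u = u * g) :
    g ∈ B1 K m := by
  refine mem_B1_of_conj hK hu ?_ hne
  rwa [mul_assoc, ← hc, inv_mul_cancel_left]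

end Finite

end Ree

end Cfsg.Agent.Chev
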