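import Cfsg.Agent.Chev.Special.Basic
import Cfsg.Agent.Chev.All
import Cfsg.Prelude.Def_LieTwisted

/-!
Identities between words of `G₂` over the field with three elements, checked on matrices of
natural numbers, and carried to any field of characteristic three.
-/

set_option autoImplicit false
set_option maxRecDepth 100000

namespace Cfsg.Agent.Chev

open Cfsg.Lie
open scoped MatrixGroups

universe u

namespace Ree3

/-- The linear coordinate. -/
def lin (a : chevG2.Idx) : ℕ := (finSumFinEquiv a : Fin (chevG2.rank + chevG2.nroots)).val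

/-- A table. -/
def tab (f : ℕ → ℕ → ℕ) : List (List ℕ) :=
  (List.range 14).map fun a => (List.range 14).map fun b => f a b

/-- An entry. -/
def ent (A : List (List ℕ)) (a b : ℕ) : ℕ := (A.getD a []).getD b 0

theorem ent_tab (f : ℕ → ℕ → ℕ) {a b : ℕ} (ha : a < 14) (hb : b < 14) : ent (tab f) a b = f a b := by
  simp [ent, tab, List.getD_eq_getElem?_getD, ha, hb]

theorem lin_lt (a : chevG2.Idx) : lin a < 14 := Fin.isLt _

/-- The matrix of a table. -/
def toM (A : List (List ℕ)) : Matrix chevG2.Idx chevG2.Idx (ZMod 3) :=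
  Matrix.of fun a b => (ent A (lin a) (lin b) : ZMod 3)

/-- The coordinate with a given number. -/
def unlin (a : ℕ) : chevG2.Idx :=
  finSumFinEquiv.symm (⟨a % 14, Nat.mod_lt _ (by norm_num)⟩ : Fin (chevG2.rank + chevG2.nroots))

theorem unlin_lin (a : chevG2.Idx) : unlin (lin a) = a := by
  rw [unlin, Equiv.symm_apply_eq]
  exact Fin.ext (Nat.mod_eq_of_lt (lin_lt a))

/-- The product of tables. -/
def mulL (A B : List (List ℕ)) : List (List ℕ) :=
  tab fun a b => ((List.range 14).map fun k => ent A a k * ent B k b).sum % 3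

theorem toM_mulL (A B : List (List ℕ)) : toM (mulL A B) = toM A * toM B := by
  ext a b
  simp only [toM, Matrix.of_apply, mulL, ent_tab _ (lin_lt a) (lin_lt b), Matrix.mul_apply]
  rw [ZMod.natCast_mod, Nat.cast_list_sum, List.map_map,
    ← Equiv.sum_comp finSumFinEquiv.symm]
  have h : ∀ f : ℕ → ZMod 3, ((List.range 14).map f).sum =
      ∑ k : Fin (chevG2.rank + chevG2.nroots), f k :=
    fun f => (show ((List.range 14).map f).sum = ∑ k ∈ Finset.range 14, f k from rfl).trans
      (Finset.sum_range f)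
  rw [h]
  refine Finset.sum_congr rfl fun k _ => ?_
  have e : lin (finSumFinEquiv.symm k) = (k : ℕ) :=
    congrArg Fin.val (Equiv.apply_symm_apply finSumFinEquiv k)
  rw [e]
  simp

/-- The table of the identity. -/
def oneL : List (List ℕ) := tab fun a b => if a = b then 1 else 0

theorem toM_oneL : toM oneL = 1 := by
  ext a b
  rw [toM, Matrix.of_apply, oneL, ent_tab _ (lin_lt a) (lin_lt b), Matrix.one_apply]
  by_cases h : a = b
  · subst h; simp
  · rw [if_neg h, if_neg (fun e => h (by rw [← unlin_lin a, e, unlin_lin]))]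
    simp

/-- The table of a root element. -/
def xL (r t : ℕ) : List (List ℕ) :=
  tab fun a b =>
    ((((xCoefs chevG2 r (unlin a) (unlin b)).map fun e => e.2 * (t : ℤ) ^ e.1).sum) % 3).toNat

theorem toM_xL {r : ℕ} (hr : r < 12) (t : ℕ) :
    toM (xL r t) = chevG2.x (ZMod 3) r (t : ZMod 3) := by
  ext a b
  rw [toM, Matrix.of_apply, xL, ent_tab _ (lin_lt a) (lin_lt b), unlin_lin, unlin_lin,
    xMat_eq_xCoefs ⟨r, hr⟩]
  set z := ((xCoefs chevG2 r a b).map fun e => e.2 * (t : ℤ) ^ e.1).sum with hz
  rw [← Int.cast_natCast, Int.toNat_of_nonneg (Int.emod_nonneg _ (by norm_num))]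
  rw [show ((z % 3 : ℤ) : ZMod 3) = (z : ZMod 3) from
    (ZMod.intCast_eq_intCast_iff' _ _ 3).2 (Int.emod_emod _ _)]
  rw [hz, Int.cast_list_sum, List.map_map]
  refine congrArg List.sum (List.map_congr_left fun e _ => ?_)
  simp

/-- The table of a word. -/
def wordL : List (ℕ × ℕ) → List (List ℕ)
  | [] => oneL
  | p :: w => mulL (xL p.1 p.2) (wordL w)

theorem toM_wordL : ∀ w : List (ℕ × ℕ), (∀ p ∈ w, p.1 < 12) →
    toM (wordL w) = chevG2.wordMat (ZMod 3) (w.map fun p => (p.1, (p.2 : ZMod 3)))
  | [], _ => toM_oneL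
  | p :: w, h => by
    rw [wordL, toM_mulL, toM_xL (h p (List.mem_cons_self ..)),
      toM_wordL w fun q hq => h q (List.mem_cons_of_mem _ hq)]
    simp [ChevalleyDatum.wordMat]

/-- An identity of words over the prime field holds in every field of characteristic three. -/
theorem word_eq {K : Type u} [Field K] [CharP K 3] {v w : List (ℕ × ℕ)}
    (hv : ∀ p ∈ v, p.1 < 12) (hw : ∀ p ∈ w, p.1 < 12) (h : wordL v = wordL w) :
    wordG facts_chevG2 (v.map fun p => (p.1, (p.2 : K))) =
      wordG facts_chevG2 (w.map fun p => (p.1, (p.2 : K))) := by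
  let f : ZMod 3 →+* K := ZMod.castHom (dvd_refl 3) K
  haveI : Fact (Nat.Prime 3) := ⟨Nat.prime_three⟩
  have h' : wordG facts_chevG2 (v.map fun p => (p.1, (p.2 : ZMod 3))) =
      wordG facts_chevG2 (w.map fun p => (p.1, (p.2 : ZMod 3))) := by
    apply Units.ext
    rw [wordG_val, wordG_val, ← toM_wordL v hv, ← toM_wordL w hw, h]
  have h'' := congrArg (gmap chevG2 f) h'
  rw [gmap_wordG facts_chevG2 facts_chevG2, gmap_wordG facts_chevG2 facts_chevG2, List.map_map,
    List.map_map] at h''
  simpa [Function.comp_def, map_natCast] using h''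

end Ree3

end Cfsg.Agent.Chev
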