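import Cfsg.Agent.Chev.Ree.Split
import Cfsg.Agent.Chev.Ree.Odd
import Cfsg.Agent.Classical.Dickson2.Dihedral

/-!
The tori of order `q + 1` of `²G₂(q)`.
-/

set_option autoImplicit false
set_option maxRecDepth 100000
set_option maxHeartbeats 1000000

namespace Cfsg.Agent.Chev

open Cfsg.Lie
open scoped MatrixGroups

universe u

namespace Ree

/-- The data of a torus of order `q + 1`. -/
structure IsQuarter {G : Type*} [Group G] (q : ℕ) (j : G) (T : Subgroup G) : Prop where
  card : Nat.card T = q + 1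
  mem : j ∈ T
  comm : ∀ a ∈ T, ∀ b ∈ T, a * b = b * a

variable {K : Type u} [Field K] [Fintype K] [CharP K 3] {m : ℕ}
  (hK : Fintype.card K = 3 ^ (2 * m + 1))

local notation "PG" => Matrix.ProjectiveSpecialLinearGroup (Fin 2) K

include hK

/-- The second factor of the centraliser of the involution. -/
theorem exists_psiP : ∃ ψ : PG →* G1 K m, Function.Injective ψ ∧
    (∀ g, Commute invJ (ψ g)) ∧ (∀ g, ψ g ≠ invJ) ∧
    ∀ c ∈ Subgroup.centralizer {(invJ : G1 K m)}, ∃ g, c = ψ g ∨ c = invJ * ψ g := by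
  obtain ⟨ψ, hc, hne, hker⟩ := exists_psiG hK (m := m) (K := K)
  let ψ' : PG →* G1 K m := QuotientGroup.lift _ ψ fun g hg => (hker g).2 hg
  have hc' : ∀ g, Commute invJ (ψ' g) := fun g => by
    induction g using QuotientGroup.induction_on with | _ g => exact hc g
  have hne' : ∀ g, ψ' g ≠ invJ := fun g => by
    induction g using QuotientGroup.induction_on with | _ g => exact hne g
  have hinj : Function.Injective ψ' := by
    refine (injective_iff_map_eq_one ψ').2 fun g => ?_
    induction g using QuotientGroup.induction_on with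
    | _ g => exact fun e => (QuotientGroup.eq_one_iff g).2 ((hker g).1 e)
  refine ⟨ψ', hinj, hc', hne', ?_⟩
  let f : PG ⊕ PG → Subgroup.centralizer {(invJ : G1 K m)} := fun s => s.elim
    (fun g => ⟨ψ' g, Subgroup.mem_centralizer_singleton_iff.2 (hc' g).eq.symm⟩)
    (fun g => ⟨invJ * ψ' g, Subgroup.mem_centralizer_singleton_iff.2
      (by rw [mul_assoc, ← (hc' g).eq, ← mul_assoc])⟩)
  have hf : Function.Injective f := by
    rintro (a | a) (b | b) e <;> have e' := congrArg Subtype.val e <;>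
      simp only [f, Sum.elim_inl, Sum.elim_inr] at e'
    · rw [hinj e']
    · exact absurd (mul_inv_eq_iff_eq_mul.2 e') (by rw [← map_inv, ← map_mul]; exact hne' _)
    · exact absurd (mul_inv_eq_iff_eq_mul.2 e'.symm) (by rw [← map_inv, ← map_mul]; exact hne' _)
    · rw [hinj (mul_left_cancel e')]
  have hbij := hf.bijective_of_nat_card_le (le_of_eq ?_)
  · intro c hc
    obtain ⟨s, hs⟩ := hbij.2 ⟨c, hc⟩
    rcases s with g | g
    · exact ⟨g, Or.inl (congrArg Subtype.val hs).symm⟩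
    · exact ⟨g, Or.inr (congrArg Subtype.val hs).symm⟩
  · obtain ⟨e⟩ := centralizer_iso hK (m := m) (K := K)
    rw [Nat.card_congr e.toEquiv, Nat.card_prod, show Nat.card (Multiplicative (ZMod 2)) = 2 by simp,
      Nat.card_sum, two_mul]

theorem invJ_ne_one : (invJ : G1 K m) ≠ 1 := by
  rw [← tt_neg_one hK, ← map_one (tt hK)]
  exact fun e => neg_one_ne_one (tt_injective hK e)

theorem not_three_commute {y : G1 K m} {r : ℕ} (hr : r.Prime) (hy : orderOf y = r)
    (hrB : ¬ r ∣ 3 ^ (2 * m + 1)) (hrH : ¬ r ∣ 3 ^ (2 * m + 1) - 1) :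
    ¬ 3 ∣ Nat.card ↥(Subgroup.centralizer {y}) := by
  intro h
  haveI : Fact (Nat.Prime 3) := ⟨Nat.prime_three⟩
  obtain ⟨u, hu⟩ := exists_prime_orderOf_dvd_card' 3 h
  have hu3 : orderOf (u : G1 K m) = 3 := by rw [Subgroup.orderOf_coe, hu]
  have hu' : (u : G1 K m) ^ 3 ^ 1 = 1 := by
    rw [pow_one]
    exact orderOf_dvd_iff_pow_eq_one.1 (dvd_of_eq hu3)
  obtain ⟨g, hg⟩ := exists_conj_U1 hK hu'
  have hb : g * y * g⁻¹ ∈ B1 K m := by
    refine centralizer_le_B1 hK hg (fun e => ?_) ?_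
    · rw [conj_eq_one_iff.1 e, orderOf_one] at hu3
      exact absurd hu3 (by norm_num)
    · have hc := Subgroup.mem_centralizer_singleton_iff.1 u.2
      calc g * y * g⁻¹ * (g * u * g⁻¹) = g * (y * u) * g⁻¹ := by group
        _ = g * (u * y) * g⁻¹ := by rw [hc]
        _ = _ := by group
  have hd := Subgroup.orderOf_dvd_natCard _ hb
  rw [card_B1 hK, ← MulAut.conj_apply, MulEquiv.orderOf_eq, hy] at hd
  rcases hr.dvd_mul.1 hd with h' | h'
  · exact hrB (hr.dvd_of_dvd_pow h')
  · exact hrH h'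

/-- The torus of order `q + 1` with everything needed about it. -/
theorem exists_quarter (hm : 1 ≤ m) : ∃ T : Subgroup (G1 K m), ∃ a : G1 K m,
    IsQuarter (3 ^ (2 * m + 1)) invJ T ∧ a ∈ T ∧ orderOf a = (3 ^ (2 * m + 1) + 1) / 4 ∧
    (∀ g ∈ T, g ^ 2 ∈ Subgroup.zpowers a) ∧
    Nat.card {g : T // (g : G1 K m) ^ 2 = 1} = 4 ∧
    (∀ y ∈ T, y ^ 2 ≠ 1 → Subgroup.centralizer {y} = T) ∧
    (∀ g, ∀ y ∈ T, y ^ 2 ≠ 1 → g * y * g⁻¹ ∈ T → g ∈ Subgroup.normalizer (T : Set (G1 K m))) ∧
    Nat.card (Subgroup.normalizer (T : Set (G1 K m))) = 6 * (3 ^ (2 * m + 1) + 1) ∧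
    (∀ y : G1 K m, ∀ r : ℕ, r.Prime → r ∣ (3 ^ (2 * m + 1) + 1) / 4 → r ∣ orderOf y →
      ∃ g, g * y * g⁻¹ ∈ T ∧ (g * y * g⁻¹) ^ 2 ≠ 1) := by
  classical
  haveI : Fact (Nat.Prime 3) := ⟨Nat.prime_three⟩
  haveI : Fact (Nat.Prime 2) := ⟨Nat.prime_two⟩
  obtain ⟨ψ, hψi, hψc, hψne, hψs⟩ := exists_psiP hK (m := m) (K := K)
  obtain ⟨x₀, hx₀, hx₀c⟩ := Classical.Dickson2.exists_elliptic_tor (F := K) 3
  obtain ⟨t₀, ht₀, ht₀o⟩ := Classical.Dickson2.exists_generator_tor 3 hx₀
  set q := 3 ^ (2 * m + 1) with hq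
  have h8 : q % 8 = 3 := pow_odd_mod m
  have h27 : 27 ≤ q := le_pow_odd hm
  set b := (q + 1) / 4 with hb
  have hqb : q + 1 = 4 * b := by omega
  have hbo : Odd b := Nat.odd_iff.2 (by omega)
  have hx₀b : Nat.card (Classical.Dickson2.tor x₀) = 2 * b := by
    have hg : Nat.gcd 2 (Fintype.card K - 1) = 2 := by
      rw [hK]
      exact Nat.gcd_eq_left (by omega)
    rw [hg, hK] at hx₀c
    omega
  rw [hx₀b] at ht₀o
  have hJJ : (invJ : G1 K m) * invJ = 1 := invJ_sq
  let T : Subgroup (G1 K m) :=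
    { carrier := {g | ∃ t ∈ Classical.Dickson2.tor x₀, g = ψ t ∨ g = invJ * ψ t}
      one_mem' := ⟨1, one_mem _, Or.inl (map_one ψ).symm⟩
      mul_mem' := by
        rintro _ _ ⟨s, hs, rfl | rfl⟩ ⟨t, ht, rfl | rfl⟩ <;> refine ⟨s * t, mul_mem hs ht, ?_⟩
        · exact Or.inl (map_mul ψ s t).symm
        · exact Or.inr (by rw [← mul_assoc, ← (hψc s).eq, map_mul, mul_assoc])
        · exact Or.inr (by rw [map_mul, mul_assoc])
        · refine Or.inl ?_
          rw [← mul_assoc, mul_assoc invJ (ψ s), ← (hψc s).eq, ← mul_assoc, hJJ, one_mul, map_mul]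
      inv_mem' := by
        rintro _ ⟨s, hs, rfl | rfl⟩ <;> refine ⟨s⁻¹, inv_mem hs, ?_⟩
        · exact Or.inl (map_inv ψ s).symm
        · exact Or.inr (by rw [mul_inv_rev, inv_eq_of_mul_eq_one_right hJJ, map_inv,
            ((hψc s).inv_right).eq]) }
  have hmemT : ∀ g, g ∈ T ↔ ∃ t ∈ Classical.Dickson2.tor x₀, g = ψ t ∨ g = invJ * ψ t :=
    fun g => Iff.rfl
  have hcardT : Nat.card T = q + 1 := by
    let f : (Classical.Dickson2.tor x₀) ⊕ (Classical.Dickson2.tor x₀) → T := fun s => s.elim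
      (fun t : ↥(Classical.Dickson2.tor x₀) => ⟨ψ (t : PG), t, t.2, Or.inl rfl⟩)
      (fun t : ↥(Classical.Dickson2.tor x₀) => ⟨invJ * ψ (t : PG), t, t.2, Or.inr rfl⟩)
    have hf : Function.Bijective f := by
      refine ⟨?_, fun g => ?_⟩
      · rintro (s | s) (t | t) e <;> have e' := congrArg Subtype.val e <;>
          simp only [f, Sum.elim_inl, Sum.elim_inr] at e'
        · rw [Subtype.ext (hψi e')]
        · exact absurd (mul_inv_eq_iff_eq_mul.2 e') (by rw [← map_inv, ← map_mul]; exact hψne _)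
        · exact absurd (mul_inv_eq_iff_eq_mul.2 e'.symm) (by rw [← map_inv, ← map_mul]; exact hψne _)
        · rw [Subtype.ext (hψi (mul_left_cancel e'))]
      · obtain ⟨t, ht, e | e⟩ := g.2
        · exact ⟨Sum.inl ⟨t, ht⟩, Subtype.ext e.symm⟩
        · exact ⟨Sum.inr ⟨t, ht⟩, Subtype.ext e.symm⟩
    rw [← Nat.card_congr (Equiv.ofBijective f hf), Nat.card_sum, hx₀b]
    omega
  have hx₀1 := Classical.Dickson2.ne_one_of_semis 3 hx₀
  have hTcomm : ∀ a ∈ T, ∀ b ∈ T, a * b = b * a := by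
    intro g hg h hh
    obtain ⟨s, hs, rfl | rfl⟩ := (hmemT g).1 hg <;> obtain ⟨t, ht, rfl | rfl⟩ := (hmemT h).1 hh <;>
      have e : Commute (ψ s) (ψ t) :=
        (show Commute s t from Classical.Dickson2.tor_comm hx₀1 hs ht).map ψ
    · exact e.eq
    · exact ((hψc s).symm.mul_right e).eq
    · exact ((hψc t).mul_left e).eq
    · exact (((Commute.refl invJ).mul_right (hψc t)).mul_left ((hψc s).symm.mul_right e)).eq
  have hJT : (invJ : G1 K m) ∈ T :=
    ⟨1, one_mem _, Or.inr (by rw [map_one, mul_one])⟩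
  -- squares
  set a := ψ (t₀ ^ 2) with ha
  have hao : orderOf a = b := by
    rw [ha, orderOf_injective ψ hψi, orderOf_pow_of_dvd two_ne_zero (by rw [ht₀o]; exact dvd_mul_right 2 b),
      ht₀o, Nat.mul_div_cancel_left _ two_pos]
  have hgen : ∀ t ∈ Classical.Dickson2.tor x₀, ∃ k : ℕ, t = t₀ ^ k := by
    intro t ht
    have e : Subgroup.zpowers t₀ = Classical.Dickson2.tor x₀ :=
      Subgroup.eq_of_le_of_card_ge (Subgroup.zpowers_le.2 ht₀)
        (by rw [Nat.card_zpowers, ht₀o, hx₀b])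
    obtain ⟨k, hk⟩ := (isOfFinOrder_of_finite t₀).mem_powers_iff_mem_zpowers.2 (e ▸ ht)
    exact ⟨k, hk.symm⟩
  have hsq : ∀ g ∈ T, ∃ t ∈ Classical.Dickson2.tor x₀, g ^ 2 = ψ (t ^ 2) ∧ (g = ψ t ∨ g = invJ * ψ t) := by
    intro g hg
    obtain ⟨t, ht, rfl | rfl⟩ := (hmemT g).1 hg
    · exact ⟨t, ht, (map_pow ψ t 2).symm, Or.inl rfl⟩
    · exact ⟨t, ht, by rw [(hψc t).mul_pow, pow_two, hJJ, one_mul, map_pow], Or.inr rfl⟩
  have hsqA : ∀ g ∈ T, g ^ 2 ∈ Subgroup.zpowers a := by
    intro g hg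
    obtain ⟨t, ht, e, -⟩ := hsq g hg
    obtain ⟨k, rfl⟩ := hgen t ht
    rw [e, ← pow_mul, mul_comm, pow_mul, map_pow]
    exact Subgroup.npow_mem_zpowers a k
  -- centralisers inside the centraliser of the involution
  have hCC : ∀ y ∈ T, y ^ 2 ≠ 1 → ∀ c ∈ Subgroup.centralizer {(invJ : G1 K m)},
      c * y = y * c → c ∈ T := by
    intro y hy hy2 c hc hcy
    obtain ⟨t, ht, e2, hyt⟩ := hsq y hy
    obtain ⟨h, hh⟩ := hψs c hc
    have ht2 : t * t ≠ 1 := fun e => hy2 (by rw [e2, pow_two t, e, map_one])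
    have ht1 : t ≠ 1 := fun e => ht2 (by rw [e, one_mul])
    have hct : h * t * h⁻¹ = t := by
      have h1 : Commute c (ψ t) := by
        rcases hyt with rfl | rfl
        · exact hcy
        · have hcJ : Commute c invJ := Subgroup.mem_centralizer_singleton_iff.1 hc
          have h2 := hcJ.mul_right (show Commute c (invJ * ψ t) from hcy)
          rwa [← mul_assoc, hJJ, one_mul] at h2
      have h3 : Commute (ψ h) (ψ t) := by
        rcases hh with rfl | rfl
        · exact h1
        · have := (hψc t).mul_left h1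
          rwa [← mul_assoc, hJJ, one_mul] at this
      refine hψi ?_
      rw [map_mul, map_mul, map_inv, h3.eq, mul_inv_cancel_right]
    have htor := Classical.Dickson2.tor_eq hx₀1 ht ht1
    have hmap := Classical.Dickson2.tor_conj h t
    rw [hct, htor] at hmap
    have hN : h ∈ Subgroup.normalizer (Classical.Dickson2.tor x₀ : Set PG) := by
      refine Subgroup.mem_normalizer_iff.2 fun z => ?_
      constructor
      · intro hz
        rw [hmap]
        exact ⟨z, hz, rfl⟩
      · intro hz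
        rw [hmap] at hz
        obtain ⟨w, hw, e⟩ := hz
        rwa [show z = w from ((MulAut.conj h).injective e).symm]
    have hmem : h ∈ Classical.Dickson2.tor x₀ := by
      by_contra hn
      have := (Classical.Dickson2.inverts_of_not_mem 3 hx₀ hN hn).2 t ht
      rw [hct] at this
      exact ht2 (mul_eq_one_iff_eq_inv.2 this)
    rcases hh with rfl | rfl
    · exact ⟨h, hmem, Or.inl rfl⟩
    · exact ⟨h, hmem, Or.inr rfl⟩
  have hTC : T ≤ Subgroup.centralizer {(invJ : G1 K m)} := fun g hg =>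
    Subgroup.mem_centralizer_singleton_iff.2 (hTcomm g hg _ hJT)
  set C := Subgroup.centralizer {(invJ : G1 K m)} with hC
  have hcardC := card_centralizer_invJ hK (m := m) (K := K)
  have hfac : ∀ r : ℕ, r.Prime → r ∣ b → (Nat.card T).factorization r = (Nat.card C).factorization r := by
    intro r hr hrb
    have hr2 : r ≠ 2 := fun e => by
      subst e
      exact (Nat.not_even_iff_odd.2 hbo) (even_iff_two_dvd.2 hrb)
    have hrq : r ∣ q + 1 := hqb ▸ dvd_mul_of_dvd_right hrb 4
    have hpf := prime_facts (q := q) (by omega) hr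
    rw [hcardT, hcardC, ← hq, Nat.factorization_mul (by omega) (Nat.mul_ne_zero (by omega) (by omega)),
      Nat.factorization_mul (by omega) (by omega), Finsupp.add_apply, Finsupp.add_apply,
      Nat.factorization_eq_zero_of_not_dvd (n := q) (fun h => hpf.2.2.2.2.1 ⟨h, hrq⟩),
      Nat.factorization_eq_zero_of_not_dvd (n := q - 1) (fun h => hr2 (hpf.1 h hrq)),
      zero_add, zero_add]
  have hprimeT : ∀ y ∈ T, y ^ 2 ≠ 1 → ∃ r k : ℕ, r.Prime ∧ r ∣ b ∧ orderOf (y ^ k) = r := by
    intro y hy hy2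
    obtain ⟨r, hr, hrd⟩ := Nat.exists_prime_and_dvd
      (show orderOf (y ^ 2) ≠ 1 from fun e => hy2 (orderOf_eq_one_iff.1 e))
    have hrb : r ∣ b := hao ▸ hrd.trans (by
      have := Subgroup.orderOf_dvd_natCard _ (hsqA y hy)
      rwa [Nat.card_zpowers] at this)
    obtain ⟨k, hk⟩ := exists_pow_orderOf hr (hrd.trans (orderOf_pow_dvd 2))
    exact ⟨r, k, hr, hrb, hk⟩
  have hne2 : ∀ {y : G1 K m} {r : ℕ}, r.Prime → r ∣ b → orderOf y = r → y ^ 2 ≠ 1 := by
    intro y r hr hrb ho e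
    have := ho ▸ orderOf_dvd_of_pow_eq_one e
    rw [(Nat.prime_dvd_prime_iff_eq hr Nat.prime_two).1 this] at hrb
    exact (Nat.not_even_iff_odd.2 hbo) (even_iff_two_dvd.2 hrb)
  -- abelian subgroups of order `q + 1` of the centraliser are conjugate there
  have hconjT : ∀ T' : Subgroup (G1 K m), T' ≤ C → (∀ s ∈ T', ∀ t ∈ T', s * t = t * s) →
      Nat.card T' = q + 1 → ∃ h ∈ C, ∀ z, z ∈ T' ↔ h * z * h⁻¹ ∈ T := by
    intro T' hle hab hcard
    obtain ⟨r, hr, hrb⟩ := Nat.exists_prime_and_dvd (show b ≠ 1 by omega)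
    haveI : Fact r.Prime := ⟨hr⟩
    obtain ⟨y, hy⟩ := exists_prime_orderOf_dvd_card' (G := T') r
      (hcard ▸ hqb ▸ dvd_mul_of_dvd_right hrb 4)
    have hfacC : (Nat.card (T.subgroupOf C)).factorization r = (Nat.card C).factorization r := by
      rw [Nat.card_congr (Subgroup.subgroupOfEquivOfLe hTC).toEquiv]
      exact hfac r hr hrb
    obtain ⟨h, hh⟩ := exists_conj_mem_of_factorization (r := r) (n := 1) (T.subgroupOf C) hfacC
      (x := (⟨y, hle y.2⟩ : C)) (by
        rw [pow_one]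
        refine Subtype.ext ?_
        show (y : G1 K m) ^ r = 1
        rw [← hy, ← Subgroup.orderOf_coe, pow_orderOf_eq_one])
    have hh' : (h : G1 K m) * y * (h : G1 K m)⁻¹ ∈ T := hh
    refine ⟨h, h.2, ?_⟩
    have ho : ((h : G1 K m) * y * (h : G1 K m)⁻¹) ^ 2 ≠ 1 :=
      hne2 hr hrb (by rw [← MulAut.conj_apply, MulEquiv.orderOf_eq, Subgroup.orderOf_coe, hy])
    have hsub : T'.map (MulAut.conj (h : G1 K m)).toMonoidHom ≤ T := by
      rintro _ ⟨z, hz, rfl⟩
      refine hCC _ hh' ho _ (mul_mem (mul_mem h.2 (hle hz)) (inv_mem h.2)) ?_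
      simp only [MulEquiv.coe_toMonoidHom, MulAut.conj_apply]
      have := hab z hz y y.2
      calc (h : G1 K m) * z * (h : G1 K m)⁻¹ * ((h : G1 K m) * y * (h : G1 K m)⁻¹)
          = (h : G1 K m) * (z * y) * (h : G1 K m)⁻¹ := by group
        _ = _ := by rw [this]; group
    have heq : T'.map (MulAut.conj (h : G1 K m)).toMonoidHom = T := by
      refine Subgroup.eq_of_le_of_card_ge hsub (le_of_eq ?_)
      rw [← Nat.card_congr (Subgroup.equivMapOfInjective _ _ (MulEquiv.injective _)).toEquiv, hcard,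
        hcardT]
    intro z
    rw [← heq]
    constructor
    · exact fun hz => ⟨z, hz, rfl⟩
    · rintro ⟨w, hw, e⟩
      rwa [show z = w from ((MulAut.conj (h : G1 K m)).injective e).symm]
  -- each involution of the torus: `C(y) ∩ C(v) = T`
  have hinvol : ∀ v ∈ T, v ^ 2 = 1 → v ≠ 1 → ∃ g, g * v * g⁻¹ = invJ ∧
      ∀ z, z ∈ T ↔ g * z * g⁻¹ ∈ T := by
    intro v hv hv2 hv1
    obtain ⟨g, hg⟩ := involutions_conj hK hm (by rw [← pow_two]; exact hv2) hv1
    have hgv : g⁻¹ * v * g = invJ := by rw [← hg]; group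
    let T' := T.map (MulAut.conj g⁻¹).toMonoidHom
    have hT' : ∀ z, z ∈ T' ↔ g * z * g⁻¹ ∈ T := by
      intro z
      constructor
      · rintro ⟨w, hw, rfl⟩
        simpa [MulAut.conj_apply, mul_assoc] using hw
      · exact fun hz => ⟨_, hz, by simp [MulAut.conj_apply, mul_assoc]⟩
    have hsubC : T' ≤ C := by
      intro z hz
      rw [hC, Subgroup.mem_centralizer_singleton_iff]
      have h2 := hTcomm _ ((hT' z).1 hz) v hv
      calc z * invJ = g⁻¹ * (g * z * g⁻¹ * v) * g := by rw [← hgv]; group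
        _ = g⁻¹ * (v * (g * z * g⁻¹)) * g := by rw [h2]
        _ = invJ * z := by rw [← hgv]; group
    have habT : ∀ s ∈ T', ∀ t ∈ T', s * t = t * s := by
      intro s hs t ht
      have h2 := hTcomm _ ((hT' s).1 hs) _ ((hT' t).1 ht)
      calc s * t = g⁻¹ * (g * s * g⁻¹ * (g * t * g⁻¹)) * g := by group
        _ = t * s := by rw [h2]; group
    obtain ⟨h, hhC, hh⟩ := hconjT T' hsubC habT (by
      rw [← Nat.card_congr (Subgroup.equivMapOfInjective _ _ (MulEquiv.injective _)).toEquiv, hcardT])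
    refine ⟨h * g⁻¹, ?_, fun z => ?_⟩
    · have hcJ : h * invJ = invJ * h := Subgroup.mem_centralizer_singleton_iff.1 hhC
      calc h * g⁻¹ * v * (h * g⁻¹)⁻¹ = h * (g⁻¹ * v * g) * h⁻¹ := by group
        _ = invJ := by rw [hgv, hcJ, mul_inv_cancel_right]
    · have := hh (g⁻¹ * z * g)
      rw [hT', show g * (g⁻¹ * z * g) * g⁻¹ = z by group] at this
      rw [this, show h * g⁻¹ * z * (h * g⁻¹)⁻¹ = h * (g⁻¹ * z * g) * h⁻¹ by group]
  have hCv : ∀ y ∈ T, y ^ 2 ≠ 1 → ∀ v ∈ T, v ^ 2 = 1 → v ≠ 1 → ∀ c : G1 K m, c * y = y * c →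
      c * v = v * c → c ∈ T := by
    intro y hy hy2 v hv hv2 hv1 c hcy hcv
    obtain ⟨g, hg, hgT⟩ := hinvol v hv hv2 hv1
    refine (hgT c).2 (hCC (g * y * g⁻¹) ((hgT y).1 hy) ?_ _ ?_ ?_)
    · intro e
      rw [conj_pow, conj_eq_one_iff] at e
      exact hy2 e
    · rw [Subgroup.mem_centralizer_singleton_iff, ← hg]
      calc g * c * g⁻¹ * (g * v * g⁻¹) = g * (c * v) * g⁻¹ := by group
        _ = g * (v * c) * g⁻¹ := by rw [hcv]
        _ = _ := by group
    · calc g * c * g⁻¹ * (g * y * g⁻¹) = g * (c * y) * g⁻¹ := by group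
        _ = g * (y * c) * g⁻¹ := by rw [hcy]
        _ = _ := by group
  -- the four-group
  have hb0 : b ≠ 0 := by omega
  set e₀ := ψ (t₀ ^ b) with he₀
  have he₀2 : e₀ * e₀ = 1 := by
    rw [he₀, ← map_mul, ← pow_add, ← two_mul, ← ht₀o, pow_orderOf_eq_one, map_one]
  have he₀1 : e₀ ≠ 1 := by
    intro e
    have := hψi (e.trans (map_one ψ).symm)
    have hd := orderOf_dvd_of_pow_eq_one this
    rw [ht₀o] at hd
    have := Nat.le_of_dvd (by omega) hd
    omega
  have he₀T : e₀ ∈ T := ⟨_, pow_mem ht₀ b, Or.inl rfl⟩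
  have he₀J : e₀ ≠ invJ := hψne _
  have hfour : ∀ g : G1 K m, g ∈ T ∧ g ^ 2 = 1 ↔
      g = 1 ∨ g = invJ ∨ g = e₀ ∨ g = invJ * e₀ := by
    intro g
    constructor
    · rintro ⟨hg, hg2⟩
      obtain ⟨t, ht, e, hgt⟩ := hsq g hg
      have ht2 : t ^ 2 = 1 := hψi (by rw [← e, hg2, map_one])
      obtain ⟨k, rfl⟩ := hgen t ht
      rw [← pow_mul] at ht2
      have hd := orderOf_dvd_of_pow_eq_one ht2
      rw [ht₀o, mul_comm k 2] at hd
      obtain ⟨j, rfl⟩ := Nat.dvd_of_mul_dvd_mul_left two_pos hd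
      rw [pow_mul] at hgt
      rcases Nat.even_or_odd j with ⟨i, rfl⟩ | ⟨i, rfl⟩
      · rw [← two_mul, pow_mul, ← pow_mul t₀ b 2, mul_comm b 2, ← ht₀o, pow_orderOf_eq_one, one_pow,
          map_one, mul_one] at hgt
        rcases hgt with h | h <;> simp [h]
      · rw [pow_succ, pow_mul, ← pow_mul t₀ b 2, mul_comm b 2, ← ht₀o, pow_orderOf_eq_one, one_pow,
          one_mul, ← he₀] at hgt
        rcases hgt with h | h <;> simp [h]
    · rintro (rfl | rfl | rfl | rfl)
      · exact ⟨one_mem _, one_pow _⟩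
      · exact ⟨hJT, by rw [pow_two, hJJ]⟩
      · exact ⟨he₀T, by rw [pow_two, he₀2]⟩
      · exact ⟨mul_mem hJT he₀T, by
          rw [(hψc _).mul_pow, pow_two, pow_two, hJJ, he₀2, one_mul]⟩
  have hV : Nat.card {g : T // (g : G1 K m) ^ 2 = 1} = 4 := by
    let S : Finset (G1 K m) := {1, invJ, e₀, invJ * e₀}
    have h4 : S.card = 4 := by
      have hJ1 := invJ_ne_one hK (m := m) (K := K)
      have hJe1 : invJ * e₀ ≠ 1 := fun e => he₀J
        (by rw [eq_inv_of_mul_eq_one_right e]; exact inv_eq_of_mul_eq_one_right hJJ)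
      simp [S, Finset.card_insert_of_notMem, hJ1.symm, he₀1.symm, he₀J.symm, hJe1.symm,
        show invJ ≠ invJ * e₀ from fun e => he₀1 (left_eq_mul.1 e),
        show e₀ ≠ invJ * e₀ from fun e => hJ1 (right_eq_mul.1 e)]
    have hS4 : ∀ g : S, (g : G1 K m) = 1 ∨ (g : G1 K m) = invJ ∨ (g : G1 K m) = e₀ ∨
        (g : G1 K m) = invJ * e₀ := fun g => by
      have := g.2
      simpa only [S, Finset.mem_insert, Finset.mem_singleton] using this
    rw [← h4, ← Nat.card_eq_finsetCard]
    exact Nat.card_congr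
      { toFun := fun g => ⟨g.1.1, by simpa [S] using (hfour _).1 ⟨g.1.2, g.2⟩⟩
        invFun := fun g => ⟨⟨g.1, ((hfour _).2 (hS4 g)).1⟩, ((hfour _).2 (hS4 g)).2⟩
        left_inv := fun g => rfl
        right_inv := fun g => rfl }
  have hVd : ∀ v w, v ∈ T → v ^ 2 = 1 → w ∈ T → w ^ 2 = 1 → (v * w) ∈ T ∧ (v * w) ^ 2 = 1 :=
    fun v w hv hv2 hw hw2 => ⟨mul_mem hv hw, by
      rw [(show Commute v w from hTcomm v hv w hw).mul_pow, hv2, hw2, one_mul]⟩
  -- the centraliser of an element of prime order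
  have hCyP : ∀ y ∈ T, ∀ r : ℕ, r.Prime → r ∣ b → orderOf y = r →
      Subgroup.centralizer {y} = T := by
    intro y hy r hr hrb hyo
    have hy2 := hne2 hr hrb hyo
    set Cy := Subgroup.centralizer {y} with hCy
    have hrq : r ∣ q + 1 := hqb ▸ dvd_mul_of_dvd_right hrb 4
    have hpf := prime_facts (q := q) (by omega) hr
    have h3 : ¬ 3 ∣ Nat.card Cy := not_three_commute hK hr hyo
      (fun h => hpf.2.2.2.2.1 ⟨h, hrq⟩)
      (fun h => hne2 hr hrb hyo (by
        have e := hpf.1 h hrq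
        subst e
        exact orderOf_dvd_iff_pow_eq_one.1 (dvd_of_eq hyo)))
    have hTCy : T ≤ Cy := fun g hg => Subgroup.mem_centralizer_singleton_iff.2 (hTcomm g hg y hy)
    have hmemCy : ∀ c : Cy, (c : G1 K m) * y = y * c := fun c =>
      Subgroup.mem_centralizer_singleton_iff.1 c.2
    let V : Subgroup Cy :=
      { carrier := {g | (g : G1 K m) ∈ T ∧ (g : G1 K m) ^ 2 = 1}
        one_mem' := ⟨one_mem _, one_pow _⟩
        mul_mem' := fun {g h} hg hh => hVd _ _ hg.1 hg.2 hh.1 hh.2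
        inv_mem' := fun {g} hg => ⟨inv_mem hg.1, by rw [Subgroup.coe_inv, inv_pow, hg.2, inv_one]⟩ }
    have hVcard : Nat.card V = 4 := by
      rw [← hV]
      exact Nat.card_congr
        { toFun := fun g => ⟨⟨g.1.1, g.2.1⟩, g.2.2⟩
          invFun := fun g => ⟨⟨g.1.1, hTCy g.1.2⟩, g.1.2, g.2⟩
          left_inv := fun g => rfl
          right_inv := fun g => rfl }
    have hVp : IsPGroup 2 V := fun g => ⟨1, Subtype.ext (Subtype.ext (by
      rw [pow_one]
      exact g.2.2))⟩
    obtain ⟨P, hP⟩ := hVp.exists_le_sylow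
    have hPV : (P : Subgroup Cy) = V := by
      refine le_antisymm (fun g hg => ?_) hP
      obtain ⟨k, hk⟩ := P.2 ⟨g, hg⟩
      have hp : IsPGroup 2 ((P : Subgroup Cy).map Cy.subtype) := P.2.map _
      obtain ⟨S, hS⟩ := hp.exists_le_sylow
      have hS2 := (sylow_two hK S).2
      have hgS : (g : G1 K m) ∈ S := hS ⟨g, hg, rfl⟩
      have hg2 : (g : G1 K m) ^ 2 = 1 := by rw [pow_two]; exact hS2 _ hgS
      let vJ : Cy := ⟨invJ, hTCy hJT⟩
      have hJV : vJ ∈ V := ⟨hJT, by rw [pow_two]; exact hJJ⟩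
      have hJS : (invJ : G1 K m) ∈ S := hS ⟨vJ, hP hJV, rfl⟩
      have hcomm : (g : G1 K m) * (invJ : G1 K m) = (invJ : G1 K m) * (g : G1 K m) := by
        have h1 := hS2 _ (mul_mem hgS hJS)
        rw [← inv_eq_of_mul_eq_one_right h1, mul_inv_rev, inv_eq_of_mul_eq_one_right hJJ,
          inv_eq_of_mul_eq_one_right (hS2 _ hgS)]
      exact ⟨hCv y hy hy2 invJ hJT (by rw [pow_two, hJJ]) (invJ_ne_one hK) g (hmemCy g) hcomm, hg2⟩
    have hN : Subgroup.normalizer ((P : Subgroup Cy) : Set Cy) ≤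
        Subgroup.centralizer ((P : Subgroup Cy) : Set Cy) := by
      rw [hPV]
      intro g hg
      have hconj : ∀ z : G1 K m, z ∈ T → z ^ 2 = 1 →
          (g : G1 K m) * z * (g : G1 K m)⁻¹ ∈ T ∧ ((g : G1 K m) * z * (g : G1 K m)⁻¹) ^ 2 = 1 :=
        fun z hz hz2 => (Subgroup.mem_normalizer_iff.1 hg ⟨z, hTCy hz⟩).1 ⟨hz, hz2⟩
      suffices hfix : ∃ v, v ∈ T ∧ v ^ 2 = 1 ∧ v ≠ 1 ∧ (g : G1 K m) * v * (g : G1 K m)⁻¹ = v by
        obtain ⟨v, hv, hv2, hv1, e⟩ := hfix
        have hgT := hCv y hy hy2 v hv hv2 hv1 g (hmemCy g) (mul_inv_eq_iff_eq_mul.1 e)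
        intro z hz
        exact Subtype.ext (hTcomm z hz.1 g hgT)
      by_contra hfix
      push Not at hfix
      let c : G1 K m → G1 K m := fun z => (g : G1 K m) * z * (g : G1 K m)⁻¹
      have hc1 : ∀ z, z ≠ 1 → c z ≠ 1 := fun z hz e => hz (conj_eq_one_iff.1 e)
      have hci : Function.Injective c := fun z w e => mul_left_cancel (mul_right_cancel e)
      set v₁ := c invJ with hv₁
      set v₂ := c v₁ with hv₂
      have m1 := hconj invJ hJT (by rw [pow_two, hJJ])
      have m2 := hconj v₁ m1.1 m1.2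
      have m3 := hconj v₂ m2.1 m2.2
      have hJ1 := invJ_ne_one hK (m := m) (K := K)
      have n1 : v₁ ≠ invJ := hfix invJ hJT (by rw [pow_two, hJJ]) hJ1
      have n11 : v₁ ≠ 1 := hc1 _ hJ1
      have n21 : v₂ ≠ 1 := hc1 _ n11
      have n2 : v₂ ≠ v₁ := hfix v₁ m1.1 m1.2 n11
      have n3 : c v₂ ≠ v₂ := hfix v₂ m2.1 m2.2 n21
      have n2' : v₂ ≠ invJ := by
        intro e
        -- the involution left over is fixed
        have hw : ∃ w, w ∈ T ∧ w ^ 2 = 1 ∧ w ≠ 1 ∧ w = invJ * v₁ :=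
          ⟨_, (hVd _ _ hJT (by rw [pow_two, hJJ]) m1.1 m1.2).1,
            (hVd _ _ hJT (by rw [pow_two, hJJ]) m1.1 m1.2).2,
            fun e' => n1 ((eq_inv_of_mul_eq_one_right e').trans (inv_eq_of_mul_eq_one_right hJJ)), rfl⟩
        obtain ⟨w, w1, w2, w3, rfl⟩ := hw
        refine hfix _ w1 w2 w3 ?_
        have : c (invJ * v₁) = c invJ * c v₁ := by simp [c, mul_assoc]
        rw [show (g : G1 K m) * (invJ * v₁) * (g : G1 K m)⁻¹ = c (invJ * v₁) from rfl, this,
          ← hv₁, ← hv₂, e]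
        exact hTcomm _ m1.1 _ hJT
      have hv₂' : v₂ = invJ * v₁ := by
        have a1 := (hfour v₁).1 m1
        have a2 := (hfour v₂).1 m2
        rcases a1 with a1 | a1 | a1 | a1
        · exact absurd a1 n11
        · exact absurd a1 n1
        · rcases a2 with a2 | a2 | a2 | a2
          · exact absurd a2 n21
          · exact absurd a2 n2'
          · exact absurd (a2.trans a1.symm) n2
          · rw [a2, a1]
        · rcases a2 with a2 | a2 | a2 | a2
          · exact absurd a2 n21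
          · exact absurd a2 n2'
          · rw [a2, a1, ← mul_assoc, hJJ, one_mul]
          · exact absurd (a2.trans a1.symm) n2
      have hc3 : c v₂ = invJ := by
        have : c v₂ = v₁ * v₂ := by
          conv_lhs => rw [hv₂']
          have hm : ∀ a b, c (a * b) = c a * c b := fun a b => by simp [c, mul_assoc]
          rw [hm, ← hv₁, ← hv₂]
        rw [this, hv₂', ← mul_assoc, hTcomm _ m1.1 _ hJT, mul_assoc, ← pow_two, m1.2, mul_one]
      -- an element of order divisible by three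
      have hk : ∀ k : ℕ, ((g : G1 K m) ^ k) * invJ * ((g : G1 K m) ^ k)⁻¹ = c^[k] invJ := by
        intro k
        induction k with
        | zero => simp
        | succ k ih =>
          rw [Function.iterate_succ', Function.comp_apply, ← ih, pow_succ']
          simp [c, mul_assoc]
      have hcyc : ∀ k : ℕ, c^[3 * k] invJ = invJ := by
        intro k
        induction k with
        | zero => simp
        | succ k ih =>
          rw [mul_add, Function.iterate_add_apply]
          show c^[3 * k] (c (c (c invJ))) = invJ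
          rw [← hv₁, ← hv₂, hc3, ih]
      have hord := hk (orderOf (g : G1 K m))
      rw [pow_orderOf_eq_one, one_mul, inv_one, mul_one] at hord
      have hmod : orderOf (g : G1 K m) % 3 = 1 ∨ orderOf (g : G1 K m) % 3 = 2 := by
        have : ¬ 3 ∣ orderOf (g : G1 K m) := fun h => h3 (by
          rw [Subgroup.orderOf_coe] at h
          exact h.trans (orderOf_dvd_natCard g))
        omega
      rcases hmod with h | h
      · rw [← Nat.div_add_mod (orderOf (g : G1 K m)) 3, h, add_comm, Function.iterate_add_apply,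
          hcyc] at hord
        exact n1 hord.symm
      · rw [← Nat.div_add_mod (orderOf (g : G1 K m)) 3, h, add_comm, Function.iterate_add_apply,
          hcyc] at hord
        exact n2' hord.symm
    set M := (MonoidHom.transferSylow P hN).ker with hMdef
    have hM := MonoidHom.ker_transferSylow_isComplement' P hN
    have hodd : Odd (Nat.card M) := by
      refine Nat.not_even_iff_odd.1 fun h => ?_
      exact MonoidHom.not_dvd_card_ker_transferSylow P hN (even_iff_two_dvd.1 h)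
    have hfix : ∀ z ∈ M, ∀ v : Cy, v ∈ V → v ≠ 1 → Commute v z → (z : G1 K m) ∈ T := by
      intro z hz v hv hv1 hc
      exact hCv y hy hy2 v hv.1 hv.2 (fun e => hv1 (Subtype.ext e)) z (hmemCy z)
        (congrArg Subtype.val hc.eq.symm :)
    let vJ : Cy := ⟨invJ, hTCy hJT⟩
    let ve : Cy := ⟨e₀, hTCy he₀T⟩
    have hvJ : vJ ∈ V := ⟨hJT, by rw [pow_two]; exact hJJ⟩
    have hve : ve ∈ V := ⟨he₀T, by rw [pow_two]; exact he₀2⟩
    have hJcomm : ∀ z : Cy, (z : G1 K m) ∈ T → Commute vJ z := fun z hz =>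
      Subtype.ext (hTcomm _ hJT _ hz)
    have hMT : ∀ z ∈ M, (z : G1 K m) ∈ T := by
      intro z hz
      refine hfix z hz vJ hvJ (fun e => invJ_ne_one hK (congrArg Subtype.val e :)) ?_
      refine odd_fixed M hodd (v := vJ) (w := ve) (Subtype.ext hJJ) (Subtype.ext he₀2)
        (Subtype.ext (hTcomm _ hJT _ he₀T)) (fun w hw => (MonoidHom.normal_ker _).conj_mem w hw _)
        (fun w hw => (MonoidHom.normal_ker _).conj_mem w hw _) ?_ ?_ hz
      · intro w hw hc
        exact hJcomm w (hfix w hw ve hve (fun e => he₀1 (congrArg Subtype.val e :)) hc)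
      · intro w hw hc
        refine hJcomm w (hfix w hw (vJ * ve) (mul_mem hvJ hve) (fun e => he₀J ?_) hc)
        have e' : invJ * e₀ = 1 := congrArg Subtype.val e
        rw [eq_inv_of_mul_eq_one_right e']
        exact inv_eq_of_mul_eq_one_right hJJ
    refine le_antisymm (fun c hc => ?_) hTCy
    obtain ⟨⟨z, w⟩, hzw⟩ := hM.2 ⟨c, hc⟩
    have e : c = (z : Cy).1 * (w : Cy).1 := (congrArg Subtype.val hzw).symm
    rw [e]
    exact mul_mem (hMT z z.2) ((hPV ▸ w.2 : (w : Cy) ∈ V)).1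
  have hCy : ∀ y ∈ T, y ^ 2 ≠ 1 → Subgroup.centralizer {y} = T := by
    intro y hy hy2
    obtain ⟨r, k, hr, hrb, hk⟩ := hprimeT y hy hy2
    refine le_antisymm (fun c hc => ?_)
      fun g hg => Subgroup.mem_centralizer_singleton_iff.2 (hTcomm g hg y hy)
    rw [← hCyP (y ^ k) (pow_mem hy k) r hr hrb hk, Subgroup.mem_centralizer_singleton_iff]
    exact ((show Commute c y from Subgroup.mem_centralizer_singleton_iff.1 hc).pow_right k).eq
  have hTI : ∀ g, ∀ y ∈ T, y ^ 2 ≠ 1 → g * y * g⁻¹ ∈ T →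
      g ∈ Subgroup.normalizer (T : Set (G1 K m)) := by
    intro g y hy hy2 hgy
    have e1 := hCy y hy hy2
    have e2 := hCy _ hgy (fun e => hy2 (by rwa [conj_pow, conj_eq_one_iff] at e))
    refine Subgroup.mem_normalizer_iff.2 fun z => ?_
    conv_lhs => rw [← e1]
    conv_rhs => rw [← e2]
    rw [Subgroup.mem_centralizer_singleton_iff, Subgroup.mem_centralizer_singleton_iff]
    constructor
    · intro h
      calc g * z * g⁻¹ * (g * y * g⁻¹) = g * (z * y) * g⁻¹ := by group
        _ = g * (y * z) * g⁻¹ := by rw [h]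
        _ = _ := by group
    · intro h
      calc z * y = g⁻¹ * (g * z * g⁻¹ * (g * y * g⁻¹)) * g := by group
        _ = g⁻¹ * (g * y * g⁻¹ * (g * z * g⁻¹)) * g := by rw [h]
        _ = _ := by group
  refine ⟨T, a, ⟨hcardT, hJT, hTcomm⟩, ⟨_, pow_mem ht₀ 2, Or.inl rfl⟩, hao, hsqA, hV, hCy, hTI,
    ?_, ?_⟩
  · -- the normaliser
    set NT := Subgroup.normalizer (T : Set (G1 K m)) with hNT
    have hNC : ∀ c, c ∈ NT ⊓ C ↔
        ∃ h ∈ Subgroup.normalizer (Classical.Dickson2.tor x₀ : Set PG), c = ψ h ∨ c = invJ * ψ h := by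
      intro c
      constructor
      · rintro ⟨hcN, hcC⟩
        obtain ⟨h, hh⟩ := hψs c hcC
        have ha0 : a ∈ T := ⟨_, pow_mem ht₀ 2, Or.inl rfl⟩
        refine ⟨h, ?_, hh⟩
        have hψh : ψ h * a * (ψ h)⁻¹ ∈ T := by
          have := (Subgroup.mem_normalizer_iff.1 hcN a).1 ha0
          rcases hh with rfl | rfl
          · exact this
          · have e : invJ * ψ h * a * (invJ * ψ h)⁻¹ = ψ h * a * (ψ h)⁻¹ := by
              rw [ha, mul_inv_rev, mul_assoc invJ (ψ h), ← map_mul, ← map_inv, ← mul_assoc,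
                mul_assoc invJ (ψ (h * t₀ ^ 2)), ← map_mul, (hψc _).eq, mul_inv_cancel_right, map_mul]
            rwa [e] at this
        rw [ha, ← map_inv, ← map_mul, ← map_mul] at hψh
        obtain ⟨t, ht, e | e⟩ := hψh
        · have hmap := Classical.Dickson2.tor_conj h (t₀ ^ 2)
          have ht2 : t₀ ^ 2 ≠ 1 := fun e' => by
            have := orderOf_dvd_of_pow_eq_one e'
            rw [ht₀o] at this
            have := Nat.le_of_dvd two_pos this
            omega
          have e' := hψi e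
          rw [e', Classical.Dickson2.tor_eq hx₀1 (pow_mem ht₀ 2) ht2,
            Classical.Dickson2.tor_eq hx₀1 ht (fun e1 => ht2 (conj_eq_one_iff.1 (e'.trans e1)))] at hmap
          refine Subgroup.mem_normalizer_iff.2 fun z => ?_
          constructor
          · intro hz; rw [hmap]; exact ⟨z, hz, rfl⟩
          · intro hz
            rw [hmap] at hz
            obtain ⟨w, hw, e''⟩ := hz
            rwa [show z = w from ((MulAut.conj h).injective e'').symm]
        · exact absurd (mul_inv_eq_iff_eq_mul.2 e) (by rw [← map_inv, ← map_mul]; exact hψne _)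
      · rintro ⟨h, hh, hc⟩
        have hcC : c ∈ C := by
          rw [hC, Subgroup.mem_centralizer_singleton_iff]
          rcases hc with rfl | rfl
          · exact (hψc h).eq.symm
          · exact ((Commute.refl invJ).mul_right (hψc h)).eq.symm
        refine ⟨hTI c a ⟨_, pow_mem ht₀ 2, Or.inl rfl⟩ (fun e => ?_) ?_, hcC⟩
        · have hd : orderOf a ∣ 2 := orderOf_dvd_of_pow_eq_one e
          rw [hao] at hd
          have := Nat.le_of_dvd two_pos hd
          omega
        · have hm' : h * t₀ ^ 2 * h⁻¹ ∈ Classical.Dickson2.tor x₀ :=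
            (Subgroup.mem_normalizer_iff.1 hh _).1 (pow_mem ht₀ 2)
          have hin : ψ (h * t₀ ^ 2 * h⁻¹) ∈ T := ⟨_, hm', Or.inl rfl⟩
          rw [map_mul, map_mul, map_inv, ← ha] at hin
          rcases hc with rfl | rfl
          · exact hin
          · have e : invJ * ψ h * a * (invJ * ψ h)⁻¹ = ψ h * a * (ψ h)⁻¹ := by
              rw [ha, mul_inv_rev, mul_assoc invJ (ψ h), ← map_mul, ← map_inv, ← mul_assoc,
                mul_assoc invJ (ψ (h * t₀ ^ 2)), ← map_mul, (hψc _).eq, mul_inv_cancel_right, map_mul]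
            rwa [e]
    have hcardNC : Nat.card (NT ⊓ C : Subgroup (G1 K m)) = 8 * b := by
      let f : (Subgroup.normalizer (Classical.Dickson2.tor x₀ : Set PG)) ⊕
          (Subgroup.normalizer (Classical.Dickson2.tor x₀ : Set PG)) → (NT ⊓ C : Subgroup (G1 K m)) :=
        fun s => s.elim (fun h : ↥(Subgroup.normalizer (Classical.Dickson2.tor x₀ : Set PG)) =>
            ⟨ψ (h : PG), (hNC _).2 ⟨h, h.2, Or.inl rfl⟩⟩)
          (fun h : ↥(Subgroup.normalizer (Classical.Dickson2.tor x₀ : Set PG)) =>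
            ⟨invJ * ψ (h : PG), (hNC _).2 ⟨h, h.2, Or.inr rfl⟩⟩)
      have hf : Function.Bijective f := by
        refine ⟨?_, fun g => ?_⟩
        · rintro (s | s) (t | t) e <;> have e' := congrArg Subtype.val e <;>
            simp only [f, Sum.elim_inl, Sum.elim_inr] at e'
          · rw [Subtype.ext (hψi e')]
          · exact absurd (mul_inv_eq_iff_eq_mul.2 e') (by rw [← map_inv, ← map_mul]; exact hψne _)
          · exact absurd (mul_inv_eq_iff_eq_mul.2 e'.symm) (by rw [← map_inv, ← map_mul]; exact hψne _)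
          · rw [Subtype.ext (hψi (mul_left_cancel e'))]
        · obtain ⟨t, ht, e | e⟩ := (hNC _).1 g.2
          · exact ⟨Sum.inl ⟨t, ht⟩, Subtype.ext e.symm⟩
          · exact ⟨Sum.inr ⟨t, ht⟩, Subtype.ext e.symm⟩
      rw [← Nat.card_congr (Equiv.ofBijective f hf), Nat.card_sum,
        Classical.Dickson2.card_normalizer_semis 3 hx₀, hx₀b]
      omega
    let V' := {v : {g : T // (g : G1 K m) ^ 2 = 1} // (v.1 : G1 K m) ≠ 1}
    have hV' : Nat.card V' = 3 := by
      have h1 : Fintype.card {g : T // (g : G1 K m) ^ 2 = 1} = 4 := by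
        rw [← Nat.card_eq_fintype_card]; exact hV
      rw [Nat.card_eq_fintype_card, Fintype.card_subtype_compl, h1,
        Fintype.card_subtype]
      have : (Finset.univ.filter fun v : {g : T // (g : G1 K m) ^ 2 = 1} => (v.1 : G1 K m) = 1) =
          {⟨1, one_pow _⟩} := by
        ext v
        simp only [Finset.mem_filter, Finset.mem_univ, true_and, Finset.mem_singleton]
        exact ⟨fun h => Subtype.ext (Subtype.ext h), fun h => by rw [h]; rfl⟩
      rw [this, Finset.card_singleton]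
    have hrep : ∀ v : V', ∃ n ∈ NT, n * invJ * n⁻¹ = (v.1.1 : G1 K m) := by
      intro v
      obtain ⟨g, hg, hgT⟩ := hinvol _ v.1.1.2 v.1.2 v.2
      refine ⟨g⁻¹, inv_mem (Subgroup.mem_normalizer_iff.2 hgT), ?_⟩
      rw [inv_inv, ← hg]
      group
    choose n hnN hn using hrep
    let f : V' × (NT ⊓ C : Subgroup (G1 K m)) → NT := fun p =>
      ⟨n p.1 * p.2.1, mul_mem (hnN _) p.2.2.1⟩
    have hf : Function.Bijective f := by
      constructor
      · rintro ⟨v, c⟩ ⟨v', c'⟩ e
        have e' : n v * c = n v' * c' := congrArg Subtype.val e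
        have hcc : ∀ d : (NT ⊓ C : Subgroup (G1 K m)), (d : G1 K m) * invJ * (d : G1 K m)⁻¹ = invJ :=
          fun d => mul_inv_eq_iff_eq_mul.2 (Subgroup.mem_centralizer_singleton_iff.1 d.2.2)
        have hv : v = v' := by
          have h := congrArg (fun z => z * invJ * z⁻¹) e'
          simp only [mul_inv_rev] at h
          rw [show n v * (c : G1 K m) * invJ * ((c : G1 K m)⁻¹ * (n v)⁻¹) =
            n v * ((c : G1 K m) * invJ * (c : G1 K m)⁻¹) * (n v)⁻¹ by group,
            show n v' * (c' : G1 K m) * invJ * ((c' : G1 K m)⁻¹ * (n v')⁻¹) =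
            n v' * ((c' : G1 K m) * invJ * (c' : G1 K m)⁻¹) * (n v')⁻¹ by group, hcc, hcc, hn, hn] at h
          exact Subtype.ext (Subtype.ext (Subtype.ext h))
        subst hv
        rw [Subtype.ext (mul_left_cancel e')]
      · rintro ⟨g, hg⟩
        have hgJ : g * invJ * g⁻¹ ∈ T := (Subgroup.mem_normalizer_iff.1 hg _).1 hJT
        let v : V' := ⟨⟨⟨_, hgJ⟩, by rw [conj_pow, pow_two, hJJ]; group⟩,
          fun e => invJ_ne_one hK (conj_eq_one_iff.1 e)⟩
        have hcg : (n v)⁻¹ * g ∈ NT ⊓ C := by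
          refine ⟨NT.mul_mem (NT.inv_mem (hnN v)) hg, ?_⟩
          show (n v)⁻¹ * g ∈ C
          rw [hC, Subgroup.mem_centralizer_singleton_iff]
          calc (n v)⁻¹ * g * invJ = (n v)⁻¹ * (g * invJ * g⁻¹) * g := by group
            _ = (n v)⁻¹ * (n v * invJ * (n v)⁻¹) * g := by rw [hn v]
            _ = invJ * ((n v)⁻¹ * g) := by group
        exact ⟨(v, ⟨(n v)⁻¹ * g, hcg⟩), Subtype.ext (by
          show n v * ((n v)⁻¹ * g) = g
          rw [mul_inv_cancel_left])⟩
    rw [← Nat.card_congr (Equiv.ofBijective f hf), Nat.card_prod, hcardNC, hV']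
    omega
  · intro y r hr hrb hry
    haveI : Fact r.Prime := ⟨hr⟩
    obtain ⟨k, hk⟩ := exists_pow_orderOf hr hry
    have hr2 : r ≠ 2 := fun e => by
      subst e
      exact (Nat.not_even_iff_odd.2 hbo) (even_iff_two_dvd.2 hrb)
    have hrq : r ∣ q + 1 := hqb ▸ dvd_mul_of_dvd_right hrb 4
    have hpf := prime_facts (q := q) (by omega) hr
    have hr3 : r ≠ 3 := fun e => hpf.2.2.2.2.1 ⟨e ▸ dvd_pow_self 3 (by omega), hrq⟩
    have hfacG : (Nat.card T).factorization r = (Nat.card (G1 K m)).factorization r := by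
      rw [hcardT, card_G1 hK, cube_add_one, ← hq,
        Nat.factorization_mul (Nat.mul_ne_zero (by positivity) (by omega))
          (Nat.mul_ne_zero (by omega) (by omega)),
        Nat.factorization_mul (by positivity) (by omega), Nat.factorization_mul (by omega) (by omega),
        Finsupp.add_apply, Finsupp.add_apply, Finsupp.add_apply,
        Nat.factorization_eq_zero_of_not_dvd (n := q ^ 3)
          (fun h => hpf.2.2.2.2.1 ⟨hr.dvd_of_dvd_pow h, hrq⟩),
        Nat.factorization_eq_zero_of_not_dvd (n := q - 1) (fun h => hr2 (hpf.1 h hrq)),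
        Nat.factorization_eq_zero_of_not_dvd (n := q ^ 2 - q + 1) (fun h => hr3 (hpf.2.1 hrq h)),
        zero_add, zero_add, add_zero]
    obtain ⟨g, hg⟩ := exists_conj_mem_of_factorization (r := r) (n := 1) T hfacG (x := y ^ k)
      (by rw [pow_one]; exact orderOf_dvd_iff_pow_eq_one.1 (dvd_of_eq hk))
    have ho : orderOf (g * y ^ k * g⁻¹) = r := by
      rw [← MulAut.conj_apply, MulEquiv.orderOf_eq, hk]
    have hC2 := hCy _ hg (hne2 hr hrb ho)
    refine ⟨g, ?_, fun e => hne2 hr hrb ho ?_⟩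
    · rw [← hC2, Subgroup.mem_centralizer_singleton_iff, ← conj_pow]
      exact (Commute.self_pow _ k).eq
    · rw [← conj_pow, ← pow_mul, mul_comm, pow_mul, e, one_pow]

end Ree

end Cfsg.Agent.Chev
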