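import Mathlib

/-!
An element of prime order `r` dividing `q³ + 1`, but not `q² - 1`, in a group of linear maps of a
seven-dimensional space over the field with `q` elements.
-/

set_option autoImplicit false
set_option maxHeartbeats 1000000

namespace Cfsg.Agent.Chev.Ree

open Polynomial

theorem six_dvd_of_dvd {q r d : ℕ} (hr : r.Prime) (h6 : r ∣ q ^ 3 + 1) (h1 : ¬ r ∣ q ^ 2 - 1)
    (hq : 1 ≤ q) (h2 : r ≠ 2) (hd : r ∣ q ^ d - 1) : 6 ∣ d := by
  haveI : Fact r.Prime := ⟨hr⟩
  have hsub : ∀ n, r ∣ q ^ n - 1 ↔ (q : ZMod r) ^ n = 1 := fun n => by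
    rw [← ZMod.natCast_eq_zero_iff, Nat.cast_sub (Nat.one_le_pow _ _ hq), Nat.cast_pow, Nat.cast_one,
      sub_eq_zero]
  have e3 : (q : ZMod r) ^ 3 = -1 := by
    have := (ZMod.natCast_eq_zero_iff (q ^ 3 + 1) r).2 h6
    push_cast at this
    exact eq_neg_of_add_eq_zero_left this
  have hne : (-1 : ZMod r) ≠ 1 := by
    intro e
    have e2 : ((2 : ℕ) : ZMod r) = 0 := by
      push_cast
      linear_combination -e
    exact h2 ((Nat.prime_dvd_prime_iff_eq hr Nat.prime_two).1 ((ZMod.natCast_eq_zero_iff _ _).1 e2))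
  have h26 : orderOf (q : ZMod r) ∣ 6 := orderOf_dvd_of_pow_eq_one (by
    rw [show 6 = 3 * 2 from rfl, pow_mul, e3, neg_one_sq])
  have hdd : orderOf (q : ZMod r) ∣ d := orderOf_dvd_of_pow_eq_one ((hsub d).1 hd)
  have key : ∀ n, orderOf (q : ZMod r) = n → (q : ZMod r) ^ n = 1 := fun n e =>
    e ▸ pow_orderOf_eq_one _
  have n1 : orderOf (q : ZMod r) ≠ 1 := fun e => h1 ((hsub 2).2 (by
    rw [pow_two, ← pow_one (q : ZMod r), key _ e, one_mul]))
  have n2 : orderOf (q : ZMod r) ≠ 2 := fun e => h1 ((hsub 2).2 (key _ e))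
  have n3 : orderOf (q : ZMod r) ≠ 3 := fun e => hne (by rw [← e3, key _ e])
  have := Nat.le_of_dvd (by norm_num) h26
  interval_cases ho : orderOf (q : ZMod r) <;> omega

section

variable {K : Type*} [Field K] [Fintype K] {V : Type*} [AddCommGroup V] [Module K V]
  [FiniteDimensional K V]

/-- The evaluation at a vector on the field of a factor of the minimal polynomial. -/
noncomputable def evAt {P : K[X]} (hP : P.Monic) (f : Module.End K V) (v : V) :
    AdjoinRoot P →ₗ[K] V :=
  (LinearMap.applyₗ v).comp ((aeval f).toLinearMap.comp (AdjoinRoot.modByMonicHom hP))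

omit [Fintype K] [FiniteDimensional K V] in
theorem evAt_mk {P : K[X]} (hP : P.Monic) (f : Module.End K V) {v : V}
    (hv : aeval f P v = 0) (Q : K[X]) : evAt hP f v (AdjoinRoot.mk P Q) = aeval f Q v := by
  show aeval f (AdjoinRoot.modByMonicHom hP (AdjoinRoot.mk P Q)) v = _
  rw [AdjoinRoot.modByMonicHom_mk]
  conv_rhs => rw [← modByMonic_add_div Q P, mul_comm P]
  rw [map_add, map_mul, LinearMap.add_apply, Module.End.mul_apply, hv, map_zero, add_zero]

omit [Fintype K] [FiniteDimensional K V] in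
theorem coprime_apply_eq_zero {P Q : K[X]} (f : Module.End K V) (h : IsCoprime P Q) {v : V}
    (hP : aeval f P v = 0) (hQ : aeval f Q v = 0) : v = 0 := by
  obtain ⟨a, b, e⟩ := h
  have := congrArg (fun R => aeval f R v) e
  simp only [map_add, map_mul, map_one, LinearMap.add_apply, Module.End.mul_apply, hP, hQ, map_zero,
    Module.End.one_apply, zero_add] at this
  exact this.symm

omit [Fintype K] [FiniteDimensional K V] in
theorem evAt_injective {P : K[X]} (hP : P.Monic) (hirr : Irreducible P) (f : Module.End K V) {v : V}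
    (hv : aeval f P v = 0) (hv0 : v ≠ 0) : Function.Injective (evAt hP f v) := by
  refine (injective_iff_map_eq_zero (evAt hP f v)).2 fun a ha => ?_
  obtain ⟨Q, rfl⟩ := AdjoinRoot.mk_surjective a
  rw [evAt_mk hP f hv] at ha
  by_contra hQ
  rw [AdjoinRoot.mk_eq_zero] at hQ
  exact hv0 (coprime_apply_eq_zero f ((hirr.coprime_iff_not_dvd).2 hQ) hv ha)

omit [FiniteDimensional K V] in
theorem semiconj_aeval {g f f' : Module.End K V} (h : SemiconjBy g f f') (Q : K[X]) :
    SemiconjBy g (aeval f Q) (aeval f' Q) := by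
  induction Q using Polynomial.induction_on' with
  | add p q hp hq => rw [map_add, map_add]; exact hp.add_right hq
  | monomial n a =>
    rw [aeval_monomial, aeval_monomial]
    exact (SemiconjBy.mul_right (Algebra.commutes a g).symm (h.pow_right n) :)

/-- The facts about the linear map. -/
theorem exists_seven {r : ℕ} (hr : r.Prime) (h2 : r ≠ 2) (h6 : r ∣ Fintype.card K ^ 3 + 1)
    (h1 : ¬ r ∣ Fintype.card K ^ 2 - 1) (hV : Module.finrank K V = 7) (f : Module.End K V)
    (hf : f ^ r = 1) (hf1 : f ≠ 1) :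
    ∃ P : K[X], ∃ hP : P.Monic, Irreducible P ∧ P.natDegree = 6 ∧ P ∣ X ^ r - 1 ∧
      Module.finrank K (LinearMap.ker (aeval f P)) = 6 ∧
      (∀ v, aeval f P v = 0 → v ≠ 0 →
        ∀ w, aeval f P w = 0 → ∃ a, evAt hP f v a = w) ∧
      IsCompl (LinearMap.ker (aeval f P)) (LinearMap.range (aeval f P)) ∧
      Module.finrank K (LinearMap.range (aeval f P)) = 1 := by
  classical
  haveI : Fact r.Prime := ⟨hr⟩
  haveI : Nontrivial V := Module.nontrivial_of_finrank_pos (R := K) (by omega)
  set q := Fintype.card K with hq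
  have hq1 : 1 < q := Fintype.one_lt_card
  have hrK : (r : K) ≠ 0 := by
    intro e
    haveI := ringChar.charP K
    obtain ⟨n, hp, hn⟩ := FiniteField.card K (ringChar K)
    have hdvd := (CharP.cast_eq_zero_iff K (ringChar K) r).1 e
    have hpr : ringChar K = r := (Nat.prime_dvd_prime_iff_eq hp hr).1 hdvd
    have hrq : r ∣ q := by rw [hq, hn, hpr]; exact dvd_pow_self r n.pos.ne'
    exact hr.one_lt.ne' (Nat.dvd_one.1
      ((Nat.dvd_add_right (hrq.trans (dvd_pow_self q three_ne_zero))).1 h6))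
  have hsep : (X ^ r - 1 : K[X]).Separable := (X_pow_sub_one_separable_iff).2 hrK
  set μ := minpoly K f with hμ
  have hμr : μ ∣ X ^ r - 1 := minpoly.dvd K f (by rw [map_sub, map_pow, aeval_X, map_one, hf, sub_self])
  have hμ0 : μ ≠ 0 := minpoly.ne_zero (Algebra.IsIntegral.isIntegral f)
  have hμsq : Squarefree μ := (hsep.of_dvd hμr).squarefree
  have hμdeg : μ.natDegree ≤ 7 := by
    rw [← hV, ← LinearMap.charpoly_natDegree f]
    exact natDegree_le_of_dvd (LinearMap.minpoly_dvd_charpoly f) (LinearMap.charpoly_monic f).ne_zero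
  have hμunit : ¬ IsUnit μ := minpoly.not_isUnit K f
  obtain ⟨P, hPm, hPi, hPμ, hP1⟩ :
      ∃ P : K[X], P.Monic ∧ Irreducible P ∧ P ∣ μ ∧ ¬ P ∣ X - 1 := by
    obtain ⟨ν, hν, hνμ, hνX⟩ : ∃ ν : K[X], ¬ IsUnit ν ∧ ν ∣ μ ∧ ¬ X - 1 ∣ ν := by
      by_cases hX : X - 1 ∣ μ
      · obtain ⟨ν, hν⟩ := hX
        refine ⟨ν, fun hu => ?_, ⟨X - 1, by rw [hν, mul_comm]⟩, fun hd => ?_⟩
        · obtain ⟨u, rfl⟩ := hu
          refine hf1 (sub_eq_zero.1 ?_)
          have h0 : aeval f μ = 0 := minpoly.aeval K f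
          have e : (X - 1 : K[X]) = μ * ↑u⁻¹ := by
            rw [hν, mul_assoc, ← Units.val_mul, mul_inv_cancel, Units.val_one, mul_one]
          have := congrArg (aeval f) e
          rwa [map_mul, h0, zero_mul, map_sub, aeval_X, map_one] at this
        · exact (not_isUnit_X_sub_C (1 : K)) (by
            rw [map_one]
            exact hμsq _ (hν ▸ mul_dvd_mul_left (X - 1) hd))
      · exact ⟨μ, hμunit, dvd_rfl, hX⟩
    obtain ⟨P, hP, hPν⟩ := WfDvdMonoid.exists_irreducible_factor hν
      (fun e => hμ0 (zero_dvd_iff.1 (e ▸ hνμ)))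
    refine ⟨normalize P, Polynomial.monic_normalize hP.ne_zero,
      (associated_normalize P).irreducible hP, (normalize_dvd_iff.2 hPν).trans hνμ, fun hd => ?_⟩
    have hXirr : Irreducible (X - 1 : K[X]) := by simpa using irreducible_X_sub_C (1 : K)
    exact hνX ((((associated_normalize P).irreducible hP).associated_of_dvd hXirr hd).symm.dvd.trans
      (normalize_dvd_iff.2 hPν))
  haveI : Fact (Irreducible P) := ⟨hPi⟩
  have hPr : P ∣ X ^ r - 1 := hPμ.trans hμr
  have hdeg : P.natDegree = 6 := by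
    have hle : P.natDegree ≤ 7 := (natDegree_le_of_dvd hPμ hμ0).trans hμdeg
    have hpos : 0 < P.natDegree := hPi.natDegree_pos
    haveI : Module.Finite K (AdjoinRoot P) := hPm.finite_adjoinRoot
    haveI : Finite (AdjoinRoot P) := Module.finite_of_finite K
    haveI : Fintype (AdjoinRoot P) := Fintype.ofFinite _
    have hcard : Fintype.card (AdjoinRoot P) = q ^ P.natDegree := by
      rw [Module.card_eq_pow_finrank (K := K) (V := AdjoinRoot P), ← hq,
        (AdjoinRoot.powerBasis hPi.ne_zero).finrank, AdjoinRoot.powerBasis_dim]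
    set z := AdjoinRoot.root P with hz
    have hzr : z ^ r = 1 := by
      have : AdjoinRoot.mk P (X ^ r - 1) = 0 := AdjoinRoot.mk_eq_zero.2 hPr
      rwa [map_sub, map_pow, AdjoinRoot.mk_X, map_one, sub_eq_zero] at this
    have hz1 : z ≠ 1 := fun e => hP1 (AdjoinRoot.mk_eq_zero.1 (by
      rw [map_sub, AdjoinRoot.mk_X, map_one, ← hz, e, sub_self]))
    have hz0 : z ≠ 0 := fun e => by rw [e, zero_pow hr.ne_zero] at hzr; exact zero_ne_one hzr
    have hord : orderOf z = r := orderOf_eq_prime hzr hz1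
    have hd : r ∣ q ^ P.natDegree - 1 := by
      rw [← hord, ← hcard]
      exact orderOf_dvd_of_pow_eq_one (FiniteField.pow_card_sub_one_eq_one z hz0)
    obtain ⟨j, hj⟩ := six_dvd_of_dvd hr h6 h1 hq1.le h2 hd
    omega
  obtain ⟨Q, hQ⟩ := hPμ
  have hPQ : IsCoprime P Q := (hPi.coprime_iff_not_dvd).2 fun hd =>
    hPi.not_isUnit (hμsq P (hQ ▸ mul_dvd_mul_left P hd))
  set T := aeval f P with hT
  have hker : LinearMap.ker T ≠ ⊥ := by
    intro e
    have hQ0 : aeval f Q = 0 := by
      refine LinearMap.ext fun v => ?_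
      have : T (aeval f Q v) = 0 := by
        rw [hT, ← Module.End.mul_apply, ← map_mul, ← hQ, hμ, minpoly.aeval, LinearMap.zero_apply]
      exact (LinearMap.ker_eq_bot'.1 e) _ this
    have hle := natDegree_le_of_dvd (minpoly.dvd K f hQ0) (right_ne_zero_of_mul (hQ ▸ hμ0))
    rw [← hμ, hQ, natDegree_mul hPi.ne_zero (right_ne_zero_of_mul (hQ ▸ hμ0)), hdeg] at hle
    omega
  have hfin : ∀ v, T v = 0 → v ≠ 0 → Module.finrank K (LinearMap.range (evAt hPm f v)) = 6 := by
    intro v hv hv0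
    rw [LinearMap.finrank_range_of_inj (evAt_injective hPm hPi f hv hv0),
      (AdjoinRoot.powerBasis hPi.ne_zero).finrank, AdjoinRoot.powerBasis_dim, hdeg]
  have hsub : ∀ v, T v = 0 → LinearMap.range (evAt hPm f v) ≤ LinearMap.ker T := by
    rintro v hv _ ⟨a, rfl⟩
    obtain ⟨R, rfl⟩ := AdjoinRoot.mk_surjective a
    rw [LinearMap.mem_ker, evAt_mk hPm f hv, hT, ← Module.End.mul_apply, ← map_mul, mul_comm, map_mul,
      Module.End.mul_apply, ← hT, hv, map_zero]
  have hgen : ∀ v, T v = 0 → v ≠ 0 → LinearMap.range (evAt hPm f v) = LinearMap.ker T := by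
    intro v hv hv0
    refine le_antisymm (hsub v hv) fun w hw => ?_
    by_cases hw0 : w = 0
    · rw [hw0]; exact zero_mem _
    set M := LinearMap.range (evAt hPm f v)
    set M' := LinearMap.range (evAt hPm f w)
    have h7 : Module.finrank K ↥(M ⊔ M') ≤ 7 := hV ▸ Submodule.finrank_le _
    have hs := Submodule.finrank_sup_add_finrank_inf_eq M M'
    rw [hfin v hv hv0, hfin w hw hw0] at hs
    have hne : M ⊓ M' ≠ ⊥ := fun e => by
      rw [e, finrank_bot] at hs
      omega
    obtain ⟨x, hx, hx0⟩ := Submodule.exists_mem_ne_zero_of_ne_bot hne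
    obtain ⟨⟨a, ha⟩, ⟨b, hb⟩⟩ := hx
    obtain ⟨A, rfl⟩ := AdjoinRoot.mk_surjective a
    obtain ⟨B, rfl⟩ := AdjoinRoot.mk_surjective b
    rw [evAt_mk hPm f hv] at ha
    rw [evAt_mk hPm f hw] at hb
    have hB : ¬ P ∣ B := by
      rintro ⟨C, rfl⟩
      apply hx0
      rw [← hb, mul_comm, map_mul, Module.End.mul_apply, ← hT, LinearMap.mem_ker.1 hw, map_zero]
    obtain ⟨s, t, hst⟩ := (hPi.coprime_iff_not_dvd).2 hB
    refine ⟨AdjoinRoot.mk P (t * A), ?_⟩
    rw [evAt_mk hPm f hv, map_mul, Module.End.mul_apply, ha, ← hb, ← Module.End.mul_apply, ← map_mul]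
    conv_rhs => rw [← Module.End.one_apply (R := K) w, ← map_one (aeval (R := K) f), ← hst, map_add,
      map_mul (aeval (R := K) f) s, LinearMap.add_apply, Module.End.mul_apply, ← hT,
      LinearMap.mem_ker.1 hw, map_zero, zero_add]
  have h6ker : Module.finrank K (LinearMap.ker T) = 6 := by
    obtain ⟨v, hv, hv0⟩ := Submodule.exists_mem_ne_zero_of_ne_bot hker
    rw [← hgen v hv hv0, hfin v hv hv0]
  have hrn := LinearMap.finrank_range_add_finrank_ker T
  rw [hV, h6ker] at hrn
  have hdisj : Disjoint (LinearMap.ker T) (LinearMap.range T) := by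
    rw [Submodule.disjoint_def]
    rintro x hx ⟨y, rfl⟩
    refine coprime_apply_eq_zero f hPQ hx ?_
    rw [hT, ← Module.End.mul_apply, ← map_mul, mul_comm Q P, ← hQ, hμ, minpoly.aeval,
      LinearMap.zero_apply]
  refine ⟨P, hPm, hPi, hdeg, hPr, h6ker, fun v hv hv0 w hw => ?_, ?_, by rw [hT] at hrn; omega⟩
  · have : w ∈ LinearMap.range (evAt hPm f v) := by
      rw [hgen v hv hv0]; exact hw
    exact this
  · exact (Submodule.isCompl_iff_disjoint _ _ (by
      have := LinearMap.finrank_range_add_finrank_ker T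
      rw [hT] at this
      omega)).2 hdisj

/-- The centraliser and the normaliser of an element of order `r` in a group acting faithfully. -/
theorem seven_group {G : Type*} [Group G] [Finite G] (hV : Module.finrank K V = 7)
    (ρ : G →* Module.End K V) (hρ : Function.Injective ρ) {r : ℕ} (hr : r.Prime) (h2 : r ≠ 2)
    (h6 : r ∣ Fintype.card K ^ 3 + 1) (h1 : ¬ r ∣ Fintype.card K ^ 2 - 1) {x : G}
    (hx : orderOf x = r)
    (hcop : ∀ g, Commute g x → g ^ (Fintype.card K - 1) = 1 → g = 1) :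
    IsCyclic ↥(Subgroup.centralizer {x}) ∧
      Nat.card ↥(Subgroup.centralizer {x}) ∣ Fintype.card K ^ 6 - 1 ∧
      ∀ g : G, g * x * g⁻¹ ∈ Subgroup.zpowers x → g ^ 6 ∈ Subgroup.centralizer {x} := by
  classical
  haveI : Fact r.Prime := ⟨hr⟩
  set f := ρ x with hfdef
  have hf : f ^ r = 1 := by rw [hfdef, ← map_pow, ← hx, pow_orderOf_eq_one, map_one]
  have hf1 : f ≠ 1 := fun e => by
    have : x = 1 := hρ (e.trans (map_one ρ).symm)
    rw [this, orderOf_one] at hx
    exact hr.one_lt.ne hx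
  obtain ⟨P, hP, hPi, hdeg, hPr, h6ker, hgen, hcompl, hline⟩ := exists_seven hr h2 h6 h1 hV f hf hf1
  haveI : Fact (Irreducible P) := ⟨hPi⟩
  haveI : Module.Finite K (AdjoinRoot P) := hP.finite_adjoinRoot
  haveI : Finite (AdjoinRoot P) := Module.finite_of_finite K
  set T := aeval f P with hT
  obtain ⟨v, hv, hv0⟩ := Submodule.exists_mem_ne_zero_of_ne_bot (p := LinearMap.ker T) (fun e => by
    rw [e, finrank_bot] at h6ker
    omega)
  have hv' : aeval f P v = 0 := hv
  have hcomm : ∀ g : G, Commute g x → ∀ Q : K[X], Commute (ρ g) (aeval f Q) := fun g hg Q =>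
    semiconj_aeval (hg.map ρ) Q
  have hinv : ∀ g : G, Commute g x → ∀ w, T w = 0 → T (ρ g w) = 0 := fun g hg w hw => by
    rw [hT, ← Module.End.mul_apply, ← (hcomm g hg P).eq, Module.End.mul_apply, ← hT, hw, map_zero]
  let C := Subgroup.centralizer {x}
  have hC : ∀ g : C, Commute (g : G) x := fun g => Subgroup.mem_centralizer_singleton_iff.1 g.2
  have hex : ∀ g : C, ∃ a, evAt hP f v a = ρ g v := fun g => hgen v hv' hv0 _ (hinv g (hC g) v hv)
  choose φ hφ using hex
  have hev1 : evAt hP f v 1 = v := by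
    rw [← map_one (AdjoinRoot.mk P), evAt_mk hP f hv', map_one, Module.End.one_apply]
  have hone : φ 1 = 1 := evAt_injective hP hPi f hv' hv0 (by
    rw [hφ, hev1, Subgroup.coe_one, map_one, Module.End.one_apply])
  have hmul : ∀ a b, φ (a * b) = φ a * φ b := by
    intro a b
    refine evAt_injective hP hPi f hv' hv0 ?_
    obtain ⟨A, hA⟩ := AdjoinRoot.mk_surjective (φ a)
    obtain ⟨B, hB⟩ := AdjoinRoot.mk_surjective (φ b)
    have ha := hφ a
    have hb := hφ b
    rw [← hA, evAt_mk hP f hv'] at ha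
    rw [← hB, evAt_mk hP f hv'] at hb
    rw [hφ, ← hA, ← hB, ← map_mul, evAt_mk hP f hv', Subgroup.coe_mul, map_mul,
      Module.End.mul_apply, ← hb, ← Module.End.mul_apply, (hcomm a (hC a) B).eq,
      Module.End.mul_apply, ← ha, ← Module.End.mul_apply, ← map_mul, mul_comm B A]
  let Φ : C →* AdjoinRoot P := { toFun := φ, map_one' := hone, map_mul' := hmul }
  have hΦ : Function.Injective Φ := by
    refine (injective_iff_map_eq_one Φ).2 fun g hg => ?_
    have hgv : ρ g v = v := by rw [← hφ, show φ g = 1 from hg, hev1]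
    have hker : ∀ w, T w = 0 → ρ g w = w := fun w hw => by
      obtain ⟨a, ha⟩ := hgen v hv' hv0 w hw
      obtain ⟨A, rfl⟩ := AdjoinRoot.mk_surjective a
      rw [evAt_mk hP f hv'] at ha
      rw [← ha, ← Module.End.mul_apply, (hcomm g (hC g) A).eq, Module.End.mul_apply, hgv]
    obtain ⟨w, hw0, hw⟩ := finrank_eq_one_iff'.1 hline
    have hstab : ∀ y ∈ LinearMap.range T, ρ g y ∈ LinearMap.range T := by
      rintro _ ⟨y, rfl⟩
      refine ⟨ρ g y, ?_⟩
      rw [hT, ← Module.End.mul_apply, ← (hcomm g (hC g) P).eq, Module.End.mul_apply]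
    obtain ⟨lam, hlam⟩ := hw ⟨ρ g w, hstab _ w.2⟩
    have hlam' : ρ g (w : V) = lam • (w : V) := (congrArg Subtype.val hlam).symm
    have hlam0 : lam ≠ 0 := fun e => by
      rw [e, zero_smul] at hlam'
      have : ρ (g : G)⁻¹ (ρ g (w : V)) = (w : V) := by
        rw [← Module.End.mul_apply, ← map_mul, inv_mul_cancel, map_one, Module.End.one_apply]
      rw [hlam', map_zero] at this
      exact hw0 (Subtype.ext this.symm)
    have hpow : ∀ n : ℕ, (∀ y, T y = 0 → (ρ g ^ n) y = y) ∧
        (ρ g ^ n) (w : V) = lam ^ n • (w : V) := by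
      intro n
      induction n with
      | zero => simp
      | succ n ih =>
        refine ⟨fun y hy => ?_, ?_⟩
        · rw [pow_succ, Module.End.mul_apply, hker y hy, ih.1 y hy]
        · rw [pow_succ, Module.End.mul_apply, hlam', map_smul, ih.2, smul_smul, mul_comm, pow_succ]
    refine Subtype.ext (hcop g (hC g) (hρ (LinearMap.ext fun y => ?_)))
    obtain ⟨y₁, hy₁, y₂, hy₂, rfl⟩ := Submodule.mem_sup.1
      (hcompl.sup_eq_top ▸ Submodule.mem_top : y ∈ LinearMap.ker T ⊔ LinearMap.range T)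
    obtain ⟨c, hc⟩ := hw ⟨y₂, hy₂⟩
    have hc' : y₂ = c • (w : V) := (congrArg Subtype.val hc).symm
    rw [map_pow, map_one, Module.End.one_apply, map_add, (hpow _).1 y₁ hy₁, hc', map_smul,
      (hpow _).2, FiniteField.pow_card_sub_one_eq_one lam hlam0, one_smul]
  haveI : Fintype (AdjoinRoot P) := Fintype.ofFinite _
  have hcard : Fintype.card (AdjoinRoot P) = Fintype.card K ^ 6 := by
    rw [Module.card_eq_pow_finrank (K := K) (V := AdjoinRoot P),
      (AdjoinRoot.powerBasis hPi.ne_zero).finrank, AdjoinRoot.powerBasis_dim, hdeg]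
  refine ⟨isCyclic_of_subgroup_isDomain Φ hΦ, ?_, ?_⟩
  · have h := Subgroup.card_dvd_of_injective Φ.toHomUnits (fun a b e => hΦ (congrArg Units.val e :))
    rwa [Nat.card_units, Nat.card_eq_fintype_card (α := AdjoinRoot P), hcard] at h
  · intro g hg
    obtain ⟨k, hk⟩ := ((isOfFinOrder_of_finite x).mem_powers_iff_mem_zpowers.2 hg :
      g * x * g⁻¹ ∈ Submonoid.powers x)
    have hk' : g * x * g⁻¹ = x ^ k := hk.symm
    have hsc : SemiconjBy (ρ g) f (f ^ k) := by
      show ρ g * f = f ^ k * ρ g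
      rw [hfdef, ← map_pow, ← map_mul, ← map_mul, ← hk', inv_mul_cancel_right]
    set z := AdjoinRoot.root P with hz
    have hroot : aeval (z ^ k) P = 0 := by
      by_contra hne
      set R := P.comp (X ^ k) with hR
      have hRP : ¬ P ∣ R := fun hd => hne (by
        have e : aeval z R = aeval (z ^ k) P := by rw [hR, aeval_comp, map_pow, aeval_X]
        rw [← e, AdjoinRoot.aeval_eq, AdjoinRoot.mk_eq_zero.2 hd])
      let M := (LinearMap.ker T).map (ρ g)
      have hginj : Function.Injective (ρ g) := fun a b e => by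
        have := congrArg (ρ g⁻¹) e
        rwa [← Module.End.mul_apply, ← Module.End.mul_apply, ← map_mul, inv_mul_cancel, map_one,
          Module.End.one_apply, Module.End.one_apply] at this
      have hM : Module.finrank K M = 6 := by
        rw [← h6ker]
        exact (Submodule.equivMapOfInjective _ hginj _).finrank_eq.symm
      have hs := Submodule.finrank_sup_add_finrank_inf_eq M (LinearMap.ker T)
      rw [hM, h6ker] at hs
      have h7 : Module.finrank K ↥(M ⊔ LinearMap.ker T) ≤ 7 := hV ▸ Submodule.finrank_le _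
      obtain ⟨y, hy, hy0⟩ := Submodule.exists_mem_ne_zero_of_ne_bot
        (p := M ⊓ LinearMap.ker T) (fun e => by rw [e, finrank_bot] at hs; omega)
      obtain ⟨⟨w, hw, rfl⟩, hy'⟩ := hy
      refine hy0 (coprime_apply_eq_zero f ((hPi.coprime_iff_not_dvd).2 hRP) hy' ?_)
      rw [hR, aeval_comp, map_pow, aeval_X, ← Module.End.mul_apply, ← (semiconj_aeval hsc P).eq, Module.End.mul_apply, ← hT,
        LinearMap.mem_ker.1 hw, map_zero]
    let σ : AdjoinRoot P →ₐ[K] AdjoinRoot P :=
      AdjoinRoot.liftAlgHom P (Algebra.ofId K _) (z ^ k) hroot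
    obtain ⟨i, hi⟩ := (FiniteField.bijective_frobeniusAlgEquivOfAlgebraic_pow K (AdjoinRoot P)).2
      (AlgEquiv.ofBijective σ (Finite.injective_iff_bijective.1 σ.injective))
    have hzk : z ^ k = z ^ (Fintype.card K ^ (i : ℕ)) := by
      have := congrArg (fun e : AdjoinRoot P ≃ₐ[K] AdjoinRoot P => e z) hi
      simp only [AlgEquiv.coe_pow, FiniteField.coe_frobeniusAlgEquivOfAlgebraic_iterate,
        AlgEquiv.coe_ofBijective] at this
      rw [this]
      exact (AdjoinRoot.lift_root (i := (Algebra.ofId K (AdjoinRoot P)).toRingHom) (a := z ^ k) hroot).symm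
    have hzr : z ^ r = 1 := by
      have : AdjoinRoot.mk P (X ^ r - 1) = 0 := AdjoinRoot.mk_eq_zero.2 hPr
      rwa [map_sub, map_pow, AdjoinRoot.mk_X, map_one, sub_eq_zero] at this
    have hz1 : z ≠ 1 := fun e => by
      have hd : P ∣ X - 1 := AdjoinRoot.mk_eq_zero.1 (by
        rw [map_sub, AdjoinRoot.mk_X, map_one, ← hz, e, sub_self])
      have := natDegree_le_of_dvd hd (by simpa using X_sub_C_ne_zero (1 : K))
      rw [hdeg, show (X - 1 : K[X]).natDegree = 1 by simpa using natDegree_X_sub_C (1 : K)] at this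
      omega
    have hmod : k ≡ Fintype.card K ^ (i : ℕ) [MOD r] := by
      rw [← orderOf_eq_prime hzr hz1]
      exact (isOfFinOrder_iff_pow_eq_one.2 ⟨r, hr.pos, hzr⟩).pow_eq_pow_iff_modEq.1 hzk
    have hq6 : (Fintype.card K ^ 6) ≡ 1 [MOD r] := by
      refine ((Nat.modEq_iff_dvd' (Nat.one_le_pow _ _ Fintype.card_pos)).2 ?_).symm
      have : Fintype.card K ^ 6 - 1 = (Fintype.card K ^ 3 + 1) * (Fintype.card K ^ 3 - 1) := by
        rw [← Nat.sq_sub_sq, one_pow, ← pow_mul]
      rw [this]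
      exact dvd_mul_of_dvd_left h6 _
    have hk6 : k ^ 6 ≡ 1 [MOD r] := by
      refine (hmod.pow 6).trans ?_
      rw [← pow_mul, mul_comm, pow_mul]
      simpa using hq6.pow (i : ℕ)
    have hiter : ∀ n : ℕ, g ^ n * x * (g ^ n)⁻¹ = x ^ (k ^ n) := by
      intro n
      induction n with
      | zero => simp
      | succ n ih =>
        rw [pow_succ', mul_inv_rev,
          show g * g ^ n * x * ((g ^ n)⁻¹ * g⁻¹) = g * (g ^ n * x * (g ^ n)⁻¹) * g⁻¹ by group, ih,
          ← conj_pow, hk', ← pow_mul, ← pow_succ']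
    rw [Subgroup.mem_centralizer_singleton_iff]
    have h := hiter 6
    have hx6 : x ^ k ^ 6 = x := by
      conv_rhs => rw [← pow_one x]
      exact pow_eq_pow_iff_modEq.2 (by rwa [hx])
    rw [hx6] at h
    exact mul_inv_eq_iff_eq_mul.1 h

end

end Cfsg.Agent.Chev.Ree
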