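import Cfsg.Agent.Chev.Ree.Point

/-!
The seven-dimensional module of `²G₂(q)`: the span of the short root vectors and one coroot.
-/

set_option autoImplicit false
set_option maxRecDepth 100000
set_option maxHeartbeats 1000000

namespace Cfsg.Agent.Chev

open Cfsg.Lie
open scoped MatrixGroups

universe u

namespace Ree

/-- The coordinates of the module. -/
def sev : chevG2.Idx → Bool :=
  Sum.elim (fun i => decide ((i : ℕ) = 0))
    (fun s => decide ((s : ℕ) ∈ ([2, 3, 4, 7, 8, 9] : List ℕ)))

/-- The coordinate set. -/
abbrev SevIdx : Type := {a : chevG2.Idx // sev a = true}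

theorem sev_card : Fintype.card SevIdx = 7 := by decide +kernel

theorem sev_tables : ∀ r : Fin chevG2.nroots,
    (sev (Sum.inr r) = false → ((chevG2.cartanSR.getD 0 #[]).getD r.val 0) % 3 = 0) ∧
    (∀ s : Fin chevG2.nroots, sev (Sum.inr s) = true → s.val = chevG2.negIdx.getD r.val 0 →
      sev (Sum.inr r) = true ∧ ((chevG2.coroot.getD r.val #[]).getD 1 0) % 3 = 0) ∧
    (∀ s u : Fin chevG2.nroots, sev (Sum.inr s) = true → sev (Sum.inr u) = false →
      (chevG2.chainCoeff r.val s.val u.val).all (fun km => km.2 % 3 == 0) = true) := by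
  decide +kernel

variable {K : Type u} [Field K] [CharP K 3]

theorem intCast_zero {z : ℤ} (h : z % 3 = 0) : (z : K) = 0 :=
  (CharP.intCast_eq_zero_iff K 3 z).2 (Int.dvd_of_emod_eq_zero h)

theorem xMat_block (r : Fin chevG2.nroots) (t : K) {a b : chevG2.Idx} (hb : sev b = true)
    (ha : sev a = false) : chevG2.xMat K r t a b = 0 := by
  obtain ⟨h1, h2, h3⟩ := sev_tables r
  simp only [ChevalleyDatum.xMat, Matrix.of_apply]
  rcases b with i | s
  · rcases a with i' | u
    · show (if i' = i then (1 : K) else 0) = 0
      rw [if_neg]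
      rintro rfl
      rw [hb] at ha
      exact Bool.noConfusion ha
    · show (if u = r then _ else (0 : K)) = 0
      split_ifs with hu
      · subst hu
        have hi : (i : ℕ) = 0 := by simpa [sev] using hb
        rw [hi, intCast_zero (h1 ha), neg_zero, zero_mul]
      · rfl
  · dsimp only
    split_ifs with hsr hsn
    · rcases a with i' | u
      · rfl
      · show (if u = r then (1 : K) else 0) = 0
        rw [if_neg]
        rintro rfl
        rw [← hsr, hb] at ha
        exact Bool.noConfusion ha
    · obtain ⟨hr, hco⟩ := h2 s hb hsn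
      rcases a with i' | u
      · show (_ : K) * t = 0
        have hi : (i' : ℕ) = 1 := by
          have hne : ¬ (i' : ℕ) = 0 := by simpa [sev] using ha
          have := i'.2
          change (i' : ℕ) < 2 at this
          omega
        rw [hi, intCast_zero hco, zero_mul]
      · show (if u = s then (1 : K) else if u = r then _ else 0) = 0
        rw [if_neg (by rintro rfl; rw [hb] at ha; exact Bool.noConfusion ha),
          if_neg (by rintro rfl; rw [hr] at ha; exact Bool.noConfusion ha)]
    · rcases a with i' | u
      · rfl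
      · show (if u = s then (1 : K) else 0) + _ = 0
        rw [if_neg (by rintro rfl; rw [hb] at ha; exact Bool.noConfusion ha), zero_add]
        refine List.sum_eq_zero fun y hy => ?_
        obtain ⟨km, hkm, rfl⟩ := List.mem_map.1 hy
        have := (List.all_eq_true.1 (h3 s u hb ha)) km hkm
        rw [intCast_zero (beq_iff_eq.1 this), zero_mul]

variable [Fintype K]

theorem block {g : GL chevG2.Idx K} (hg : g ∈ chevG2.group K) :
    ∀ a b : chevG2.Idx, sev b = true → sev a = false → (g : Matrix _ _ K) a b = 0 := by
  let Z : Submonoid (GL chevG2.Idx K) :=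
    { carrier := {g | ∀ a b : chevG2.Idx, sev b = true → sev a = false → (g : Matrix _ _ K) a b = 0}
      one_mem' := fun a b hb ha => by
        rw [Units.val_one, Matrix.one_apply_ne]
        rintro rfl
        rw [hb] at ha
        exact Bool.noConfusion ha
      mul_mem' := fun {g h} hg hh a b hb ha => by
        rw [Units.val_mul, Matrix.mul_apply]
        refine Finset.sum_eq_zero fun c _ => ?_
        cases hc : sev c
        · rw [hh c b hb hc, mul_zero]
        · rw [hg a c hc ha, zero_mul] }
  refine (?_ : g ∈ Z)
  induction hg using Subgroup.closure_induction with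
  | mem x hx =>
    obtain ⟨r, t, e⟩ := hx
    intro a b hb ha
    rw [e]
    exact xMat_block r t hb ha
  | one => exact Z.one_mem
  | mul x y _ _ hx hy => exact Z.mul_mem hx hy
  | inv x _ hx =>
    obtain ⟨n, hn⟩ := ((isOfFinOrder_of_finite x).mem_powers_iff_mem_zpowers.2
      ((Subgroup.zpowers x).inv_mem (Subgroup.mem_zpowers x)) : x⁻¹ ∈ Submonoid.powers x)
    exact hn ▸ Z.pow_mem hx n

variable {m : ℕ} (hK : Fintype.card K = 3 ^ (2 * m + 1))
include hK

theorem G1_le_group : twistedG2 K (3 ^ m) ≤ chevG2.group K :=
  (twistedG2_le_fx (isTheta hK)).trans (fx_le_group m)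

/-- The representation on the module. -/
noncomputable def shortRep : G1 K m →* Module.End K (SevIdx → K) :=
  (Matrix.toLinAlgEquiv' (R := K) (n := SevIdx)).toAlgHom.toRingHom.toMonoidHom.comp
    { toFun := fun g => Matrix.submatrix (g.1 : Matrix chevG2.Idx chevG2.Idx K) Subtype.val Subtype.val
      map_one' := by
        ext a b
        simp [Matrix.one_apply, Subtype.ext_iff]
      map_mul' := fun g h => by
        ext a b
        simp only [Matrix.submatrix_apply, Subgroup.coe_mul, Units.val_mul, Matrix.mul_apply]
        rw [← Finset.sum_subtype (Finset.univ.filter fun c => sev c = true) (by simp)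
          (fun c => (g.1 : Matrix chevG2.Idx chevG2.Idx K) a c * (h.1 : Matrix chevG2.Idx chevG2.Idx K) c b)]
        refine (Finset.sum_filter_of_ne fun c _ hne => ?_).symm
        by_contra hc
        rw [block (G1_le_group hK h.2) c b b.2 (by simpa using hc), mul_zero] at hne
        exact hne rfl }

theorem shortRep_injective (hm : 1 ≤ m) : Function.Injective (shortRep hK (m := m)) := by
  have hne : shortRep hK (tt hK (-1)) ≠ (1 : Module.End K (SevIdx → K)) := by
    intro e
    let a : SevIdx := ⟨Sum.inr ⟨7, by decide⟩, by decide⟩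
    have h1 := congrArg (fun F => (Matrix.toLinAlgEquiv' (R := K) (n := SevIdx)).symm F a a) e
    simp only [shortRep, MonoidHom.comp_apply, map_one, Matrix.one_apply_eq] at h1
    change (Matrix.toLinAlgEquiv' (R := K) (n := SevIdx)).symm
      ((Matrix.toLinAlgEquiv' (R := K) (n := SevIdx))
        (Matrix.submatrix ((tt hK (-1) : G1 K m).1 : Matrix chevG2.Idx chevG2.Idx K)
          Subtype.val Subtype.val)) a a = 1 at h1
    rw [AlgEquiv.symm_apply_apply, Matrix.submatrix_apply, tt_val] at h1
    change ((torusHom (tp (Units.map (th K m).toMonoidHom (-1 : Kˣ)) (-1))) :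
      GL chevG2.Idx K).1 a.1 a.1 = 1 at h1
    rw [torusHom_apply, if_pos rfl] at h1
    have t7 : chevG2.cartan 0 7 = 2 ∧ chevG2.cartan 1 7 = -1 := by decide +kernel
    have e7 : (chiU (tp (Units.map (th K m).toMonoidHom (-1 : Kˣ)) (-1)) 7 : K) = -1 := by
      rw [chiU]
      change ((∏ j : Fin 2, (tp (Units.map (th K m).toMonoidHom (-1 : Kˣ)) (-1) j) ^
        chevG2.cartan j 7 : Kˣ) : K) = _
      rw [Fin.prod_univ_two]
      simp [tp, t7.1, t7.2, Units.val_zpow_eq_zpow_val]
    have h2 : (-1 : K) = 1 := e7.symm.trans h1
    exact one_ne_zero (show (1 : K) = 0 by linear_combination h2 + three_eq (K := K))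
  haveI := (simple hK hm).1
  rw [← MonoidHom.ker_eq_bot_iff]
  refine (IsSimpleGroup.eq_bot_or_eq_top_of_normal _ (MonoidHom.normal_ker _)).resolve_right fun e => ?_
  exact hne (MonoidHom.mem_ker.1 (e ▸ Subgroup.mem_top (tt hK (-1))))

theorem finrank_short : Module.finrank K (SevIdx → K) = 7 := by
  rw [Module.finrank_pi, sev_card]

end Ree

end Cfsg.Agent.Chev
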