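import Cfsg.Agent.Chev.All
import Cfsg.Agent.Chev.Functorial
import Cfsg.Prelude.Def_LieTwisted
import Mathlib.Tactic.LinearCombination

/-!
The unipotent subgroup of `G₂` in characteristic three, in coordinates.
-/

set_option autoImplicit false
set_option maxRecDepth 100000

namespace Cfsg.Agent.Chev

open Cfsg.Lie
open scoped MatrixGroups

universe u

namespace Ree

variable {K : Type u} [Field K]

/-- A root element of `G₂`. -/
abbrev X (r : ℕ) (t : K) : GL chevG2.Idx K := xG facts_chevG2 r t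

/-- The last four coordinates. -/
def T (c d e f : K) : GL chevG2.Idx K := X 8 c * X 9 d * X 10 e * X 11 f

/-- An element in the coordinates of `a, b, a+b, 2a+b, 3a+b, 3a+2b`. -/
def W (a b c d e f : K) : GL chevG2.Idx K := X 7 a * X 6 b * T c d e f

theorem tables : chevG2.commTerms 7 6 =
      [(8, -1, 1, 1), (9, 1, 2, 1), (10, 1, 3, 1), (11, 1, 3, 2)] ∧
    chevG2.commTerms 7 8 = [(9, -2, 1, 1), (10, -3, 2, 1), (11, 3, 1, 2)] ∧
    chevG2.commTerms 6 10 = [(11, 1, 1, 1)] := by decide +kernel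

theorem commute_tables :
    ∀ p ∈ ([(6, 8), (6, 9), (6, 11), (7, 9), (7, 10), (7, 11), (8, 9), (8, 10), (8, 11), (9, 10),
      (9, 11), (10, 11)] : List (ℕ × ℕ)),
      (chevG2.commTerms p.1 p.2).all fun c => c.2.1 % 3 == 0 := by decide +kernel

theorem commute_ne : ∀ p ∈ ([(6, 8), (6, 9), (6, 11), (7, 9), (7, 10), (7, 11), (8, 9), (8, 10),
    (8, 11), (9, 10), (9, 11), (10, 11)] : List (ℕ × ℕ)),
    p.1 < chevG2.nroots ∧ p.2 < chevG2.nroots ∧ p.2 ≠ p.1 ∧ p.2 ≠ chevG2.neg p.1 := by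
  decide +kernel

theorem comm_ne76 : (6 : ℕ) ≠ chevG2.neg 7 ∧ (8 : ℕ) ≠ chevG2.neg 7 ∧
    (10 : ℕ) ≠ chevG2.neg 6 := by decide +kernel

theorem nroots_eq : chevG2.nroots = 12 := rfl

variable [CharP K 3]

theorem three_eq : (3 : K) = 0 := by exact_mod_cast CharP.cast_eq_zero K 3

theorem X_comm {r s : ℕ} (h : (r, s) ∈ ([(6, 8), (6, 9), (6, 11), (7, 9), (7, 10), (7, 11),
    (8, 9), (8, 10), (8, 11), (9, 10), (9, 11), (10, 11)] : List (ℕ × ℕ))) (t v : K) :
    Commute (X s v) (X r t) := by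
  obtain ⟨h1, h2, h3, h4⟩ := commute_ne (r, s) h
  have hw : wordG facts_chevG2 (chevG2.commWord K r s t v) = 1 := by
    have hall := commute_tables (r, s) h
    simp only [List.all_eq_true, beq_iff_eq] at hall
    rw [wordG]
    refine List.prod_eq_one fun y hy => ?_
    obtain ⟨p, hp, rfl⟩ := List.mem_map.1 hy
    obtain ⟨c, hc, rfl⟩ := List.mem_map.1 hp
    have h0 : ((c.2.1 : ℤ) : K) = 0 :=
      (CharP.intCast_eq_zero_iff K 3 _).2 (Int.dvd_of_emod_eq_zero (hall c hc))
    simp [h0, xG_zero]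
  have := xG_comm facts_chevG2 h1 h2 h3 h4 t v
  rw [hw, mul_one] at this
  exact this

theorem T_mul (c d e f c' d' e' f' : K) :
    T c d e f * T c' d' e' f' = T (c + c') (d + d') (e + e') (f + f') := by
  have h89 := (X_comm (r := 8) (s := 9) (by decide) c' d).eq
  have h8A := (X_comm (r := 8) (s := 10) (by decide) c' e).eq
  have h8B := (X_comm (r := 8) (s := 11) (by decide) c' f).eq
  have h9A := (X_comm (r := 9) (s := 10) (by decide) d' e).eq
  have h9B := (X_comm (r := 9) (s := 11) (by decide) d' f).eq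
  have hAB := (X_comm (r := 10) (s := 11) (by decide) e' f).eq
  simp only [T, ← mul_assoc]
  rw [mul_assoc _ (X 11 f) (X 8 c'), h8B, ← mul_assoc,
    mul_assoc _ (X 10 e) (X 8 c'), h8A, ← mul_assoc,
    mul_assoc _ (X 9 d) (X 8 c'), h89, ← mul_assoc, xG_mul,
    mul_assoc _ (X 11 f) (X 9 d'), h9B, ← mul_assoc,
    mul_assoc _ (X 10 e) (X 9 d'), h9A, ← mul_assoc, mul_assoc _ (X 9 d) (X 9 d'), xG_mul,
    mul_assoc _ (X 11 f) (X 10 e'), hAB, ← mul_assoc, mul_assoc _ (X 10 e) (X 10 e'), xG_mul,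
    mul_assoc _ (X 11 f) (X 11 f'), xG_mul]

theorem T_zero : T (0 : K) 0 0 0 = 1 := by simp [T, xG_zero]

theorem X6_X7 (a b : K) : X 6 b * X 7 a =
    X 7 a * X 6 b * T (a * b) (a ^ 2 * b) (-(a ^ 3 * b)) (-(a ^ 3 * b ^ 2)) := by
  have h := xG_comm facts_chevG2 (r := 7) (s := 6) (by rw [nroots_eq]; omega)
    (by rw [nroots_eq]; omega) (by omega) comm_ne76.1 a b
  rw [X, X, h]
  congr 1
  rw [ChevalleyDatum.commWord, tables.1]
  simp only [List.map_cons, List.map_nil, wordG, List.prod_cons, List.prod_nil, mul_one, T, X,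
    mul_assoc]
  push_cast
  congr 1
  · congr 1; ring
  congr 1
  · congr 1; ring
  congr 1
  · congr 1; ring
  · congr 1; ring

theorem X8_X7 (a c : K) : X 8 c * X 7 a = X 7 a * X 8 c * X 9 (-(a * c)) := by
  have h := xG_comm facts_chevG2 (r := 7) (s := 8) (by rw [nroots_eq]; omega)
    (by rw [nroots_eq]; omega) (by omega) comm_ne76.2.1 a c
  rw [X, X, h]
  congr 1
  rw [ChevalleyDatum.commWord, tables.2.1]
  simp only [List.map_cons, List.map_nil, wordG, List.prod_cons, List.prod_nil, mul_one]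
  push_cast
  rw [show ((-3 : K)) = 0 by linear_combination -(three_eq (K := K)), three_eq (K := K)]
  simp only [zero_mul, xG_zero, mul_one]
  congr 1
  linear_combination (a * c) * three_eq (K := K)

theorem XA_X6 (b e : K) : X 10 e * X 6 b = X 6 b * X 10 e * X 11 (-(b * e)) := by
  have h := xG_comm facts_chevG2 (r := 6) (s := 10) (by rw [nroots_eq]; omega)
    (by rw [nroots_eq]; omega) (by omega) comm_ne76.2.2 b e
  rw [X, X, h]
  congr 1
  rw [ChevalleyDatum.commWord, tables.2.2]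
  simp only [List.map_cons, List.map_nil, wordG, List.prod_cons, List.prod_nil, mul_one]
  push_cast
  congr 1
  ring

theorem T_X7 (a c d e f : K) : T c d e f * X 7 a = X 7 a * T c (d - a * c) e f := by
  have h9 := (X_comm (r := 7) (s := 9) (by decide) a d).eq
  have hA := (X_comm (r := 7) (s := 10) (by decide) a e).eq
  have hB := (X_comm (r := 7) (s := 11) (by decide) a f).eq
  simp only [T, ← mul_assoc]
  rw [mul_assoc _ (X 11 f) (X 7 a), hB, ← mul_assoc, mul_assoc _ (X 10 e) (X 7 a), hA, ← mul_assoc,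
    mul_assoc _ (X 9 d) (X 7 a), h9, ← mul_assoc, X8_X7, mul_assoc _ (X 9 (-(a * c))) (X 9 d),
    xG_mul, neg_add_eq_sub]

theorem T_X6 (b c d e f : K) : T c d e f * X 6 b = X 6 b * T c d e (f - b * e) := by
  have h8 := (X_comm (r := 6) (s := 8) (by decide) b c).eq
  have h9 := (X_comm (r := 6) (s := 9) (by decide) b d).eq
  have hB := (X_comm (r := 6) (s := 11) (by decide) b f).eq
  simp only [T, ← mul_assoc]
  rw [mul_assoc _ (X 11 f) (X 6 b), hB, ← mul_assoc, mul_assoc _ (X 10 e) (X 6 b), XA_X6,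
    ← mul_assoc, ← mul_assoc, mul_assoc _ (X 9 d) (X 6 b), h9, ← mul_assoc, h8,
    mul_assoc _ (X 11 (-(b * e))) (X 11 f), xG_mul, neg_add_eq_sub]

theorem W_mul (a b c d e f a' b' c' d' e' f' : K) :
    W a b c d e f * W a' b' c' d' e' f' = W (a + a') (b + b') (c + c' + a' * b)
      (d + d' + a' ^ 2 * b - a' * c) (e + e' - a' ^ 3 * b)
      (f + f' - a' ^ 3 * b ^ 2 - b' * (e - a' ^ 3 * b)) := by
  simp only [W, ← mul_assoc]
  rw [mul_assoc _ (T c d e f) (X 7 a'), T_X7, ← mul_assoc, mul_assoc _ (X 6 b) (X 7 a'), X6_X7,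
    ← mul_assoc, ← mul_assoc, xG_mul,
    mul_assoc _ (T (a' * b) _ _ _) (T c _ e f), T_mul, mul_assoc _ (T _ _ _ _) (X 6 b'), T_X6,
    ← mul_assoc, mul_assoc _ (X 6 b) (X 6 b'), xG_mul,
    mul_assoc _ (T _ _ _ _) (T c' d' e' f'), T_mul]
  congr 2 <;> ring

theorem W_zero : W (0 : K) 0 0 0 0 0 = 1 := by simp [W, T_zero, xG_zero]

theorem W_eq_prodFrom (a b c d e f : K) : W a b c d e f = prodFrom facts_chevG2 6
    fun r => if r = 6 then b else if r = 7 then a else if r = 8 then c - a * b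
      else if r = 9 then d - a ^ 2 * b else if r = 10 then e + a ^ 3 * b
      else f + a ^ 3 * b ^ 2 := by
  have h : X 7 a * X 6 b =
      X 6 b * X 7 a * T (-(a * b)) (-(a ^ 2 * b)) (a ^ 3 * b) (a ^ 3 * b ^ 2) := by
    rw [X6_X7, mul_assoc _ (T _ _ _ _) (T _ _ _ _), T_mul]
    simp only [add_neg_cancel, neg_add_cancel, T_zero, mul_one]
  rw [W, h, mul_assoc _ (T _ _ _ _) (T _ _ _ _), T_mul,
    prodFrom, show chevG2.nroots - 6 = 6 from rfl]
  simp only [List.range'_succ, List.range'_zero, List.map_cons, List.map_nil, wordG,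
    List.prod_cons, List.prod_nil, mul_one, T, X, Nat.reduceAdd, if_true,
    show ((7 : ℕ) = 6) = False by simp, show ((8 : ℕ) = 6) = False by simp,
    show ((8 : ℕ) = 7) = False by simp, show ((9 : ℕ) = 6) = False by simp,
    show ((9 : ℕ) = 7) = False by simp, show ((9 : ℕ) = 8) = False by simp,
    show ((10 : ℕ) = 6) = False by simp, show ((10 : ℕ) = 7) = False by simp,
    show ((10 : ℕ) = 8) = False by simp, show ((10 : ℕ) = 9) = False by simp,
    show ((11 : ℕ) = 6) = False by simp, show ((11 : ℕ) = 7) = False by simp,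
    show ((11 : ℕ) = 8) = False by simp, show ((11 : ℕ) = 9) = False by simp,
    show ((11 : ℕ) = 10) = False by simp, if_false, mul_assoc]
  congr 3
  · congr 1; ring
  congr 1
  · congr 1; ring
  congr 1
  · congr 1; ring
  · congr 1; ring

theorem W_injective {a b c d e f a' b' c' d' e' f' : K}
    (h : W a b c d e f = W a' b' c' d' e' f') :
    a = a' ∧ b = b' ∧ c = c' ∧ d = d' ∧ e = e' ∧ f = f' := by
  rw [W_eq_prodFrom, W_eq_prodFrom] at h
  have hh := prodFrom_inj facts_chevG2 _ 6 rfl (le_of_eq rfl) h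
  have h6 := hh 6 le_rfl (by rw [nroots_eq]; omega)
  have h7 := hh 7 (by omega) (by rw [nroots_eq]; omega)
  have h8 := hh 8 (by omega) (by rw [nroots_eq]; omega)
  have h9 := hh 9 (by omega) (by rw [nroots_eq]; omega)
  have hA := hh 10 (by omega) (by rw [nroots_eq]; omega)
  have hB := hh 11 (by omega) (by rw [nroots_eq]; omega)
  simp at h6 h7 h8 h9 hA hB
  subst h6 h7
  exact ⟨rfl, rfl, by simpa using h8, by simpa using h9, by simpa using hA, by simpa using hB⟩

theorem W_mem (a b c d e f : K) : W a b c d e f ∈ chevG2.posUnipotent K := by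
  rw [W_eq_prodFrom]
  exact (mem_posUnipotent_iff facts_chevG2).2 ⟨_, rfl⟩

theorem exists_W {g : GL chevG2.Idx K} (hg : g ∈ chevG2.posUnipotent K) :
    ∃ a b c d e f, g = W a b c d e f := by
  obtain ⟨t, rfl⟩ := (mem_posUnipotent_iff facts_chevG2).1 hg
  refine ⟨t 7, t 6, t 8 + t 7 * t 6, t 9 + t 7 ^ 2 * t 6, t 10 - t 7 ^ 3 * t 6,
    t 11 - t 7 ^ 3 * t 6 ^ 2, ?_⟩
  rw [W_eq_prodFrom]
  refine prodFrom_congr facts_chevG2 fun r h1 h2 => ?_
  rw [nroots_eq] at h2
  change 6 ≤ r at h1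
  interval_cases r <;> simp

theorem wordG_reeWord (e : ℕ) (t u v : K) : wordG facts_chevG2 (reeWordU e t u v) =
    W (t ^ e) t (t ^ (e + 1) + u ^ e) (t ^ (2 * e + 1) + v ^ e) u v := by
  simp [wordG, reeWordU, W, T, g2a, g2b, g2ab, g2aab, g2aaab, g2aaabb, mul_assoc]

end Ree

end Cfsg.Agent.Chev
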