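import Cfsg.Agent.Chev.Ree.Omega
import Cfsg.Agent.Chev.Ree.Unip
import Cfsg.Agent.Chev.Special.Graph
import Mathlib.Algebra.CharP.Frobenius

/-!
The endomorphism of `G₂` in characteristic three defining `²G₂`, and its fixed elements.
-/

set_option autoImplicit false
set_option maxRecDepth 100000

namespace Cfsg.Agent.Chev

open Cfsg.Lie
open scoped MatrixGroups

universe u

namespace Ree

variable (K : Type u) [Field K] [CharP K 3] (m : ℕ)

instance : Fact (Nat.Prime 3) := ⟨Nat.prime_three⟩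

/-- The field endomorphism `t ↦ t ^ 3 ^ m`. -/
noncomputable def th : K →+* K := iterateFrobenius K 3 m

theorem th_apply (t : K) : th K m t = t ^ 3 ^ m := iterateFrobenius_def ..

/-- The endomorphism on the group. -/
noncomputable def sg : ↥(chevG2.group K) →* GL chevG2.Idx K :=
  haveI : CharP K g2Spec.p := ‹CharP K 3›
  (chevG2.group K).subtype.comp
    ((g2SpecFacts.iso facts_chevG2 g2_simple' (F := K)).comp
      (groupMap facts_chevG2 facts_chevG2 (th K m)))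

variable {K}

theorem sg_x (r : Fin chevG2.nroots) (t : K) (h : xG facts_chevG2 r t ∈ chevG2.group K) :
    sg K m ⟨xG facts_chevG2 r t, h⟩ =
      xG facts_chevG2 (g2Spec.ρ r) ((th K m t) ^ g2Spec.lam r) := by
  haveI : CharP K g2Spec.p := ‹CharP K 3›
  have e : groupMap facts_chevG2 facts_chevG2 (th K m)
      (⟨xG facts_chevG2 r t, h⟩ : ↥(chevG2.group K)) = SpecFacts.xM facts_chevG2 r (th K m t) :=
    Subtype.ext (gmap_xG facts_chevG2 facts_chevG2 (th K m) r t)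
  show ((g2SpecFacts.iso facts_chevG2 g2_simple' (groupMap facts_chevG2 facts_chevG2 (th K m)
    (⟨xG facts_chevG2 r t, h⟩ : ↥(chevG2.group K))) : ↥(chevG2.group K)) : GL chevG2.Idx K) = _
  rw [e, g2SpecFacts.iso_x]
  rfl

attribute [irreducible] sg

/-- The fixed elements. -/
noncomputable def fx : Subgroup (GL chevG2.Idx K) :=
  (MonoidHom.eqLocus (sg K m) (chevG2.group K).subtype).map (chevG2.group K).subtype

theorem mem_fx {g : GL chevG2.Idx K} :
    g ∈ fx m ↔ ∃ h : g ∈ chevG2.group K, sg K m ⟨g, h⟩ = g := by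
  constructor
  · rintro ⟨⟨g', hg'⟩, he, rfl⟩
    exact ⟨hg', he⟩
  · rintro ⟨h, e⟩
    exact ⟨⟨g, h⟩, e, rfl⟩

theorem fx_le_group : fx (K := K) m ≤ chevG2.group K := fun _ h => ((mem_fx m).1 h).1

theorem sg_mul {g g' : GL chevG2.Idx K} (h : g ∈ chevG2.group K) (h' : g' ∈ chevG2.group K) :
    sg K m ⟨g * g', mul_mem h h'⟩ = sg K m ⟨g, h⟩ * sg K m ⟨g', h'⟩ :=
  (congrArg (sg K m) (Subtype.ext (Subgroup.coe_mul _ ⟨g, h⟩ ⟨g', h'⟩).symm)).trans
    (map_mul (sg K m) _ _)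

theorem rho_tables : ∀ r : Fin chevG2.nroots,
    (g2Spec.lam r = 1 ∨ g2Spec.lam r = 3) ∧
    (∀ s : Fin chevG2.nroots, (s : ℕ) = chevG2.neg r →
      (g2Spec.ρ s : ℕ) = chevG2.neg (g2Spec.ρ r) ∧ g2Spec.lam s = g2Spec.lam r) ∧
    ((r : ℕ) = 6 → (g2Spec.ρ r : ℕ) = 7 ∧ g2Spec.lam r = 1) ∧
    ((r : ℕ) = 7 → (g2Spec.ρ r : ℕ) = 6 ∧ g2Spec.lam r = 3) ∧
    ((r : ℕ) = 8 → (g2Spec.ρ r : ℕ) = 10 ∧ g2Spec.lam r = 3) ∧
    ((r : ℕ) = 9 → (g2Spec.ρ r : ℕ) = 11 ∧ g2Spec.lam r = 3) ∧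
    ((r : ℕ) = 10 → (g2Spec.ρ r : ℕ) = 8 ∧ g2Spec.lam r = 1) ∧
    ((r : ℕ) = 11 → (g2Spec.ρ r : ℕ) = 9 ∧ g2Spec.lam r = 1) := by
  decide +kernel

theorem sg_X (r : ℕ) (hr : r < 12) {r' l : ℕ} (hρ : (g2Spec.ρ ⟨r, hr⟩ : ℕ) = r' ∧
    g2Spec.lam ⟨r, hr⟩ = l) (t : K) (h : X r t ∈ chevG2.group K) :
    sg K m ⟨X r t, h⟩ = X r' ((th K m t) ^ l) := by
  have e := sg_x m (K := K) ⟨r, hr⟩ t h
  rw [hρ.1, hρ.2] at e
  exact e

theorem X_mem (r : ℕ) (t : K) : X r t ∈ chevG2.group K := xG_mem_group facts_chevG2 r t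

theorem T_mem (c d e f : K) : T c d e f ∈ chevG2.group K :=
  mul_mem (mul_mem (mul_mem (X_mem 8 c) (X_mem 9 d)) (X_mem 10 e)) (X_mem 11 f)

theorem W_memG (a b c d e f : K) : W a b c d e f ∈ chevG2.group K :=
  mul_mem (mul_mem (X_mem 7 a) (X_mem 6 b)) (T_mem c d e f)

theorem sg_T (c d e f : K) (h : T c d e f ∈ chevG2.group K) :
    sg K m ⟨T c d e f, h⟩ =
      T (th K m e) (th K m f) ((th K m c) ^ 3) ((th K m d) ^ 3) := by
  have e1 : sg K m ⟨T c d e f, h⟩ = sg K m ⟨X 8 c, X_mem 8 c⟩ * sg K m ⟨X 9 d, X_mem 9 d⟩ *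
      sg K m ⟨X 10 e, X_mem 10 e⟩ * sg K m ⟨X 11 f, X_mem 11 f⟩ := by
    rw [← map_mul, ← map_mul, ← map_mul]
    rfl
  rw [e1, sg_X m 8 (by omega) ((rho_tables _).2.2.2.2.1 rfl),
    sg_X m 9 (by omega) ((rho_tables _).2.2.2.2.2.1 rfl),
    sg_X m 10 (by omega) ((rho_tables _).2.2.2.2.2.2.1 rfl),
    sg_X m 11 (by omega) ((rho_tables _).2.2.2.2.2.2.2 rfl), pow_one, pow_one]
  have hA : X 10 ((th K m c) ^ 3) * X 11 ((th K m d) ^ 3) =
      T (0 : K) 0 ((th K m c) ^ 3) ((th K m d) ^ 3) := by simp [T, xG_zero]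
  have hB : X 8 (th K m e) * X 9 (th K m f) = T (th K m e) (th K m f) 0 0 := by
    simp [T, xG_zero]
  rw [mul_assoc, hA, hB, T_mul, zero_add, zero_add, add_zero, add_zero]

theorem sg_W (a b c d e f : K) (h : W a b c d e f ∈ chevG2.group K) :
    sg K m ⟨W a b c d e f, h⟩ =
      W (th K m b) ((th K m a) ^ 3) (th K m e + th K m b * (th K m a) ^ 3)
        (th K m f + th K m b ^ 2 * (th K m a) ^ 3)
        ((th K m c) ^ 3 - th K m b ^ 3 * (th K m a) ^ 3)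
        ((th K m d) ^ 3 - th K m b ^ 3 * ((th K m a) ^ 3) ^ 2) := by
  have e1 : sg K m ⟨W a b c d e f, h⟩ = sg K m ⟨X 7 a, X_mem 7 a⟩ * sg K m ⟨X 6 b, X_mem 6 b⟩ *
      sg K m ⟨T c d e f, T_mem c d e f⟩ := by
    rw [← map_mul, ← map_mul]
    rfl
  rw [e1, sg_X m 7 (by omega) ((rho_tables _).2.2.2.1 rfl),
    sg_X m 6 (by omega) ((rho_tables _).2.2.1 rfl), sg_T, pow_one, X6_X7, W,
    mul_assoc _ (T _ _ _ _) (T _ _ _ _), T_mul]
  congr 2 <;> ring

/-- The fixed elements of `U`. -/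
def R (t u v : K) : GL chevG2.Idx K :=
  W (t ^ 3 ^ m) t (t ^ (3 ^ m + 1) + u ^ 3 ^ m) (t ^ (2 * 3 ^ m + 1) + v ^ 3 ^ m) u v

theorem wordG_R (t u v : K) : wordG facts_chevG2 (reeWordU (3 ^ m) t u v) = R m t u v :=
  wordG_reeWord _ t u v

theorem R_zero : R m (0 : K) 0 0 = 1 := by
  have h : (3 : ℕ) ^ m ≠ 0 := pow_ne_zero _ (by norm_num)
  simp [R, zero_pow h, W_zero]

theorem R_injective {t u v t' u' v' : K} (h : R m t u v = R m t' u' v') :
    t = t' ∧ u = u' ∧ v = v' := by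
  obtain ⟨-, h2, -, -, h5, h6⟩ := W_injective h
  exact ⟨h2, h5, h6⟩

/-- The hypothesis on the field: `θ` squared and cubed is the identity. -/
def IsTheta (K : Type u) [Field K] [CharP K 3] (m : ℕ) : Prop :=
  ∀ t : K, th K m ((th K m t) ^ 3) = t

variable {m}

theorem mem_fx_W {hm : IsTheta K m} {a b c d e f : K} :
    W a b c d e f ∈ fx m ↔ a = th K m b ∧ c = th K m b * b + th K m e ∧
      d = th K m b ^ 2 * b + th K m f := by
  constructor
  · intro h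
    obtain ⟨hg, he⟩ := (mem_fx m).1 h
    rw [sg_W] at he
    obtain ⟨h1, h2, h3, h4, -, -⟩ := W_injective he
    refine ⟨h1.symm, ?_, ?_⟩
    · rw [← h3, h2]; ring
    · rw [← h4, h2]; ring
  · rintro ⟨rfl, rfl, rfl⟩
    refine (mem_fx m).2 ⟨W_memG _ _ _ _ _ _, ?_⟩
    rw [sg_W]
    have hb : (th K m (th K m b)) ^ 3 = b := by rw [← map_pow, hm]
    have he : (th K m (th K m e)) ^ 3 = e := by rw [← map_pow, hm]
    have hf : (th K m (th K m f)) ^ 3 = f := by rw [← map_pow, hm]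
    simp only [map_add, map_mul, map_pow, hb]
    congr 1
    · ring
    · ring
    · rw [show ∀ x y : K, (x + y) ^ 3 = x ^ 3 + y ^ 3 from add_pow_char_of_commute' , mul_pow, hb,
        he]
      ring
    · rw [show ∀ x y : K, (x + y) ^ 3 = x ^ 3 + y ^ 3 from add_pow_char_of_commute' , mul_pow,
        ← pow_mul, pow_mul' _ 2 3, hb, hf]
      ring
where
  add_pow_char_of_commute' (x y : K) : (x + y) ^ 3 = x ^ 3 + y ^ 3 := add_pow_char x y 3

theorem R_mem_fx (hm : IsTheta K m) (t u v : K) : R m t u v ∈ fx m := by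
  refine (mem_fx_W (hm := hm)).2 ⟨(th_apply K m t).symm, ?_, ?_⟩
  · rw [th_apply, th_apply, pow_succ]
  · rw [th_apply, th_apply, pow_succ, ← pow_mul, mul_comm (3 ^ m) 2]

theorem exists_R (hm : IsTheta K m) {g : GL chevG2.Idx K} (hu : g ∈ chevG2.posUnipotent K)
    (hg : g ∈ fx m) : ∃ t u v, g = R m t u v := by
  obtain ⟨a, b, c, d, e, f, rfl⟩ := exists_W hu
  obtain ⟨rfl, rfl, rfl⟩ := (mem_fx_W (hm := hm)).1 hg
  refine ⟨b, e, f, ?_⟩
  simp only [R, th_apply]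
  congr 1
  · rw [pow_succ]
  · ring

theorem R_mem_U (t u v : K) : R m t u v ∈ chevG2.posUnipotent K := W_mem _ _ _ _ _ _

theorem R_mul (hm : IsTheta K m) (t u v t' u' v' : K) :
    R m t u v * R m t' u' v' = R m (t + t') (u + u' - (t' ^ 3 ^ m) ^ 3 * t)
      (v + v' - (t' ^ 3 ^ m) ^ 3 * t ^ 2 - t' * (u - (t' ^ 3 ^ m) ^ 3 * t)) := by
  obtain ⟨t'', u'', v'', e⟩ := exists_R hm (mul_mem (R_mem_U t u v) (R_mem_U t' u' v'))
    (mul_mem (R_mem_fx hm t u v) (R_mem_fx hm t' u' v'))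
  rw [e]
  rw [R, R, W_mul, R] at e
  obtain ⟨-, h2, -, -, h5, h6⟩ := W_injective e
  rw [h2, h5, h6]

theorem om_mem_group {g : GL chevG2.Idx K} (hg : g ∈ chevG2.group K) :
    om g ∈ chevG2.group K := by
  induction hg using Subgroup.closure_induction with
  | mem x hx =>
    obtain ⟨r, t, hy⟩ := hx
    obtain rfl : x = xG facts_chevG2 r t :=
      Units.ext (hy.trans (by rw [xG_val, ChevalleyDatum.x, dif_pos r.2]))
    rw [om_x]
    exact xG_mem_group facts_chevG2 _ _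
  | one => rw [map_one]; exact one_mem _
  | mul x y _ _ hx hy => rw [map_mul]; exact mul_mem hx hy
  | inv x _ hx => rw [map_inv]; exact inv_mem hx

theorem sg_om {g : GL chevG2.Idx K} (hg : g ∈ chevG2.group K) :
    sg K m ⟨om g, om_mem_group hg⟩ = om (sg K m ⟨g, hg⟩) := by
  induction hg using Subgroup.closure_induction with
  | mem x hx =>
    obtain ⟨r, t, hy⟩ := hx
    obtain rfl : x = xG facts_chevG2 r t :=
      Units.ext (hy.trans (by rw [xG_val, ChevalleyDatum.x, dif_pos r.2]))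
    obtain ⟨s, hs⟩ : ∃ s : Fin chevG2.nroots, (s : ℕ) = chevG2.neg r :=
      ⟨⟨_, neg_lt facts_chevG2.{u} r.2⟩, rfl⟩
    have e : (⟨om (xG facts_chevG2 r t), om_mem_group (xG_mem_group facts_chevG2 r t)⟩ :
        ↥(chevG2.group K)) = ⟨xG facts_chevG2 s (-t), xG_mem_group facts_chevG2 _ _⟩ :=
      Subtype.ext (by rw [hs]; exact om_x r t)
    rw [show sg K m ⟨om (xG facts_chevG2 r t), _⟩ = _ from congrArg (sg K m) e, sg_x m s,
      show sg K m ⟨xG facts_chevG2 r t, _⟩ = _ from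
        sg_x m r t (xG_mem_group facts_chevG2 r t), om_x, ((rho_tables r).2.1 s hs).1, ((rho_tables r).2.1 s hs).2, map_neg]
    congr 1
    rcases (rho_tables r).1 with h | h <;> rw [h] <;> ring
  | one =>
    have e : (⟨om (1 : GL chevG2.Idx K), om_mem_group (one_mem _)⟩ : ↥(chevG2.group K)) = 1 :=
      Subtype.ext (map_one om)
    rw [show sg K m ⟨om (1 : GL chevG2.Idx K), _⟩ = _ from congrArg (sg K m) e, map_one]
    exact ((congrArg om (map_one (sg K m))).trans (map_one om)).symm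
  | mul x y hx hy ihx ihy =>
    have e : (⟨om (x * y), om_mem_group (mul_mem hx hy)⟩ : ↥(chevG2.group K)) =
        ⟨om x, om_mem_group hx⟩ * ⟨om y, om_mem_group hy⟩ := Subtype.ext (map_mul om x y)
    rw [show sg K m ⟨om (x * y), _⟩ = _ from congrArg (sg K m) e, map_mul, ihx, ihy,
      sg_mul m hx hy, map_mul]
  | inv x hx ih =>
    have e : (⟨om x⁻¹, om_mem_group (inv_mem hx)⟩ : ↥(chevG2.group K)) =
        ⟨om x, om_mem_group hx⟩⁻¹ := Subtype.ext (map_inv om x)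
    rw [show sg K m ⟨om x⁻¹, _⟩ = _ from congrArg (sg K m) e, map_inv, ih]
    exact (map_inv om _).symm.trans (congrArg om (map_inv (sg K m) ⟨x, hx⟩).symm)

theorem om_mem_fx {g : GL chevG2.Idx K} (hg : g ∈ fx m) : om g ∈ fx m := by
  obtain ⟨h, e⟩ := (mem_fx m).1 hg
  exact (mem_fx m).2 ⟨om_mem_group h, by rw [sg_om h, e]⟩

theorem wordG_negWord (w : List (ℕ × K)) (hw : ∀ p ∈ w, p.1 < chevG2.nroots) :
    wordG facts_chevG2 (chevG2.negWord w) = om (wordG facts_chevG2 w) := by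
  rw [wordG, wordG, map_list_prod, ChevalleyDatum.negWord, List.map_map, List.map_map]
  refine congrArg List.prod (List.map_congr_left fun p hp => ?_)
  exact (om_x ⟨p.1, hw p hp⟩ p.2).symm

theorem wordG_reeV (t u v : K) :
    wordG facts_chevG2 (reeWordV (3 ^ m) t u v) = om (R m t u v) := by
  rw [reeWordV, wordG_negWord, wordG_R]
  intro p hp
  simp only [reeWordU, List.mem_cons, List.not_mem_nil, or_false] at hp
  rcases hp with rfl | rfl | rfl | rfl | rfl | rfl <;>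
    simp [g2a, g2b, g2ab, g2aab, g2aaab, g2aaabb, nroots_eq]

theorem twistedG2_le_fx (hm : IsTheta K m) : twistedG2 K (3 ^ m) ≤ fx m := by
  refine (Subgroup.closure_le _).2 ?_
  rintro g ⟨w, ⟨t, u, v, rfl | rfl⟩, e⟩
  · obtain rfl : g = R m t u v := Units.ext (by rw [e, ← wordG_R, wordG_val])
    exact R_mem_fx hm t u v
  · obtain rfl : g = om (R m t u v) := Units.ext (by rw [e, ← wordG_reeV, wordG_val])
    exact om_mem_fx (R_mem_fx hm t u v)

theorem R_mem_G1 (t u v : K) : R m t u v ∈ twistedG2 K (3 ^ m) :=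
  Subgroup.subset_closure ⟨_, ⟨t, u, v, Or.inl rfl⟩, by rw [← wordG_R, wordG_val]⟩

theorem omR_mem_G1 (t u v : K) : om (R m t u v) ∈ twistedG2 K (3 ^ m) :=
  Subgroup.subset_closure ⟨_, ⟨t, u, v, Or.inr rfl⟩, by rw [← wordG_reeV, wordG_val]⟩

end Ree

end Cfsg.Agent.Chev
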