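import Cfsg.Agent.Chev.Ree.Arith

/-!
The class equation of `²G₂(q)` solved for the orders of the remaining tori.
-/

set_option autoImplicit false

namespace Cfsg.Agent.Chev.Ree

theorem cases_dvd_six {e : ℕ} (h : e ∣ 6) : e = 1 ∨ e = 2 ∨ e = 3 ∨ e = 6 := by
  have := Nat.le_of_dvd (by norm_num) h
  interval_cases e <;> omega

/-- One class is impossible. -/
theorem one_class_false {q Φ W C e : ℕ} (hq : 27 ≤ q) (hΦ : Φ + q = q ^ 2 + 1) (hW : 0 < W)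
    (he : e ∣ 6) (h6 : 6 * C + 2 * W * (q + 1) = 2 * W * Φ) (h : C * e + W = W * Φ) : False := by
  have hq2 : 27 * q ≤ q ^ 2 := by rw [pow_two]; exact Nat.mul_le_mul_right q hq
  have hWq : W * q ≤ W * Φ := Nat.mul_le_mul_left W (by omega)
  rcases cases_dvd_six he with rfl | rfl | rfl | rfl
  · nlinarith
  · nlinarith
  · nlinarith
  · have : W * Φ = W * (2 * q + 1) := by nlinarith
    have := mul_left_cancel₀ hW.ne' this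
    omega

/-- With two classes both normalisers act as groups of order six, and the orders have sum `2q + 2`. -/
theorem two_class {q Φ W C₁ C₂ a₁ a₂ e₁ e₂ : ℕ} (hW : 0 < W) (h1 : 7 ≤ a₁) (h2 : 7 ≤ a₂)
    (hΦ : a₁ * a₂ = Φ) (he₁ : e₁ ∣ 6) (he₂ : e₂ ∣ 6)
    (hC₁ : C₁ * e₁ + W * a₂ = W * Φ) (hC₂ : C₂ * e₂ + W * a₁ = W * Φ)
    (h6 : 6 * (C₁ + C₂) + 2 * W * (q + 1) = 2 * W * Φ) :
    e₁ = 6 ∧ e₂ = 6 ∧ a₁ + a₂ = 2 * (q + 1) := by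
  subst hΦ
  have k1 : W * (7 * a₂) ≤ W * (a₁ * a₂) :=
    Nat.mul_le_mul_left W (Nat.mul_le_mul_right a₂ h1)
  have k2 : W * (7 * a₁) ≤ W * (a₁ * a₂) :=
    Nat.mul_le_mul_left W (by rw [mul_comm a₁]; exact Nat.mul_le_mul_right a₁ h2)
  have hq : 0 < W * (q + 1) := Nat.mul_pos hW (by omega)
  have hpos : 0 < W * (a₁ * a₂) := Nat.mul_pos hW (Nat.mul_pos (by omega) (by omega))
  rcases cases_dvd_six he₁ with rfl | rfl | rfl | rfl <;>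
    rcases cases_dvd_six he₂ with rfl | rfl | rfl | rfl <;>
    first
      | (exfalso; linarith)
      | exact ⟨rfl, rfl, mul_left_cancel₀ hW.ne' (by linarith)⟩

/-- Three classes are impossible. -/
theorem three_class_false {q Φ W C C₁ C₂ C₃ a₁ a₂ a₃ n₁ n₂ n₃ e₁ e₂ e₃ : ℕ} (hW : 0 < W) (hΦ : 0 < Φ)
    (h1 : 7 ≤ a₁) (h2 : 7 ≤ a₂) (h3 : 7 ≤ a₃)
    (hn₁ : a₁ * n₁ = Φ) (hn₂ : a₂ * n₂ = Φ) (hn₃ : a₃ * n₃ = Φ)
    (he₁ : e₁ ∣ 6) (he₂ : e₂ ∣ 6) (he₃ : e₃ ∣ 6)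
    (hC₁ : C₁ * e₁ + W * n₁ = W * Φ) (hC₂ : C₂ * e₂ + W * n₂ = W * Φ)
    (hC₃ : C₃ * e₃ + W * n₃ = W * Φ) (hC : C₁ + C₂ + C₃ ≤ C)
    (h6 : 6 * C + 2 * W * (q + 1) = 2 * W * Φ) : False := by
  have hb : ∀ {D a n e : ℕ}, 7 ≤ a → a * n = Φ → e ∣ 6 → D * e + W * n = W * Φ →
      6 * (W * Φ) ≤ 7 * (6 * D) := by
    intro D a n e ha han he hD
    have k1 : W * (7 * n) ≤ W * Φ := Nat.mul_le_mul_left W (han ▸ Nat.mul_le_mul_right n ha)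
    have k2 : D * e ≤ D * 6 := Nat.mul_le_mul_left D (Nat.le_of_dvd (by norm_num) he)
    linarith
  have b1 := hb h1 hn₁ he₁ hC₁
  have b2 := hb h2 hn₂ he₂ hC₂
  have b3 := hb h3 hn₃ he₃ hC₃
  have hq : 0 < W * (q + 1) := Nat.mul_pos hW (by omega)
  have hpos : 0 < W * Φ := Nat.mul_pos hW hΦ
  linarith

/-- The two roots. -/
theorem two_roots (m : ℕ) {a₁ a₂ : ℕ} (hs : a₁ + a₂ = 2 * (3 ^ (2 * m + 1) + 1))
    (hp : a₁ * a₂ = (3 ^ (2 * m + 1)) ^ 2 - 3 ^ (2 * m + 1) + 1) :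
    (a₁ = 3 ^ (2 * m + 1) - 3 ^ (m + 1) + 1 ∧ a₂ = 3 ^ (2 * m + 1) + 3 ^ (m + 1) + 1) ∨
    (a₂ = 3 ^ (2 * m + 1) - 3 ^ (m + 1) + 1 ∧ a₁ = 3 ^ (2 * m + 1) + 3 ^ (m + 1) + 1) := by
  have h1 := sq_pow_succ m
  have h2 := pow_succ_le m
  have h3 : 3 ^ (2 * m + 1) ≤ (3 ^ (2 * m + 1)) ^ 2 := Nat.le_self_pow two_ne_zero _
  generalize 3 ^ (2 * m + 1) = q at *
  generalize 3 ^ (m + 1) = r at *
  have hp' : (a₁ : ℤ) * a₂ = (q : ℤ) ^ 2 - q + 1 := by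
    have := congrArg (fun n : ℕ => (n : ℤ)) hp
    push_cast [Nat.cast_sub h3] at this
    exact this
  have hs' : (a₁ : ℤ) + a₂ = 2 * (q + 1) := by exact_mod_cast hs
  have h1' : (r : ℤ) * r = 3 * q := by exact_mod_cast h1
  have key : ((a₁ : ℤ) - (q + 1 + r)) * ((a₁ : ℤ) - (q + 1 - r)) = 0 := by
    linear_combination (a₁ : ℤ) * hs' - hp' - h1'
  rcases mul_eq_zero.1 key with h | h
  · exact Or.inr ⟨by omega, by omega⟩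
  · exact Or.inl ⟨by omega, by omega⟩

end Cfsg.Agent.Chev.Ree
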