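import Cfsg.Agent.Chev.Ree.Quarter
import Cfsg.Agent.Chev.Ree.Seven
import Cfsg.Agent.Chev.Ree.ShortMod
import Cfsg.Agent.Chev.Ree.SingerNum

/-!
The cyclic Hall subgroups of `²G₂(q)` of orders dividing `q ² - q + 1`.
-/

set_option autoImplicit false
set_option maxRecDepth 100000
set_option maxHeartbeats 1000000

namespace Cfsg.Agent.Chev

open Cfsg.Lie
open scoped MatrixGroups

universe u

namespace Ree

/-- A cyclic subgroup with itself as the centraliser of each of its nontrivial elements, of full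
Sylow subgroups, and with a normaliser of index dividing six over it. -/
structure IsSinger {G : Type*} [Group G] (Φ : ℕ) (A : Subgroup G) : Prop where
  cyclic : IsCyclic A
  dvd : Nat.card A ∣ Φ
  cent : ∀ y ∈ A, y ≠ 1 → Subgroup.centralizer {y} = A
  ti : ∀ g, ∀ y ∈ A, y ≠ 1 → g * y * g⁻¹ ∈ A → g ∈ Subgroup.normalizer (A : Set G)
  hall : ∀ r : ℕ, r.Prime → r ∣ Nat.card A →
    (Nat.card A).factorization r = (Nat.card G).factorization r
  index : ∃ e : ℕ, e ∣ 6 ∧ Nat.card (Subgroup.normalizer (A : Set G)) = e * Nat.card A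

/-- The covering by conjugates, with one prime divisor. -/
theorem IsSinger.exists_conj {G : Type*} [Group G] [Finite G] {Φ : ℕ} {A : Subgroup G}
    (hA : IsSinger Φ A) {y : G} {r : ℕ} (hr : r.Prime) (hrA : r ∣ Nat.card A) (hy : r ∣ orderOf y) :
    ∃ g, g * y * g⁻¹ ∈ A ∧ g * y * g⁻¹ ≠ 1 := by
  haveI : Fact r.Prime := ⟨hr⟩
  obtain ⟨k, hk⟩ := exists_pow_orderOf hr hy
  obtain ⟨g, hg⟩ := exists_conj_mem_of_factorization (r := r) (n := 1) A (hA.hall r hr hrA) (x := y ^ k)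
    (by rw [pow_one]; exact orderOf_dvd_iff_pow_eq_one.1 (dvd_of_eq hk))
  have hne : g * y ^ k * g⁻¹ ≠ 1 := fun e => by
    rw [conj_eq_one_iff.1 e, orderOf_one] at hk
    exact hr.one_lt.ne hk
  refine ⟨g, ?_, fun e => hne (by rw [← conj_pow, e, one_pow])⟩
  rw [← hA.cent _ hg hne, Subgroup.mem_centralizer_singleton_iff, ← conj_pow]
  exact (Commute.self_pow _ k).eq

/-- The number of elements with a nontrivial conjugate in such a subgroup. -/
theorem IsSinger.card_cover {G : Type*} [Group G] [Finite G] {Φ : ℕ} {A : Subgroup G}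
    (hA : IsSinger Φ A) :
    Nat.card {y : G // ∃ g, g * y * g⁻¹ ∈ A ∧ g * y * g⁻¹ ≠ 1} *
        Nat.card (Subgroup.normalizer (A : Set G)) + Nat.card G = Nat.card G * Nat.card A := by
  classical
  have := Fintype.ofFinite G
  have h := Ree.card_cover {x : G | x ∈ A ∧ x ≠ 1} (Subgroup.normalizer (A : Set G))
    (fun n hn d hd => ⟨(Subgroup.mem_normalizer_iff.1 hn d).1 hd.1,
      fun e => hd.2 (conj_eq_one_iff.1 e)⟩)
    (fun g d hd hg => hA.ti g d hd.1 hd.2 hg.1)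
  have hD : Nat.card ↥{x : G | x ∈ A ∧ x ≠ 1} + 1 = Nat.card A := by
    rw [← Finite.card_option]
    refine Nat.card_eq_of_bijective
      (fun o : Option ↥{x : G | x ∈ A ∧ x ≠ 1} => o.elim (1 : A) fun x => ⟨x.1, x.2.1⟩) ⟨?_, ?_⟩
    · rintro (_ | a) (_ | b) e
      · rfl
      · exact absurd (congrArg Subtype.val e).symm b.2.2
      · exact absurd (congrArg Subtype.val e) a.2.2
      · exact congrArg some (Subtype.ext (congrArg (fun z : A => (z : G)) e))
    · intro a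
      by_cases ha : (a : G) = 1
      · exact ⟨none, Subtype.ext ha.symm⟩
      · exact ⟨some ⟨a, a.2, ha⟩, rfl⟩
  rw [← hD, mul_add, mul_one, ← h]
  rfl

variable {K : Type u} [Field K] [Fintype K] [CharP K 3] {m : ℕ}
  (hK : Fintype.card K = 3 ^ (2 * m + 1))
include hK

theorem phi_pos : 0 < (3 ^ (2 * m + 1)) ^ 2 - 3 ^ (2 * m + 1) + 1 := Nat.succ_pos _

theorem card_G1_prod : Nat.card (G1 K m) = (3 ^ (2 * m + 1)) ^ 3 * (3 ^ (2 * m + 1) - 1) *
    ((3 ^ (2 * m + 1) + 1) * ((3 ^ (2 * m + 1)) ^ 2 - 3 ^ (2 * m + 1) + 1)) := by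
  rw [card_G1 hK, cube_add_one]

/-- An element of prime order dividing `q ² - q + 1` determines such a subgroup. -/
theorem exists_singer (hm : 1 ≤ m) {r : ℕ} (hr : r.Prime)
    (hrΦ : r ∣ (3 ^ (2 * m + 1)) ^ 2 - 3 ^ (2 * m + 1) + 1) :
    ∃ A : Subgroup (G1 K m), IsSinger ((3 ^ (2 * m + 1)) ^ 2 - 3 ^ (2 * m + 1) + 1) A ∧
      r ∣ Nat.card A := by
  classical
  haveI : Fact (Nat.Prime 3) := ⟨Nat.prime_three⟩
  haveI := (simple hK hm).1
  obtain ⟨T, a₀, hT, -, -, -, -, hTC, -, -, hTconj⟩ := exists_quarter hK hm (m := m) (K := K)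
  set q := 3 ^ (2 * m + 1) with hq
  set Φ := q ^ 2 - q + 1 with hΦ
  have h8 : q % 8 = 3 := pow_odd_mod m
  have h27 : 27 ≤ q := le_pow_odd hm
  have h3q : 3 ∣ q := dvd_pow_self 3 (by omega)
  -- any prime divisor of `q ² - q + 1` is prime to the rest
  have hprime : ∀ s : ℕ, s.Prime → s ∣ Φ → s ≠ 2 ∧ s ≠ 3 ∧ ¬ s ∣ q ∧ ¬ s ∣ q - 1 ∧ ¬ s ∣ q + 1 := by
    intro s hs hsΦ
    have hpf := prime_facts (q := q) (by omega) hs
    have hs3 : s ≠ 3 := fun e => hpf.2.2.2.2.2 ⟨e ▸ h3q, hsΦ⟩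
    have h2' : s ≠ 2 := fun e => hpf.2.2.1 ⟨by subst e; omega, hsΦ⟩
    exact ⟨h2', hs3, fun h => hpf.2.2.2.2.2 ⟨h, hsΦ⟩, fun h => hpf.2.2.1 ⟨h, hsΦ⟩,
      fun h => hs3 (hpf.2.1 h hsΦ)⟩
  have main : ∀ s : ℕ, s.Prime → s ∣ Φ → ∀ x : G1 K m, orderOf x = s →
      IsCyclic ↥(Subgroup.centralizer {x}) ∧ Nat.card ↥(Subgroup.centralizer {x}) ∣ Φ ∧
      ∀ g : G1 K m, g * x * g⁻¹ ∈ Subgroup.zpowers x → g ^ 6 ∈ Subgroup.centralizer {x} := by
    intro s hs hsΦ x hx
    obtain ⟨h2, h3, hq0, hq1, hq2⟩ := hprime s hs hsΦ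
    have hnotC : ∀ z : G1 K m, ∀ n : ℕ, Nat.card ↥(Subgroup.centralizer {z}) = n → Commute z x →
        s ∣ n := fun z n hz hc => by
      rw [← hz, ← hx]
      exact Subgroup.orderOf_dvd_natCard _ (Subgroup.mem_centralizer_singleton_iff.2 hc.eq.symm)
    -- an element of prime order commuting with `x`
    have hcomm : ∀ z : G1 K m, ∀ p : ℕ, p.Prime → orderOf z = p → Commute z x →
        ¬ p ∣ q - 1 ∧ ¬ p ∣ q + 1 := by
      intro z p hp hz hc
      have hp2 : p ≠ 2 := by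
        intro e
        have hz1 : z ≠ 1 := fun e' => by rw [e', orderOf_one] at hz; exact hp.one_lt.ne hz
        have hzz : z * z = 1 := by
          rw [← pow_two]; exact orderOf_dvd_iff_pow_eq_one.1 (dvd_of_eq (hz.trans e))
        obtain ⟨g, hg⟩ := involutions_conj hK hm hzz hz1
        have hcard : Nat.card ↥(Subgroup.centralizer {z}) = q * ((q - 1) * (q + 1)) := by
          rw [← hg, ← card_centralizer_invJ hK (m := m) (K := K)]
          refine Nat.card_congr (Equiv.subtypeEquiv (MulAut.conj g⁻¹).toEquiv fun c => ?_)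
          show c ∈ Subgroup.centralizer {g * invJ * g⁻¹} ↔
            g⁻¹ * c * g⁻¹⁻¹ ∈ Subgroup.centralizer {(invJ : G1 K m)}
          rw [Subgroup.mem_centralizer_singleton_iff, Subgroup.mem_centralizer_singleton_iff]
          constructor
          · intro h
            calc g⁻¹ * c * g⁻¹⁻¹ * invJ = g⁻¹ * (c * (g * invJ * g⁻¹)) * g := by group
              _ = g⁻¹ * (g * invJ * g⁻¹ * c) * g := by rw [h]
              _ = invJ * (g⁻¹ * c * g⁻¹⁻¹) := by group
          · intro h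
            calc c * (g * invJ * g⁻¹) = g * (g⁻¹ * c * g⁻¹⁻¹ * invJ) * g⁻¹ := by group
              _ = g * (invJ * (g⁻¹ * c * g⁻¹⁻¹)) * g⁻¹ := by rw [h]
              _ = g * invJ * g⁻¹ * c := by group
        have h := hnotC z _ hcard hc
        rcases hs.dvd_mul.1 h with h | h
        · exact hq0 h
        · rcases hs.dvd_mul.1 h with h | h
          · exact hq1 h
          · exact hq2 h
      constructor
      · intro hpq
        obtain ⟨g, c, hc2, hgz⟩ := exists_conj_H1 hK hp hp2 hpq (y := z) (by rw [hz])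
        have hd : orderOf (g * x * g⁻¹) ∣ Nat.card (H1 hK : Subgroup (G1 K m)) := by
          refine Subgroup.orderOf_dvd_natCard _ ?_
          rw [← centralizer_tt hK hc2, Subgroup.mem_centralizer_singleton_iff, ← hgz]
          calc g * x * g⁻¹ * (g * z * g⁻¹) = g * (x * z) * g⁻¹ := by group
            _ = g * (z * x) * g⁻¹ := by rw [hc.eq]
            _ = _ := by group
        rw [← MulAut.conj_apply, MulEquiv.orderOf_eq, hx, card_H1_eq hK] at hd
        exact hq1 hd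
      · intro hpq
        have hpb : p ∣ (q + 1) / 4 := by
          have h4 : q + 1 = 4 * ((q + 1) / 4) := by omega
          rw [h4] at hpq
          refine (Nat.Coprime.dvd_of_dvd_mul_left ?_ hpq)
          rw [show 4 = 2 ^ 2 from rfl]
          exact ((Nat.coprime_primes hp Nat.prime_two).2 hp2).pow_right 2
        obtain ⟨g, hg, hg2⟩ := hTconj z p hp hpb (by rw [hz])
        have hd : orderOf (g * x * g⁻¹) ∣ Nat.card T := by
          refine Subgroup.orderOf_dvd_natCard _ ?_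
          rw [← hTC _ hg hg2, Subgroup.mem_centralizer_singleton_iff]
          calc g * x * g⁻¹ * (g * z * g⁻¹) = g * (x * z) * g⁻¹ := by group
            _ = g * (z * x) * g⁻¹ := by rw [hc.eq]
            _ = _ := by group
        rw [← MulAut.conj_apply, MulEquiv.orderOf_eq, hx, hT.card] at hd
        exact hq2 hd
    have hcop : ∀ g, Commute g x → g ^ (Fintype.card K - 1) = 1 → g = 1 := by
      intro g hg hpow
      by_contra hne
      obtain ⟨p, hp, hpd⟩ := Nat.exists_prime_and_dvd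
        (show orderOf g ≠ 1 from fun e => hne (orderOf_eq_one_iff.1 e))
      obtain ⟨k, hk⟩ := exists_pow_orderOf hp hpd
      exact (hcomm _ p hp hk (hg.pow_left k)).1
        (hpd.trans (by rw [← hK]; exact orderOf_dvd_of_pow_eq_one hpow))
    have h6 : s ∣ Fintype.card K ^ 3 + 1 := by
      rw [hK, cube_add_one]
      exact dvd_mul_of_dvd_right hsΦ _
    have h1 : ¬ s ∣ Fintype.card K ^ 2 - 1 := by
      rw [hK, sq_sub_one]
      exact fun h => (hs.dvd_mul.1 h).elim hq1 hq2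
    obtain ⟨hcyc, hdvd, hsix⟩ := seven_group (finrank_short hK) (shortRep hK)
      (shortRep_injective hK hm) hs h2 h6 h1 hx hcop
    refine ⟨hcyc, ?_, hsix⟩
    set C := Subgroup.centralizer {x} with hC
    have hcopr : Nat.Coprime (Nat.card C) (q ^ 3 * (q - 1) * (q + 1)) := by
      refine Nat.coprime_of_dvd fun p hp hpC hpd => ?_
      haveI : Fact p.Prime := ⟨hp⟩
      obtain ⟨z, hz⟩ := exists_prime_orderOf_dvd_card' (G := C) p hpC
      have hzc : Commute (z : G1 K m) x := Subgroup.mem_centralizer_singleton_iff.1 z.2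
      obtain ⟨hp1, hp2⟩ := hcomm z p hp (by rw [Subgroup.orderOf_coe, hz]) hzc
      rcases hp.dvd_mul.1 hpd with hpd | hpd
      · rcases hp.dvd_mul.1 hpd with hpd | hpd
        · have hp6 : p ∣ Fintype.card K ^ 6 - 1 := hpC.trans hdvd
          have hp6' : p ∣ Fintype.card K ^ 6 := by
            rw [hK]; exact dvd_pow (hp.dvd_of_dvd_pow hpd) (by norm_num)
          have h1le : 1 ≤ Fintype.card K ^ 6 := Nat.one_le_pow _ _ Fintype.card_pos
          exact hp.one_lt.ne' (Nat.dvd_one.1 ((Nat.dvd_add_right hp6).1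
            (by rwa [Nat.sub_add_cancel h1le])))
        · exact hp1 hpd
      · exact hp2 hpd
    refine hcopr.dvd_of_dvd_mul_left ?_
    have := Subgroup.card_subgroup_dvd_card C
    rw [card_G1_prod hK, ← mul_assoc] at this
    exact this
  obtain ⟨x, hx⟩ : ∃ x : G1 K m, orderOf x = r := by
    haveI : Fact r.Prime := ⟨hr⟩
    refine exists_prime_orderOf_dvd_card' r ?_
    rw [card_G1_prod hK]
    exact dvd_mul_of_dvd_right (dvd_mul_of_dvd_right hrΦ _) _
  obtain ⟨hAc, hAd, hA6⟩ := main r hr hrΦ x hx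
  set A := Subgroup.centralizer {x} with hA
  have hxA : x ∈ A := Subgroup.mem_centralizer_singleton_iff.2 rfl
  have hx1 : x ≠ 1 := fun e => by rw [e, orderOf_one] at hx; exact hr.one_lt.ne hx
  -- subgroups of this kind are commutative
  have hab : ∀ {C : Subgroup (G1 K m)}, IsCyclic C → ∀ u ∈ C, ∀ v ∈ C, u * v = v * u := by
    intro C hC u hu v hv
    haveI := hC
    obtain ⟨g, hg⟩ := IsCyclic.exists_generator (α := C)
    obtain ⟨i, hi⟩ := hg ⟨u, hu⟩
    obtain ⟨j, hj⟩ := hg ⟨v, hv⟩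
    have := congrArg Subtype.val ((Commute.zpow_zpow_self g i j).eq)
    simp only at hi hj
    simp only [hi, hj, Subgroup.coe_mul] at this
    exact this
  have hcent : ∀ y ∈ A, y ≠ 1 → Subgroup.centralizer {y} = A := by
    intro y hy hy1
    refine le_antisymm ?_ fun g hg => Subgroup.mem_centralizer_singleton_iff.2 (hab hAc g hg y hy)
    obtain ⟨p, hp, hpd⟩ := Nat.exists_prime_and_dvd
      (show orderOf y ≠ 1 from fun e => hy1 (orderOf_eq_one_iff.1 e))
    obtain ⟨k, hk⟩ := exists_pow_orderOf hp hpd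
    have hpΦ : p ∣ Φ := hpd.trans ((Subgroup.orderOf_dvd_natCard _ hy).trans hAd)
    obtain ⟨hcyc, -, -⟩ := main p hp hpΦ (y ^ k) hk
    intro g hg
    have hxm : x ∈ Subgroup.centralizer {y ^ k} :=
      Subgroup.mem_centralizer_singleton_iff.2 (hab hAc x hxA _ (pow_mem hy k))
    have hgm : g ∈ Subgroup.centralizer {y ^ k} := Subgroup.mem_centralizer_singleton_iff.2
      ((show Commute g y from Subgroup.mem_centralizer_singleton_iff.1 hg).pow_right k).eq
    exact Subgroup.mem_centralizer_singleton_iff.2 (hab hcyc g hgm x hxm)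
  have hti : ∀ g, ∀ y ∈ A, y ≠ 1 → g * y * g⁻¹ ∈ A → g ∈ Subgroup.normalizer (A : Set (G1 K m)) := by
    intro g y hy hy1 hgy
    have e1 := hcent y hy hy1
    have e2 := hcent _ hgy (fun e => hy1 (conj_eq_one_iff.1 e))
    refine Subgroup.mem_normalizer_iff.2 fun z => ?_
    conv_lhs => rw [← e1]
    conv_rhs => rw [← e2]
    rw [Subgroup.mem_centralizer_singleton_iff, Subgroup.mem_centralizer_singleton_iff]
    constructor
    · intro h
      calc g * z * g⁻¹ * (g * y * g⁻¹) = g * (z * y) * g⁻¹ := by group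
        _ = g * (y * z) * g⁻¹ := by rw [h]
        _ = _ := by group
    · intro h
      calc z * y = g⁻¹ * (g * z * g⁻¹ * (g * y * g⁻¹)) * g := by group
        _ = g⁻¹ * (g * y * g⁻¹ * (g * z * g⁻¹)) * g := by rw [h]
        _ = _ := by group
  refine ⟨A, ⟨hAc, hAd, hcent, hti, ?_, ?_⟩, hx ▸ Subgroup.orderOf_dvd_natCard _ hxA⟩
  · -- full Sylow subgroups
    intro p hp hpA
    haveI : Fact p.Prime := ⟨hp⟩
    obtain ⟨z, hz⟩ := exists_prime_orderOf_dvd_card' (G := A) p hpA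
    have hz' : orderOf (z : G1 K m) = p := by rw [Subgroup.orderOf_coe, hz]
    have hz1 : (z : G1 K m) ≠ 1 := fun e => by rw [e, orderOf_one] at hz'; exact hp.one_lt.ne hz'
    have hpz : IsPGroup p (Subgroup.zpowers (z : G1 K m)) :=
      IsPGroup.of_card (n := 1) (by rw [Nat.card_zpowers, hz', pow_one])
    obtain ⟨R, hR⟩ := hpz.exists_le_sylow
    haveI : Nontrivial (R : Subgroup (G1 K m)) :=
      ⟨⟨⟨z, hR (Subgroup.mem_zpowers _)⟩, 1, fun e => hz1 (congrArg Subtype.val e :)⟩⟩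
    haveI : Nontrivial (Subgroup.center ↥(R : Subgroup (G1 K m))) := R.2.center_nontrivial
    obtain ⟨c, hc⟩ := exists_ne (1 : Subgroup.center ↥(R : Subgroup (G1 K m)))
    obtain ⟨n, hn⟩ := R.2 c.1
    have hcd : p ∣ orderOf (c.1 : G1 K m) := by
      obtain ⟨i, -, hi⟩ := (Nat.dvd_prime_pow hp).1 (orderOf_dvd_of_pow_eq_one hn)
      rw [Subgroup.orderOf_coe, hi]
      refine dvd_pow_self p fun e => hc (Subtype.ext ?_)
      rw [e, pow_zero, orderOf_eq_one_iff] at hi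
      exact hi
    obtain ⟨k, hk⟩ := exists_pow_orderOf hp hcd
    have hpΦ : p ∣ Φ := hpA.trans hAd
    obtain ⟨hcyc, -, -⟩ := main p hp hpΦ _ hk
    have hRle : ∀ g ∈ (R : Subgroup (G1 K m)),
        g ∈ Subgroup.centralizer {(c.1 : G1 K m) ^ k} := by
      intro g hg
      have := congrArg Subtype.val ((Subgroup.mem_center_iff.1 c.2) ⟨g, hg⟩)
      exact Subgroup.mem_centralizer_singleton_iff.2 ((show Commute g (c.1 : G1 K m) from this).pow_right k).eq
    have hRA : (R : Subgroup (G1 K m)) ≤ A := fun g hg => by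
      rw [← hcent _ z.2 hz1, Subgroup.mem_centralizer_singleton_iff]
      exact hab hcyc g (hRle g hg) z (hRle z (hR (Subgroup.mem_zpowers _)))
    refine le_antisymm ((Nat.factorization_le_iff_dvd Nat.card_pos.ne' Nat.card_pos.ne').2
      (Subgroup.card_subgroup_dvd_card A) p) ?_
    refine (hp.pow_dvd_iff_le_factorization Nat.card_pos.ne').1 ?_
    rw [← R.card_eq_multiplicity]
    exact Subgroup.card_dvd_of_le hRA
  · -- the index of the normaliser
    set N := Subgroup.normalizer (A : Set (G1 K m)) with hN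
    haveI : Fact r.Prime := ⟨hr⟩
    have hAx : ∀ g ∈ N, g * x * g⁻¹ ∈ Subgroup.zpowers x := by
      intro g hg
      have h1 : g * x * g⁻¹ ∈ A := (Subgroup.mem_normalizer_iff.1 hg x).1 hxA
      haveI := hAc
      haveI : Fintype A := Fintype.ofFinite _
      let P : Finset A := Finset.univ.filter fun a : A => a ^ r = 1
      have hPle : P.card ≤ r := IsCyclic.card_pow_eq_one_le hr.pos
      let Q : Finset A := (Finset.univ : Finset (Fin r)).image fun i : Fin r => (⟨x, hxA⟩ : A) ^ (i : ℕ)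
      have hQ : Q.card = r := by
        rw [Finset.card_image_of_injective, Finset.card_univ, Fintype.card_fin]
        intro i j e
        have e' : x ^ (i : ℕ) = x ^ (j : ℕ) := congrArg Subtype.val e
        refine Fin.ext (pow_injOn_Iio_orderOf ?_ ?_ e') <;>
          simp only [Set.mem_Iio, hx] <;> exact Fin.is_lt _
      have hQP : Q ⊆ P := by
        intro y hy
        obtain ⟨i, -, rfl⟩ := Finset.mem_image.1 hy
        refine Finset.mem_filter.2 ⟨Finset.mem_univ _, Subtype.ext ?_⟩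
        show (x ^ (i : ℕ)) ^ r = 1
        rw [← pow_mul, mul_comm, pow_mul, orderOf_dvd_iff_pow_eq_one.1 (dvd_of_eq hx), one_pow]
      have heq : Q = P := Finset.eq_of_subset_of_card_le hQP (hQ ▸ hPle)
      have hmem : (⟨g * x * g⁻¹, h1⟩ : A) ∈ P := by
        refine Finset.mem_filter.2 ⟨Finset.mem_univ _, Subtype.ext ?_⟩
        show (g * x * g⁻¹) ^ r = 1
        rw [conj_pow, orderOf_dvd_iff_pow_eq_one.1 (dvd_of_eq hx)]
        group
      rw [← heq] at hmem
      obtain ⟨i, -, hi⟩ := Finset.mem_image.1 hmem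
      rw [show g * x * g⁻¹ = x ^ (i : ℕ) from (congrArg Subtype.val hi).symm]
      exact Subgroup.npow_mem_zpowers _ _
    have hex : ∀ g : N, ∃ k : ℕ, (g : G1 K m) * x * (g : G1 K m)⁻¹ = x ^ k := fun g => by
      obtain ⟨k, hk⟩ := (isOfFinOrder_of_finite x).mem_powers_iff_mem_zpowers.2 (hAx g g.2)
      exact ⟨k, hk.symm⟩
    choose κ hκ using hex
    have hcast : ∀ i j : ℕ, x ^ i = x ^ j ↔ ((i : ZMod r) = j) := fun i j => by
      rw [(isOfFinOrder_of_finite x).pow_eq_pow_iff_modEq, hx, ZMod.natCast_eq_natCast_iff]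
    let φ : N →* ZMod r :=
      { toFun := fun g => (κ g : ZMod r)
        map_one' := by
          rw [← Nat.cast_one, ← hcast, ← hκ, Subgroup.coe_one, one_mul, inv_one, mul_one, pow_one]
        map_mul' := fun g h => by
          rw [← Nat.cast_mul, ← hcast, ← hκ, Subgroup.coe_mul]
          calc (g : G1 K m) * h * x * ((g : G1 K m) * h)⁻¹
              = (g : G1 K m) * ((h : G1 K m) * x * (h : G1 K m)⁻¹) * (g : G1 K m)⁻¹ := by group
            _ = ((g : G1 K m) * x * (g : G1 K m)⁻¹) ^ κ h := by rw [hκ h, conj_pow]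
            _ = _ := by rw [hκ g, ← pow_mul] }
    let ψ : N →* (ZMod r)ˣ := φ.toHomUnits
    have hψker : ∀ g : N, g ∈ ψ.ker ↔ (g : G1 K m) ∈ A := by
      intro g
      rw [MonoidHom.mem_ker, Units.ext_iff]
      show (κ g : ZMod r) = 1 ↔ _
      rw [← Nat.cast_one, ← hcast, pow_one, ← hκ, hA, Subgroup.mem_centralizer_singleton_iff]
      exact mul_inv_eq_iff_eq_mul
    have hA_N : A ≤ N := Subgroup.le_normalizer
    refine ⟨Nat.card ψ.range, ?_, ?_⟩
    · obtain ⟨gen, hgen⟩ := IsCyclic.exists_generator (α := ψ.range)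
      rw [← orderOf_eq_card_of_forall_mem_zpowers hgen]
      refine orderOf_dvd_of_pow_eq_one ?_
      obtain ⟨g, hg⟩ := gen.2
      refine Subtype.ext ?_
      rw [Subgroup.coe_pow, ← hg, ← map_pow, Subgroup.coe_one]
      refine MonoidHom.mem_ker.1 ((hψker _).2 ?_)
      rw [Subgroup.coe_pow]
      exact hA6 g (hAx g g.2)
    · rw [← Subgroup.card_mul_index ψ.ker, Subgroup.index_ker, mul_comm]
      congr 1
      exact Nat.card_congr
        { toFun := fun g => ⟨g.1.1, (hψker g.1).1 g.2⟩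
          invFun := fun a => ⟨⟨a.1, hA_N a.2⟩, (hψker _).2 a.2⟩
          left_inv := fun g => rfl
          right_inv := fun g => rfl }

set_option maxHeartbeats 4000000 in
/-- The elements whose order has a prime divisor in common with `q ² - q + 1`, counted. -/
theorem card_singer_elements (hm : 1 ≤ m) :
    6 * Nat.card {y : G1 K m // ∃ p : ℕ, p.Prime ∧ p ∣ (3 ^ (2 * m + 1)) ^ 2 - 3 ^ (2 * m + 1) + 1 ∧
        p ∣ orderOf y} +
      2 * ((3 ^ (2 * m + 1)) ^ 3 * (3 ^ (2 * m + 1) - 1) * (3 ^ (2 * m + 1) + 1)) *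
        (3 ^ (2 * m + 1) + 1) =
      2 * ((3 ^ (2 * m + 1)) ^ 3 * (3 ^ (2 * m + 1) - 1) * (3 ^ (2 * m + 1) + 1)) *
        ((3 ^ (2 * m + 1)) ^ 2 - 3 ^ (2 * m + 1) + 1) := by
  classical
  obtain ⟨T, a₀, hT, -, -, hTsq, hV, hTC, hTTI, hNT, hTconj⟩ := exists_quarter hK hm (m := m) (K := K)
  have hB := card_B1 hK (m := m) (K := K)
  have h3 := card_order_three_mul hK 3 dvd_rfl (m := m) (K := K)
  have h6 := card_order_three_mul hK 6 (by norm_num) (m := m) (K := K)
  have h9 := card_order_three_mul hK 9 (by norm_num) (m := m) (K := K)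
  rw [card_B1_order hK 3 dvd_rfl, if_pos rfl, hB] at h3
  rw [card_B1_order hK 6 (by norm_num), if_neg (by norm_num), if_pos (Or.inl rfl), hB] at h6
  rw [card_B1_order hK 9 (by norm_num), if_neg (by norm_num), if_pos (Or.inr rfl), hB] at h9
  set q := 3 ^ (2 * m + 1) with hq
  set Φ := q ^ 2 - q + 1 with hΦ
  have h8 : q % 8 = 3 := pow_odd_mod m
  have h27 : 27 ≤ q := le_pow_odd hm
  have hG : Nat.card (G1 K m) = q ^ 3 * (q - 1) * ((q + 1) * Φ) := card_G1_prod hK
  -- involutions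
  have hI : Nat.card {y : G1 K m // orderOf y = 2} * (q * ((q - 1) * (q + 1))) = Nat.card (G1 K m) := by
    have h := card_cover ({invJ} : Set (G1 K m)) (Subgroup.centralizer {invJ})
      (fun n hn d hd => by
        obtain rfl : d = invJ := hd
        exact Set.mem_singleton_iff.2
          (mul_inv_eq_iff_eq_mul.2 (Subgroup.mem_centralizer_singleton_iff.1 hn)))
      (fun g d hd hg => by
        obtain rfl : d = invJ := hd
        exact Subgroup.mem_centralizer_singleton_iff.2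
          (mul_inv_eq_iff_eq_mul.1 (Set.mem_singleton_iff.1 hg)))
    rw [card_centralizer_invJ hK, ← hq,
      show Nat.card ↥({invJ} : Set (G1 K m)) = 1 by simp, mul_one] at h
    rw [← h]
    congr 1
    refine Nat.card_congr (Equiv.subtypeEquivRight fun y => ⟨fun hy => ?_, ?_⟩)
    · have hyy : y * y = 1 := by rw [← pow_two]; exact orderOf_dvd_iff_pow_eq_one.1 (dvd_of_eq hy)
      obtain ⟨g, hg⟩ := involutions_conj hK hm hyy (fun e => by
        rw [e, orderOf_one] at hy; exact absurd hy (by norm_num))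
      exact ⟨g⁻¹, Set.mem_singleton_iff.2 (by rw [← hg]; group)⟩
    · rintro ⟨g, hg⟩
      rw [← MulEquiv.orderOf_eq (MulAut.conj g), MulAut.conj_apply, Set.mem_singleton_iff.1 hg]
      exact orderOf_eq_prime (by rw [pow_two]; exact invJ_sq) (invJ_ne_one hK)
  -- the split torus
  have hA : Nat.card {y : G1 K m // ∃ g, ∃ c : Kˣ, c ^ 2 ≠ 1 ∧ g * y * g⁻¹ = tt hK c} * (2 * (q - 1)) =
      Nat.card (G1 K m) * (q - 3) := by
    have h := card_cover {x : G1 K m | ∃ c : Kˣ, c ^ 2 ≠ 1 ∧ x = tt hK c} (N1 hK)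
      (fun n hn d hd => by
        obtain ⟨c, hc, rfl⟩ := hd
        obtain ⟨e, rfl | rfl⟩ := hn
        · exact ⟨c, hc, by rw [← map_inv, ← map_mul, ← map_mul, mul_comm e c, mul_inv_cancel_right]⟩
        · refine ⟨c⁻¹, fun h => hc (by rwa [inv_pow, inv_eq_one] at h), ?_⟩
          rw [mul_inv_rev, nn_inv hK, ← nn_conj_tt' hK, mul_assoc nn (tt hK e), ← map_mul,
            mul_comm e c, map_mul]
          simp only [mul_assoc, mul_inv_cancel_left])
      (fun g d hd hg => by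
        obtain ⟨c, hc, rfl⟩ := hd
        obtain ⟨c', -, hc'⟩ := hg
        exact mem_N1_of_conj hK hc ⟨c', hc'.symm⟩)
    rw [card_N1 hK, ← hq] at h
    have hD : Nat.card ↥{x : G1 K m | ∃ c : Kˣ, c ^ 2 ≠ 1 ∧ x = tt hK c} = q - 3 := by
      have h2 : Fintype.card {c : Kˣ // c ^ 2 = 1} = 2 := by
        rw [← Nat.card_eq_fintype_card]
        refine Nat.card_eq_two_iff.2 ⟨⟨1, one_pow 2⟩, ⟨-1, by simp⟩, fun e =>
          neg_one_ne_one (congrArg Subtype.val e).symm, Set.eq_univ_of_forall fun c => ?_⟩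
        have h' : ((c.1 : Kˣ) : K) ^ 2 = 1 := by rw [← Units.val_pow_eq_pow_val, c.2, Units.val_one]
        rcases sq_eq_one_iff.1 h' with e | e
        · exact Or.inl (Subtype.ext (Units.ext e))
        · exact Or.inr (Subtype.ext (Units.ext (by rw [e, Units.val_neg, Units.val_one])))
      have e := Nat.card_eq_of_bijective
        (fun c : {c : Kˣ // c ^ 2 ≠ 1} => (⟨tt hK c.1, c.1, c.2, rfl⟩ :
          ↥{x : G1 K m | ∃ c : Kˣ, c ^ 2 ≠ 1 ∧ x = tt hK c})) ⟨fun a b e => Subtype.ext (tt_injective hK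
            (congrArg Subtype.val e :)), by
          rintro ⟨x, c, hc, rfl⟩
          exact ⟨⟨c, hc⟩, rfl⟩⟩
      rw [← e, Nat.card_eq_fintype_card, Fintype.card_subtype_compl, h2, Fintype.card_units, hK]
      omega
    rw [hD] at h
    exact h
  -- the torus of order `q + 1`
  have hTb : Nat.card {y : G1 K m // ∃ g, g * y * g⁻¹ ∈ T ∧ (g * y * g⁻¹) ^ 2 ≠ 1} * (6 * (q + 1)) =
      Nat.card (G1 K m) * (q - 3) := by
    have h := card_cover {x : G1 K m | x ∈ T ∧ x ^ 2 ≠ 1} (Subgroup.normalizer (T : Set (G1 K m)))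
      (fun n hn d hd => ⟨(Subgroup.mem_normalizer_iff.1 hn d).1 hd.1, fun e => hd.2 (by
        rwa [conj_pow, conj_eq_one_iff] at e)⟩)
      (fun g d hd hg => hTTI g d hd.1 hd.2 hg.1)
    rw [hNT] at h
    have hD : Nat.card ↥{x : G1 K m | x ∈ T ∧ x ^ 2 ≠ 1} = q - 3 := by
      rw [show Nat.card ↥{x : G1 K m | x ∈ T ∧ x ^ 2 ≠ 1} = Nat.card {x : T // ¬ (x : G1 K m) ^ 2 = 1} from
        (Nat.card_congr
          { toFun := fun x => ⟨⟨x.1, x.2.1⟩, x.2.2⟩
            invFun := fun x => ⟨x.1.1, x.1.2, x.2⟩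
            left_inv := fun x => rfl
            right_inv := fun x => rfl }), Nat.card_eq_fintype_card, Fintype.card_subtype_compl,
        ← Nat.card_eq_fintype_card, hT.card, ← Nat.card_eq_fintype_card, hV]
      omega
    rw [hD] at h
    exact h
  -- the orders met so far are prime to `Φ`
  have hcopΦ : ∀ (y : G1 K m) (n : ℕ), orderOf y ∣ n →
      (n = 18 ∨ n = q - 1 ∨ n = q + 1) →
      ¬ ∃ p : ℕ, p.Prime ∧ p ∣ Φ ∧ p ∣ orderOf y := by
    rintro y n hn hcases ⟨p, hp, hpΦ, hpy⟩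
    have hpf := prime_facts (q := q) (by omega) hp
    have hp3 : p ≠ 3 := fun e => hpf.2.2.2.2.2 ⟨e ▸ dvd_pow_self 3 (by omega), hpΦ⟩
    have hp2 : p ≠ 2 := fun e => hpf.2.2.1 ⟨by subst e; omega, hpΦ⟩
    rcases hcases with rfl | rfl | rfl
    · have : p ∣ 2 * 3 ^ 2 := hpy.trans hn
      rcases hp.dvd_mul.1 this with h | h
      · exact hp2 ((Nat.prime_dvd_prime_iff_eq hp Nat.prime_two).1 h)
      · exact hp3 ((Nat.prime_dvd_prime_iff_eq hp Nat.prime_three).1 (hp.dvd_of_dvd_pow h))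
    · exact hpf.2.2.1 ⟨hpy.trans hn, hpΦ⟩
    · exact hp3 (hpf.2.1 (hpy.trans hn) hpΦ)
  have hord3 : ∀ y : G1 K m, 3 ∣ orderOf y → orderOf y = 3 ∨ orderOf y = 6 ∨ orderOf y = 9 := by
    intro y hy
    obtain ⟨g, hg⟩ := order_three_conj hK hy
    obtain ⟨p, c, e⟩ := (mem_B1 hK).1 hg
    have ho : orderOf (rr p * tt hK c : G1 K m) = orderOf y := by
      rw [← e, ← MulAut.conj_apply, MulEquiv.orderOf_eq]
    rcases B1_order_cases hK (ho ▸ hy) with ⟨-, ⟨-, h⟩ | ⟨-, h⟩⟩ | ⟨-, -, h⟩ <;> omega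
  have hordA : ∀ y : G1 K m, (∃ g, ∃ c : Kˣ, c ^ 2 ≠ 1 ∧ g * y * g⁻¹ = tt hK c) →
      orderOf y ∣ q - 1 ∧ orderOf y ≠ 1 ∧ orderOf y ≠ 2 := by
    rintro y ⟨g, c, hc, e⟩
    have ho : orderOf y = orderOf c := by
      rw [← orderOf_injective _ (tt_injective hK) c, ← e, ← MulAut.conj_apply, MulEquiv.orderOf_eq]
    refine ⟨?_, fun h => hc ?_, fun h => hc ?_⟩
    · rw [ho, ← hK, ← Fintype.card_units]
      exact orderOf_dvd_card
    · rw [orderOf_eq_one_iff.1 (ho.symm.trans h), one_pow]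
    · exact orderOf_dvd_iff_pow_eq_one.1 (dvd_of_eq (ho.symm.trans h))
  have hordB : ∀ y : G1 K m, (∃ g, g * y * g⁻¹ ∈ T ∧ (g * y * g⁻¹) ^ 2 ≠ 1) →
      orderOf y ∣ q + 1 ∧ orderOf y ≠ 1 ∧ orderOf y ≠ 2 := by
    rintro y ⟨g, hg, hg2⟩
    have ho : orderOf y = orderOf (g * y * g⁻¹) := by rw [← MulAut.conj_apply, MulEquiv.orderOf_eq]
    refine ⟨?_, fun h => hg2 ?_, fun h => hg2 ?_⟩
    · rw [ho, ← hT.card]
      exact Subgroup.orderOf_dvd_natCard _ hg
    · rw [orderOf_eq_one_iff.1 (ho.symm.trans h), one_pow]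
    · exact orderOf_dvd_iff_pow_eq_one.1 (dvd_of_eq (ho.symm.trans h))
  have hdisjAB : ∀ y : G1 K m, (∃ g, ∃ c : Kˣ, c ^ 2 ≠ 1 ∧ g * y * g⁻¹ = tt hK c) →
      ¬ ∃ g, g * y * g⁻¹ ∈ T ∧ (g * y * g⁻¹) ^ 2 ≠ 1 := by
    intro y h1 h2
    obtain ⟨d1, n1, n2⟩ := hordA y h1
    obtain ⟨d2, -, -⟩ := hordB y h2
    have hd : orderOf y ∣ 2 := by
      have h := Nat.dvd_sub d2 d1
      rwa [show q + 1 - (q - 1) = 2 by omega] at h
    rcases (Nat.dvd_prime Nat.prime_two).1 hd with h | h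
    · exact n1 h
    · exact n2 h
  -- the remaining elements
  have hrest : ∀ y : G1 K m, y ≠ 1 → orderOf y ≠ 2 → ¬ 3 ∣ orderOf y →
      (¬ ∃ g, ∃ c : Kˣ, c ^ 2 ≠ 1 ∧ g * y * g⁻¹ = tt hK c) →
      (¬ ∃ g, g * y * g⁻¹ ∈ T ∧ (g * y * g⁻¹) ^ 2 ≠ 1) →
      ∃ p : ℕ, p.Prime ∧ p ∣ Φ ∧ p ∣ orderOf y := by
    intro y hy1 hy2 hy3 hyA hyB
    obtain ⟨p, hp, hpy, hp2⟩ : ∃ p : ℕ, p.Prime ∧ p ∣ orderOf y ∧ p ≠ 2 := by
      by_contra hno
      push Not at hno
      obtain ⟨k, hk⟩ : ∃ k, orderOf y = 2 ^ k :=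
        ⟨_, Nat.eq_prime_pow_of_unique_prime_dvd (orderOf_pos y).ne' fun hp hd => hno _ hp hd⟩
      rcases k with _ | _ | k
      · exact hy1 (orderOf_eq_one_iff.1 (by rw [hk, pow_zero]))
      · exact hy2 (by rw [hk, zero_add, pow_one])
      · have h4 : (y ^ 2 ^ k) ^ 4 = 1 := by
          rw [← pow_mul, show 2 ^ k * 4 = orderOf y by rw [hk]; ring, pow_orderOf_eq_one]
        have h := no_four hK h4
        rw [← pow_mul] at h
        have h5 := orderOf_dvd_of_pow_eq_one h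
        rw [hk] at h5
        have h6 : 2 ^ (k + 1 + 1) ≤ 2 ^ k * 2 := Nat.le_of_dvd (by positivity) h5
        have h7 : 0 < 2 ^ k := by positivity
        rw [pow_succ, pow_succ] at h6
        omega
    refine ⟨p, hp, ?_, hpy⟩
    have hd : p ∣ Nat.card (G1 K m) := hpy.trans (orderOf_dvd_natCard y)
    rw [hG] at hd
    rcases hp.dvd_mul.1 hd with hd | hd
    · rcases hp.dvd_mul.1 hd with hd | hd
      · exfalso
        have := hp.dvd_of_dvd_pow (hp.dvd_of_dvd_pow hd)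
        rw [(Nat.prime_dvd_prime_iff_eq hp Nat.prime_three).1 this] at hpy
        exact hy3 hpy
      · exact absurd (exists_conj_H1 hK hp hp2 hd hpy) hyA
    · rcases hp.dvd_mul.1 hd with hd | hd
      · refine absurd (hTconj y p hp ?_ hpy) hyB
        rw [show q + 1 = 4 * ((q + 1) / 4) by omega] at hd
        refine Nat.Coprime.dvd_of_dvd_mul_left ?_ hd
        rw [show 4 = 2 ^ 2 from rfl]
        exact ((Nat.coprime_primes hp Nat.prime_two).2 hp2).pow_right 2
      · exact hd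
  -- the sum over the six kinds
  let κ : G1 K m → Fin 6 := fun y =>
    if y = 1 then 0 else if orderOf y = 2 then 1 else if 3 ∣ orderOf y then 2
    else if ∃ g, ∃ c : Kˣ, c ^ 2 ≠ 1 ∧ g * y * g⁻¹ = tt hK c then 3
    else if ∃ g, g * y * g⁻¹ ∈ T ∧ (g * y * g⁻¹) ^ 2 ≠ 1 then 4 else 5
  haveI : Fintype (G1 K m) := Fintype.ofFinite _
  have hκ : ∀ (i : Fin 6) (P : G1 K m → Prop), (∀ y, κ y = i ↔ P y) →
      (Finset.univ.filter fun y => κ y = i).card = Nat.card {y // P y} := by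
    intro i P h
    rw [Nat.card_eq_fintype_card, Fintype.card_subtype]
    congr 1
    ext y
    simp [h]
  have h18 : ∀ y : G1 K m, 3 ∣ orderOf y → orderOf y ∣ 18 := fun y hy => by
    rcases hord3 y hy with e | e | e <;> rw [e] <;> norm_num
  have hA3 : ∀ y : G1 K m, (∃ g, ∃ c : Kˣ, c ^ 2 ≠ 1 ∧ g * y * g⁻¹ = tt hK c) → ¬ 3 ∣ orderOf y := by
    intro y hy h
    have := h.trans (hordA y hy).1
    have h3 : 3 ∣ q := dvd_pow_self 3 (by omega)
    omega
  have hB3 : ∀ y : G1 K m, (∃ g, g * y * g⁻¹ ∈ T ∧ (g * y * g⁻¹) ^ 2 ≠ 1) → ¬ 3 ∣ orderOf y := by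
    intro y hy h
    have := h.trans (hordB y hy).1
    have h3 : 3 ∣ q := dvd_pow_self 3 (by omega)
    omega
  have k0 : (Finset.univ.filter fun y => κ y = 0).card = 1 := by
    rw [hκ 0 (fun y => y = 1) (fun y => by
      simp only [κ]
      split_ifs with a b c d e
      · exact iff_of_true rfl a
      all_goals exact iff_of_false (by decide) a)]
    exact Nat.card_unique
  have k1 : (Finset.univ.filter fun y => κ y = 1).card = Nat.card {y : G1 K m // orderOf y = 2} := by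
    refine hκ 1 _ fun y => ?_
    simp only [κ]
    split_ifs with a b c d e
    · exact iff_of_false (by decide) fun h => by rw [a, orderOf_one] at h; omega
    · exact iff_of_true rfl b
    all_goals exact iff_of_false (by decide) b
  have k2 : (Finset.univ.filter fun y => κ y = 2).card =
      Nat.card {y : G1 K m // orderOf y = 3} + Nat.card {y : G1 K m // orderOf y = 6} +
        Nat.card {y : G1 K m // orderOf y = 9} := by
    rw [hκ 2 (fun y => 3 ∣ orderOf y) (fun y => by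
      simp only [κ]
      split_ifs with a b c d e
      · simp [a]
      · simp [b]
      all_goals simp [c])]
    simp only [Nat.card_eq_fintype_card, Fintype.card_subtype]
    rw [← Finset.card_union_of_disjoint (Finset.disjoint_filter.2 fun y _ h1 h2 => by omega),
      ← Finset.card_union_of_disjoint (by
        rw [Finset.disjoint_union_left]
        exact ⟨Finset.disjoint_filter.2 fun y _ h1 h2 => by omega,
          Finset.disjoint_filter.2 fun y _ h1 h2 => by omega⟩)]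
    congr 1
    ext y
    simp only [Finset.mem_filter, Finset.mem_univ, true_and, Finset.mem_union]
    refine ⟨fun h => ?_, fun h => by rcases h with (h | h) | h <;> rw [h] <;> norm_num⟩
    rcases hord3 y h with e | e | e
    · exact Or.inl (Or.inl e)
    · exact Or.inl (Or.inr e)
    · exact Or.inr e
  have k3 : (Finset.univ.filter fun y => κ y = 3).card =
      Nat.card {y : G1 K m // ∃ g, ∃ c : Kˣ, c ^ 2 ≠ 1 ∧ g * y * g⁻¹ = tt hK c} := by
    refine hκ 3 _ fun y => ?_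
    simp only [κ]
    split_ifs with a b c d e
    · exact iff_of_false (by decide) fun h => (hordA y h).2.1 (by rw [a, orderOf_one])
    · exact iff_of_false (by decide) fun h => (hordA y h).2.2 b
    · exact iff_of_false (by decide) fun h => hA3 y h c
    · exact iff_of_true rfl d
    · exact iff_of_false (by decide) d
    · exact iff_of_false (by decide) d
  have k4 : (Finset.univ.filter fun y => κ y = 4).card =
      Nat.card {y : G1 K m // ∃ g, g * y * g⁻¹ ∈ T ∧ (g * y * g⁻¹) ^ 2 ≠ 1} := by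
    refine hκ 4 _ fun y => ?_
    simp only [κ]
    split_ifs with a b c d e
    · exact iff_of_false (by decide) fun h => (hordB y h).2.1 (by rw [a, orderOf_one])
    · exact iff_of_false (by decide) fun h => (hordB y h).2.2 b
    · exact iff_of_false (by decide) fun h => hB3 y h c
    · exact iff_of_false (by decide) (hdisjAB y d)
    · exact iff_of_true rfl e
    · exact iff_of_false (by decide) e
  have k5 : (Finset.univ.filter fun y => κ y = 5).card =
      Nat.card {y : G1 K m // ∃ p : ℕ, p.Prime ∧ p ∣ Φ ∧ p ∣ orderOf y} := by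
    refine hκ 5 _ fun y => ?_
    simp only [κ]
    split_ifs with a b c d e
    · exact iff_of_false (by decide) (hcopΦ y 18 (by rw [a, orderOf_one]; norm_num) (Or.inl rfl))
    · exact iff_of_false (by decide) (hcopΦ y 18 (by rw [b]; norm_num) (Or.inl rfl))
    · exact iff_of_false (by decide) (hcopΦ y 18 (h18 y c) (Or.inl rfl))
    · exact iff_of_false (by decide) (hcopΦ y (q - 1) (hordA y d).1 (Or.inr (Or.inl rfl)))
    · exact iff_of_false (by decide) (hcopΦ y (q + 1) (hordB y e).1 (Or.inr (Or.inr rfl)))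
    · exact iff_of_true rfl (hrest y a b c d e)
  have hsum := Finset.card_eq_sum_card_fiberwise (s := (Finset.univ : Finset (G1 K m)))
    (t := (Finset.univ : Finset (Fin 6))) (f := κ) (fun y _ => Finset.mem_univ _)
  rw [Finset.card_univ, ← Nat.card_eq_fintype_card, hG, Fin.sum_univ_six, k0, k1, k2, k3, k4, k5]
    at hsum
  rw [hG] at hI h3 h6 h9 hA hTb
  generalize Nat.card {y : G1 K m // orderOf y = 2} = I at hI hsum
  generalize Nat.card {y : G1 K m // orderOf y = 3} = n3 at h3 hsum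
  generalize Nat.card {y : G1 K m // orderOf y = 6} = n6 at h6 hsum
  generalize Nat.card {y : G1 K m // orderOf y = 9} = n9 at h9 hsum
  generalize Nat.card {y : G1 K m // ∃ g, ∃ c : Kˣ, c ^ 2 ≠ 1 ∧ g * y * g⁻¹ = tt hK c} = Ca at hA hsum
  generalize Nat.card {y : G1 K m // ∃ g, g * y * g⁻¹ ∈ T ∧ (g * y * g⁻¹) ^ 2 ≠ 1} = Cb at hTb hsum
  generalize Nat.card {y : G1 K m // ∃ p : ℕ, p.Prime ∧ p ∣ Φ ∧ p ∣ orderOf y} = C6 at hsum ⊢
  have e1 : 1 ≤ q := by omega
  have e2 : q ≤ q ^ 2 := Nat.le_self_pow two_ne_zero _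
  have e3 : q ^ 2 ≤ q ^ 3 := Nat.pow_le_pow_right e1 (by norm_num)
  have e4 : 1 ≤ q ^ 2 := Nat.one_le_pow _ _ e1
  have e5 : 3 ≤ q := by omega
  rw [hΦ] at *
  zify [e1, e2, e3, e4, e5] at hI h3 h6 h9 hA hTb hsum ⊢
  have q0 : (q : ℤ) ≠ 0 := by omega
  have q1 : (q : ℤ) - 1 ≠ 0 := by omega
  have q2 : (q : ℤ) + 1 ≠ 0 := by omega
  have vI : (I : ℤ) = q ^ 2 * (q ^ 2 - q + 1) :=
    mul_right_cancel₀ (mul_ne_zero q0 (mul_ne_zero q1 q2)) (by linear_combination hI)
  have qB : (q : ℤ) ^ 3 * ((q : ℤ) - 1) ≠ 0 := mul_ne_zero (pow_ne_zero 3 q0) q1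
  have v3 : (n3 : ℤ) = (q ^ 3 + 1) * (q ^ 2 - 1) := mul_right_cancel₀ qB (by linear_combination h3)
  have v6 : (n6 : ℤ) = (q ^ 3 + 1) * (q ^ 3 - q ^ 2) := mul_right_cancel₀ qB (by linear_combination h6)
  have v9 : (n9 : ℤ) = (q ^ 3 + 1) * (q ^ 3 - q ^ 2) := mul_right_cancel₀ qB (by linear_combination h9)
  have va : 2 * (Ca : ℤ) = q ^ 3 * (q + 1) * (q ^ 2 - q + 1) * (q - 3) :=
    mul_right_cancel₀ q1 (by linear_combination hA)
  have vb : 6 * (Cb : ℤ) = q ^ 3 * (q - 1) * (q ^ 2 - q + 1) * (q - 3) :=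
    mul_right_cancel₀ q2 (by linear_combination hTb)
  linear_combination -6 * hsum - 6 * vI - 6 * v3 - 6 * v6 - 6 * v9 - 3 * va - vb

/-- The two classes of cyclic Hall subgroups of orders dividing `q ² - q + 1`. -/
theorem exists_two_singers (hm : 1 ≤ m) : ∃ A B : Subgroup (G1 K m),
    IsSinger ((3 ^ (2 * m + 1)) ^ 2 - 3 ^ (2 * m + 1) + 1) A ∧
    IsSinger ((3 ^ (2 * m + 1)) ^ 2 - 3 ^ (2 * m + 1) + 1) B ∧
    Nat.card A = 3 ^ (2 * m + 1) - 3 ^ (m + 1) + 1 ∧
    Nat.card B = 3 ^ (2 * m + 1) + 3 ^ (m + 1) + 1 ∧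
    Nat.card (Subgroup.normalizer (A : Set (G1 K m))) = 6 * Nat.card A ∧
    Nat.card (Subgroup.normalizer (B : Set (G1 K m))) = 6 * Nat.card B := by
  classical
  have hC := card_singer_elements hK hm (m := m) (K := K)
  have hsing := fun {r : ℕ} => exists_singer hK hm (r := r)
  have hroots := @two_roots m
  set q := 3 ^ (2 * m + 1) with hq
  set Φ := q ^ 2 - q + 1 with hΦ
  have h27 : 27 ≤ q := le_pow_odd hm
  have hΦq : Φ + q = q ^ 2 + 1 := by
    have := Nat.le_self_pow two_ne_zero q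
    omega
  have hW : 0 < q ^ 3 * (q - 1) * (q + 1) :=
    Nat.mul_pos (Nat.mul_pos (pow_pos (by omega) 3) (by omega)) (by omega)
  set W := q ^ 3 * (q - 1) * (q + 1) with hWdef
  have hΦ0 : 0 < Φ := Nat.succ_pos _
  have hG : Nat.card (G1 K m) = W * Φ := by
    rw [card_G1_prod hK, hWdef, ← hq, ← hΦ]
    ring
  have hfac : ∀ p : ℕ, p.Prime → p ∣ Φ → Φ.factorization p = (Nat.card (G1 K m)).factorization p := by
    intro p hp hpΦ
    have hpf := prime_facts (q := q) (by omega) hp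
    have hp3 : p ≠ 3 := fun e => hpf.2.2.2.2.2 ⟨e ▸ dvd_pow_self 3 (by omega), hpΦ⟩
    have hnd : ¬ p ∣ W := by
      intro h
      rcases hp.dvd_mul.1 h with h | h
      · rcases hp.dvd_mul.1 h with h | h
        · exact hpf.2.2.2.2.2 ⟨hp.dvd_of_dvd_pow h, hpΦ⟩
        · exact hpf.2.2.1 ⟨h, hpΦ⟩
      · exact hp3 (hpf.2.1 h hpΦ)
    rw [hG, Nat.factorization_mul hW.ne' hΦ0.ne', Finsupp.add_apply,
      Nat.factorization_eq_zero_of_not_dvd hnd, zero_add]
  -- conjugate elements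
  let S : Set (G1 K m) := {y | ∃ p : ℕ, p.Prime ∧ p ∣ Φ ∧ p ∣ orderOf y}
  let cv : Subgroup (G1 K m) → Set (G1 K m) := fun A => {y | ∃ g, g * y * g⁻¹ ∈ A ∧ g * y * g⁻¹ ≠ 1}
  have hsub : ∀ A, IsSinger Φ A → cv A ⊆ S := by
    rintro A hA y ⟨g, hg, hg1⟩
    obtain ⟨p, hp, hpd⟩ := Nat.exists_prime_and_dvd
      (show orderOf (g * y * g⁻¹) ≠ 1 from fun e => hg1 (orderOf_eq_one_iff.1 e))
    refine ⟨p, hp, hpd.trans ((Subgroup.orderOf_dvd_natCard _ hg).trans hA.dvd), ?_⟩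
    rwa [← MulAut.conj_apply, MulEquiv.orderOf_eq] at hpd
  have hdis : ∀ A B : Subgroup (G1 K m), Nat.Coprime (Nat.card A) (Nat.card B) →
      Disjoint (cv A) (cv B) := by
    intro A B hAB
    rw [Set.disjoint_left]
    rintro y ⟨g, hg, hg1⟩ ⟨g', hg', -⟩
    have h1 := Subgroup.orderOf_dvd_natCard _ hg
    have h2 := Subgroup.orderOf_dvd_natCard _ hg'
    rw [← MulAut.conj_apply, MulEquiv.orderOf_eq] at h1 h2
    exact hg1 (by rw [orderOf_eq_one_iff.1 (Nat.eq_one_of_dvd_coprimes hAB h1 h2)]; group)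
  have hcount : ∀ A, IsSinger Φ A → ∃ e n : ℕ, e ∣ 6 ∧
      Nat.card (Subgroup.normalizer (A : Set (G1 K m))) = e * Nat.card A ∧
      Nat.card A * n = Φ ∧ (cv A).ncard * e + W * n = W * Φ := by
    intro A hA
    obtain ⟨e, he, hN⟩ := hA.index
    obtain ⟨n, hn⟩ := hA.dvd
    refine ⟨e, n, he, hN, hn.symm, ?_⟩
    have h := hA.card_cover
    rw [hN, hG] at h
    refine mul_right_cancel₀ (Nat.card_pos (α := A)).ne' ?_
    rw [add_mul, mul_assoc, mul_assoc W n, mul_comm n, ← hn]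
    exact h
  have hge7 : ∀ A : Subgroup (G1 K m), IsSinger Φ A → Nat.card A ≠ 1 → 5 ≤ Nat.card A ∧ 7 ≤ Nat.card A := by
    intro A hA hne
    obtain ⟨p, hp, hpA⟩ := Nat.exists_prime_and_dvd hne
    have hpΦ := hpA.trans hA.dvd
    have hpf := prime_facts (q := q) (by omega) hp
    have hp3 : p ≠ 3 := fun e => hpf.2.2.2.2.2 ⟨e ▸ dvd_pow_self 3 (by omega), hpΦ⟩
    have h8 : q % 8 = 3 := pow_odd_mod m
    have hp2 : p ≠ 2 := fun e => hpf.2.2.1 ⟨by subst e; omega, hpΦ⟩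
    have hp4 : p ≠ 4 := fun e => by rw [e] at hp; norm_num at hp
    have hp6 : p ≠ 6 := fun e => by rw [e] at hp; norm_num at hp
    have hp5 : p ≠ 5 := by
      rintro rfl
      -- five never divides `q² - q + 1`
      have h5 : ((q : ZMod 5)) ^ 2 - q + 1 = 0 := by
        have := (ZMod.natCast_eq_zero_iff Φ 5).2 hpΦ
        have hle : q ≤ q ^ 2 := Nat.le_self_pow two_ne_zero _
        rw [hΦ] at this
        push_cast [hle] at this
        exact this
      exact (by decide : ∀ z : ZMod 5, z ^ 2 - z + 1 ≠ 0) _ h5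
    have := Nat.le_of_dvd Nat.card_pos hpA
    have := hp.two_le
    omega
  have hne1 : ∀ {A : Subgroup (G1 K m)} {r : ℕ}, r.Prime → r ∣ Nat.card A → Nat.card A ≠ 1 := by
    intro A r hr h e
    rw [e] at h
    exact hr.one_lt.ne' (Nat.dvd_one.1 h)
  have hcop : ∀ A : Subgroup (G1 K m), IsSinger Φ A → ∀ n, Nat.card A * n = Φ → Nat.Coprime (Nat.card A) n := by
    intro A hA n hn
    refine Nat.coprime_of_dvd fun p hp hpA hpn => ?_
    have e := hA.hall p hp hpA
    rw [← hfac p hp (hpA.trans hA.dvd), ← hn,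
      Nat.factorization_mul Nat.card_pos.ne' (fun h => hΦ0.ne' (by rw [← hn, h, mul_zero])),
      Finsupp.add_apply] at e
    have := hp.factorization_pos_of_dvd (fun h => hΦ0.ne' (by rw [← hn, h, mul_zero])) hpn
    omega
  -- the first class
  obtain ⟨r₁, hr₁, hr₁Φ⟩ := Nat.exists_prime_and_dvd (show Φ ≠ 1 by nlinarith)
  obtain ⟨A₁, hA₁, hr₁A⟩ := hsing hr₁ hr₁Φ
  obtain ⟨e₁, n₁, he₁, hN₁, hn₁, hc₁⟩ := hcount A₁ hA₁
  have h7₁ := (hge7 A₁ hA₁ (hne1 hr₁ hr₁A)).2
  have hSeq : ∀ (As : List (Subgroup (G1 K m))), (∀ A ∈ As, IsSinger Φ A) →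
      Φ ∣ (As.map fun A : Subgroup (G1 K m) => Nat.card A).prod → ∀ y ∈ S, ∃ A ∈ As, y ∈ cv A := by
    rintro As hAs hdiv y ⟨p, hp, hpΦ, hpy⟩
    obtain ⟨x, hx, hpx⟩ := (Nat.prime_iff.1 hp).dvd_prod_iff.1 (hpΦ.trans hdiv)
    obtain ⟨A, hA, rfl⟩ := List.mem_map.1 hx
    exact ⟨A, hA, (hAs A hA).exists_conj hp hpx hpy⟩
  have hCeq : Nat.card {y : G1 K m // ∃ p : ℕ, p.Prime ∧ p ∣ Φ ∧ p ∣ orderOf y} = S.ncard :=
    (Nat.card_coe_set_eq S)
  rw [hCeq] at hC
  by_cases hone : n₁ = 1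
  · exfalso
    have hS : S = cv A₁ := Set.Subset.antisymm (fun y hy => by
      obtain ⟨A, hA, h⟩ := hSeq [A₁] (by simp [hA₁]) (by simp [← hn₁, hone]) y hy
      rw [List.mem_singleton.1 hA] at h
      exact h) (hsub A₁ hA₁)
    rw [hS] at hC
    rw [hone, mul_one] at hc₁
    exact one_class_false h27 hΦq hW he₁ hC hc₁
  obtain ⟨r₂, hr₂, hr₂n⟩ := Nat.exists_prime_and_dvd hone
  obtain ⟨A₂, hA₂, hr₂A⟩ := hsing hr₂ (hr₂n.trans ⟨Nat.card A₁, by rw [← hn₁]; ring⟩)
  obtain ⟨e₂, n₂, he₂, hN₂, hn₂, hc₂⟩ := hcount A₂ hA₂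
  have h7₂ := (hge7 A₂ hA₂ (hne1 hr₂ hr₂A)).2
  have hpair : ∀ (A B : Subgroup (G1 K m)), IsSinger Φ A → IsSinger Φ B →
      ∀ {r : ℕ}, r.Prime → r ∣ Nat.card B → ¬ r ∣ Nat.card A →
      Nat.Coprime (Nat.card A) (Nat.card B) := by
    intro A B hA hB r hr hrB hrA
    refine Nat.coprime_of_dvd fun p hp hpA hpB => ?_
    haveI : Fact p.Prime := ⟨hp⟩
    obtain ⟨z, hz⟩ := exists_prime_orderOf_dvd_card' (G := B) p hpB
    have hz' : orderOf (z : G1 K m) = p := by rw [Subgroup.orderOf_coe, hz]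
    obtain ⟨g, hg, hg1⟩ := hA.exists_conj hp hpA (y := (z : G1 K m)) (by rw [hz'])
    have e1 := hA.cent _ hg hg1
    have e2 := hB.cent _ z.2 (fun e => hg1 (by rw [e]; group))
    have hle : B.map (MulAut.conj g).toMonoidHom ≤ A := by
      rintro _ ⟨w, hw, rfl⟩
      rw [← e2, SetLike.mem_coe, Subgroup.mem_centralizer_singleton_iff] at hw
      rw [← e1, Subgroup.mem_centralizer_singleton_iff]
      simp only [MulEquiv.coe_toMonoidHom, MulAut.conj_apply]
      calc g * w * g⁻¹ * (g * z * g⁻¹) = g * (w * z) * g⁻¹ := by group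
        _ = g * (z * w) * g⁻¹ := by rw [hw]
        _ = _ := by group
    have := Subgroup.card_dvd_of_le hle
    rw [← Nat.card_congr (Subgroup.equivMapOfInjective _ _ (MulEquiv.injective _)).toEquiv] at this
    exact hrA (hrB.trans this)
  have hnd₁ : ¬ r₂ ∣ Nat.card A₁ := fun h =>
    hr₂.one_lt.ne' (Nat.eq_one_of_dvd_coprimes (hcop A₁ hA₁ n₁ hn₁) h hr₂n)
  have h12 := hpair A₁ A₂ hA₁ hA₂ hr₂ hr₂A hnd₁
  obtain ⟨t, ht⟩ := h12.mul_dvd_of_dvd_of_dvd hA₁.dvd hA₂.dvd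
  by_cases htwo : t = 1
  · rw [htwo, mul_one] at ht
    have hn₁' : n₁ = Nat.card A₂ := mul_left_cancel₀ (Nat.card_pos (α := A₁)).ne' (hn₁.trans ht)
    have hn₂' : n₂ = Nat.card A₁ :=
      mul_left_cancel₀ (Nat.card_pos (α := A₂)).ne' (hn₂.trans (by rw [ht]; ring))
    have hS : S = cv A₁ ∪ cv A₂ := Set.Subset.antisymm (fun y hy => by
      obtain ⟨A, hA, h⟩ := hSeq [A₁, A₂] (by simp [hA₁, hA₂]) (dvd_of_eq (by simpa only [List.map_cons, List.map_nil, List.prod_cons, List.prod_nil, mul_one] using ht)) y hy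
      simp only [List.mem_cons, List.not_mem_nil, or_false] at hA
      rcases hA with rfl | rfl
      · exact Or.inl h
      · exact Or.inr h) (Set.union_subset (hsub A₁ hA₁) (hsub A₂ hA₂))
    rw [hS, Set.ncard_union_eq (hdis A₁ A₂ h12) (Set.toFinite _) (Set.toFinite _)] at hC
    rw [hn₁'] at hc₁
    rw [hn₂'] at hc₂
    obtain ⟨rfl, rfl, hs⟩ := two_class hW h7₁ h7₂ ht.symm he₁ he₂ hc₁ hc₂ hC
    rcases hroots hs ht.symm with ⟨e1, e2⟩ | ⟨e2, e1⟩
    · exact ⟨A₁, A₂, hA₁, hA₂, e1, e2, hN₁, hN₂⟩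
    · exact ⟨A₂, A₁, hA₂, hA₁, e2, e1, hN₂, hN₁⟩
  exfalso
  obtain ⟨r₃, hr₃, hr₃t⟩ := Nat.exists_prime_and_dvd htwo
  obtain ⟨A₃, hA₃, hr₃A⟩ := hsing hr₃ (hr₃t.trans ⟨Nat.card A₁ * Nat.card A₂, by rw [ht]; ring⟩)
  obtain ⟨e₃, n₃, he₃, -, hn₃, hc₃⟩ := hcount A₃ hA₃
  have h7₃ := (hge7 A₃ hA₃ (hne1 hr₃ hr₃A)).2
  have hn1t : n₁ = Nat.card A₂ * t :=
    mul_left_cancel₀ (Nat.card_pos (α := A₁)).ne' (hn₁.trans (by rw [ht]; ring))
  have hn2t : n₂ = Nat.card A₁ * t :=
    mul_left_cancel₀ (Nat.card_pos (α := A₂)).ne' (hn₂.trans (by rw [ht]; ring))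
  have hnd13 : ¬ r₃ ∣ Nat.card A₁ := fun h => hr₃.one_lt.ne' (Nat.eq_one_of_dvd_coprimes
    (hcop A₁ hA₁ n₁ hn₁) h (by rw [hn1t]; exact dvd_mul_of_dvd_right hr₃t _))
  have hnd23 : ¬ r₃ ∣ Nat.card A₂ := fun h => hr₃.one_lt.ne' (Nat.eq_one_of_dvd_coprimes
    (hcop A₂ hA₂ n₂ hn₂) h (by rw [hn2t]; exact dvd_mul_of_dvd_right hr₃t _))
  have h13 := hpair A₁ A₃ hA₁ hA₃ hr₃ hr₃A hnd13
  have h23 := hpair A₂ A₃ hA₂ hA₃ hr₃ hr₃A hnd23
  refine three_class_false hW hΦ0 h7₁ h7₂ h7₃ hn₁ hn₂ hn₃ he₁ he₂ he₃ hc₁ hc₂ hc₃ ?_ hC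
  calc (cv A₁).ncard + (cv A₂).ncard + (cv A₃).ncard = (cv A₁ ∪ cv A₂ ∪ cv A₃).ncard := by
        rw [Set.ncard_union_eq (Disjoint.union_left (hdis A₁ A₃ h13) (hdis A₂ A₃ h23))
          (Set.toFinite _) (Set.toFinite _),
          Set.ncard_union_eq (hdis A₁ A₂ h12) (Set.toFinite _) (Set.toFinite _)]
    _ ≤ S.ncard := Set.ncard_le_ncard
        (Set.union_subset (Set.union_subset (hsub A₁ hA₁) (hsub A₂ hA₂)) (hsub A₃ hA₃)) (Set.toFinite _)

end Ree

end Cfsg.Agent.Chev
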