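import Cfsg.Agent.Chev.Ree.Point
import Cfsg.Agent.Chev.Ree.Count
import Cfsg.Agent.Chev.Ree.Arith

/-!
The elements of the stabiliser of a point and the elements of order divisible by three.
-/

set_option autoImplicit false
set_option maxRecDepth 100000
set_option maxHeartbeats 1000000

namespace Cfsg.Agent.Chev

open Cfsg.Lie
open scoped MatrixGroups

universe u

namespace Ree

variable {K : Type u} [Field K] [Fintype K] [CharP K 3] {m : ℕ}
  (hK : Fintype.card K = 3 ^ (2 * m + 1))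
include hK

theorem B1_mul (p q : K × K × K) (c d : Kˣ) : ∃ r, (rr p * tt hK c) * (rr q * tt hK d) =
    (rr r : G1 K m) * tt hK (c * d) := by
  obtain ⟨r, hr⟩ := (mem_U1 hK).1 (mul_mem (rr_mem_U1 hK p)
    (B1_conj_U1 hK (tt_mem_B1 hK c) (rr_mem_U1 hK q)))
  refine ⟨r, ?_⟩
  rw [← hr, map_mul]
  group

theorem B1_pow (p : K × K × K) (c : Kˣ) (k : ℕ) : ∃ r, (rr p * tt hK c) ^ k =
    (rr r : G1 K m) * tt hK (c ^ k) := by
  induction k with
  | zero => exact ⟨(0, 0, 0), by rw [pow_zero, pow_zero, map_one, rr_zero, mul_one]⟩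
  | succ k ih =>
    obtain ⟨r, hr⟩ := ih
    obtain ⟨r', hr'⟩ := B1_mul hK (m := m) r p (c ^ k) c
    exact ⟨r', by rw [pow_succ, hr, hr', pow_succ c]⟩

theorem units_eq_one_of_cube {c : Kˣ} {j : ℕ} (h : c ^ 3 ^ j = 1) : c = 1 := by
  have e : ((c : K) - 1) ^ 3 ^ j = 0 := by
    rw [sub_pow_char_pow, one_pow, ← Units.val_pow_eq_pow_val, h, Units.val_one, sub_self]
  exact Units.ext (sub_eq_zero.1 (eq_zero_of_pow_eq_zero e))

theorem mem_U1_of_pow {x : G1 K m} (hx : x ∈ B1 K m) {j : ℕ} (h : x ^ 3 ^ j = 1) : x ∈ U1 K m := by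
  obtain ⟨p, c, rfl⟩ := (mem_B1 hK).1 hx
  obtain ⟨r, hr⟩ := B1_pow hK (m := m) p c (3 ^ j)
  rw [h] at hr
  have e : (rr r : G1 K m) * tt hK (c ^ 3 ^ j) = rr (0, 0, 0) * tt hK 1 := by
    rw [← hr, rr_zero, map_one, mul_one]
  rw [units_eq_one_of_cube hK (m := m) (rr_tt_unique hK e).2, map_one, mul_one]
  exact rr_mem_U1 hK p

/-- An element of `B` with a nontrivial image in the torus is conjugate to that image. -/
theorem exists_conj_tt {c : Kˣ} (hc : c ^ 2 ≠ 1) (p : K × K × K) :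
    ∃ q, (rr q : G1 K m) * tt hK c * (rr q)⁻¹ = rr p * tt hK c := by
  have hex : ∀ q : K × K × K, ∃ r : K × K × K,
      (rr q : G1 K m) * (tt hK c * (rr q)⁻¹ * (tt hK c)⁻¹) = rr r := fun q =>
    (mem_U1 hK).1 (mul_mem (rr_mem_U1 hK q)
      (B1_conj_U1 hK (tt_mem_B1 hK c) (inv_mem (rr_mem_U1 hK q))))
  choose f hf using hex
  have hinj : Function.Injective f := by
    intro a b e
    have h : (rr a : G1 K m) * (tt hK c * (rr a)⁻¹ * (tt hK c)⁻¹) =
        rr b * (tt hK c * (rr b)⁻¹ * (tt hK c)⁻¹) := by rw [hf, hf, e]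
    obtain ⟨w, hw⟩ := (mem_U1 hK).1 (mul_mem (inv_mem (rr_mem_U1 hK b)) (rr_mem_U1 hK a))
    have hfix : tt hK c * rr w * (tt hK c)⁻¹ = rr w := by
      rw [← hw]
      calc tt hK c * ((rr b)⁻¹ * rr a) * (tt hK c)⁻¹
          = (tt hK c * (rr b)⁻¹ * (tt hK c)⁻¹) * (tt hK c * (rr a)⁻¹ * (tt hK c)⁻¹)⁻¹ := by group
        _ = (rr b)⁻¹ * (rr b * (tt hK c * (rr b)⁻¹ * (tt hK c)⁻¹)) *
              (tt hK c * (rr a)⁻¹ * (tt hK c)⁻¹)⁻¹ := by group
        _ = _ := by rw [← h]; group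
    obtain ⟨h1, h2, h3⟩ := free_of_sq_ne_one (isTheta hK) hc (t := w.1) (u := w.2.1) (v := w.2.2)
      (congrArg Subtype.val hfix :)
    have : w = (0, 0, 0) := Prod.ext h1 (Prod.ext h2 h3)
    rw [this, rr_zero, inv_mul_eq_one] at hw
    exact rr_injective hw.symm
  obtain ⟨q, hq⟩ := Finite.injective_iff_surjective.1 hinj p
  refine ⟨q, ?_⟩
  rw [← hq, ← hf]
  group

theorem invJ_sq_form (t u v : K) : (rr (t, u, v) * invJ) * (rr (t, u, v) * (invJ : G1 K m)) =
    rr (0, -u + tw m t * t, -(tw m t * t ^ 2) + t * u) := by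
  have h : (invJ : G1 K m)⁻¹ = invJ := inv_eq_of_mul_eq_one_right invJ_sq
  calc rr (t, u, v) * invJ * (rr (t, u, v) * (invJ : G1 K m))
      = rr (t, u, v) * (invJ * rr (t, u, v) * (invJ : G1 K m)⁻¹) := by rw [h]; group
    _ = _ := by
      rw [invJ_conj_rr hK, rr_mul hK, tw_neg]
      congr 1
      refine Prod.ext ?_ (Prod.ext ?_ ?_)
      · simp
      · show u + u - -tw m t * t = -u + tw m t * t
        linear_combination u * three_eq (K := K)
      · show v + -v - -tw m t * t ^ 2 - -t * (u - -tw m t * t) = -(tw m t * t ^ 2) + t * u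
        linear_combination tw m t * t ^ 2 * three_eq (K := K)

theorem rr_invJ_sq_eq_one {p : K × K × K} :
    (rr p * invJ) * (rr p * (invJ : G1 K m)) = 1 ↔ p.2.1 = tw m p.1 * p.1 := by
  obtain ⟨t, u, v⟩ := p
  rw [invJ_sq_form hK]
  constructor
  · intro h
    have := congrArg (fun p : K × K × K => p.2.1) (rr_eq_one h)
    simp only at this
    linear_combination -this
  · intro h
    simp only at h
    rw [h, ← rr_zero]
    congr 1
    refine Prod.ext rfl (Prod.ext ?_ ?_) <;> simp only <;> ring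

theorem orderOf_three_mul {x : G1 K m} (h2 : x * x ≠ 1) (h6 : (x * x) ^ 3 = 1) (h3 : x ^ 3 ≠ 1) :
    orderOf x = 6 := by
  have hd : orderOf x ∣ 6 := orderOf_dvd_of_pow_eq_one (by
    rw [show 6 = 2 * 3 from rfl, pow_mul, pow_two, h6])
  have hle := Nat.le_of_dvd (by norm_num) hd
  have hne : ∀ k, x ^ k ≠ 1 → orderOf x ≠ k := fun k hk e => hk (e ▸ pow_orderOf_eq_one x)
  have n1 := hne 1 (fun e => h2 (by rw [pow_one] at e; rw [e, one_mul]))
  have n2 := hne 2 (by rwa [pow_two])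
  have n3 := hne 3 h3
  interval_cases hx : orderOf x <;> omega

theorem B1_order_cases {p : K × K × K} {c : Kˣ}
    (h : 3 ∣ orderOf (rr p * tt hK c : G1 K m)) :
    (c = 1 ∧ (p.1 = 0 ∧ orderOf (rr p * tt hK c : G1 K m) = 3 ∨
      p.1 ≠ 0 ∧ orderOf (rr p * tt hK c : G1 K m) = 9)) ∨
    (c = -1 ∧ p.2.1 ≠ tw m p.1 * p.1 ∧ orderOf (rr p * tt hK c : G1 K m) = 6) := by
  haveI : Fact (Nat.Prime 3) := ⟨Nat.prime_three⟩
  by_cases hc : c ^ 2 = 1
  · have h' : (c : K) ^ 2 = 1 := by rw [← Units.val_pow_eq_pow_val, hc, Units.val_one]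
    rcases sq_eq_one_iff.1 h' with e | e
    · obtain rfl : c = 1 := Units.ext e
      refine Or.inl ⟨rfl, ?_⟩
      rw [map_one, mul_one] at h ⊢
      have hp : (rr p : G1 K m) ≠ 1 := fun e1 => by
        rw [e1, orderOf_one] at h
        exact absurd h (by norm_num)
      by_cases h0 : p.1 = 0
      · exact Or.inl ⟨h0, orderOf_eq_prime ((rr_cube_eq_one hK).2 h0) hp⟩
      · exact Or.inr ⟨h0, orderOf_eq_prime_pow (p := 3) (n := 1)
          (by rw [pow_one]; exact fun e1 => h0 ((rr_cube_eq_one hK).1 e1)) (rr_pow_nine hK p)⟩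
    · obtain rfl : c = -1 := Units.ext (by rw [e, Units.val_neg, Units.val_one])
      rw [tt_neg_one hK] at h ⊢
      obtain ⟨t, u, v⟩ := p
      have hne : ¬ u = tw m t * t := fun e1 => by
        have hd := orderOf_dvd_of_pow_eq_one (x := (rr (t, u, v) * invJ : G1 K m)) (n := 2)
          (by rw [pow_two]; exact (rr_invJ_sq_eq_one hK).2 e1)
        exact absurd (Nat.le_of_dvd two_pos (h.trans hd)) (by norm_num)
      refine Or.inr ⟨rfl, hne, orderOf_three_mul hK (fun e1 => hne ((rr_invJ_sq_eq_one hK).1 e1)) ?_ ?_⟩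
      · rw [invJ_sq_form hK]
        exact (rr_cube_eq_one hK).2 rfl
      · intro e1
        have := units_eq_one_of_cube hK (c := (-1 : Kˣ)) (j := 1) (m := m) (by
          obtain ⟨r, hr⟩ := B1_pow hK (m := m) (t, u, v) (-1) 3
          rw [tt_neg_one hK, e1] at hr
          have e2 : (rr r : G1 K m) * tt hK ((-1) ^ 3) = rr (0, 0, 0) * tt hK 1 := by
            rw [← hr, rr_zero, map_one, mul_one]
          rw [pow_one]
          exact (rr_tt_unique hK e2).2)
        exact neg_one_ne_one this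
  · exfalso
    obtain ⟨q, hq⟩ := exists_conj_tt hK hc p
    rw [← hq, ← MulAut.conj_apply, MulEquiv.orderOf_eq, orderOf_injective _ (tt_injective hK)] at h
    obtain ⟨k, hk⟩ := exists_pow_orderOf Nat.prime_three h
    have := units_eq_one_of_cube hK (c := c ^ k) (j := 1) (m := m)
      (by rw [pow_one]; exact orderOf_dvd_iff_pow_eq_one.1 (dvd_of_eq hk))
    rw [this, orderOf_one] at hk
    exact absurd hk (by norm_num)

theorem card_B1 : Nat.card (B1 K m) =
    (3 ^ (2 * m + 1)) ^ 3 * (3 ^ (2 * m + 1) - 1) := by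
  let f : (K × K × K) × Kˣ → B1 K m := fun p =>
    ⟨rr p.1 * tt hK p.2, mul_mem (rr_mem_B1 hK p.1) (tt_mem_B1 hK p.2)⟩
  have hf : Function.Bijective f := by
    refine ⟨fun p q e => ?_, fun g => ?_⟩
    · obtain ⟨h1, h2⟩ := rr_tt_unique hK (congrArg Subtype.val e :)
      exact Prod.ext h1 h2
    · obtain ⟨p, c, e⟩ := (mem_B1 hK).1 g.2
      exact ⟨(p, c), Subtype.ext e.symm⟩
  rw [← Nat.card_congr (Equiv.ofBijective f hf), Nat.card_prod, Nat.card_prod, Nat.card_prod,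
    Nat.card_units, Nat.card_eq_fintype_card, hK]
  ring

theorem card_B1_order (k : ℕ) (hk : 3 ∣ k) :
    Nat.card {g : G1 K m // g ∈ B1 K m ∧ orderOf g = k} =
      if k = 3 then (3 ^ (2 * m + 1)) ^ 2 - 1
      else if k = 6 ∨ k = 9 then (3 ^ (2 * m + 1)) ^ 3 - (3 ^ (2 * m + 1)) ^ 2 else 0 := by
  classical
  haveI : Fact (Nat.Prime 3) := ⟨Nat.prime_three⟩
  set q := 3 ^ (2 * m + 1)
  have hplane : ∀ (P : K × K × K → Prop) (g : K × K → K × K × K), Function.Injective g →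
      (∀ p, P p ↔ ∃ z, g z = p) → Fintype.card {p // P p} = q ^ 2 := by
    intro P g hg hP
    rw [← Fintype.card_congr (Equiv.ofBijective (fun z => (⟨g z, (hP _).2 ⟨z, rfl⟩⟩ : {p // P p}))
      ⟨fun a b e => hg (congrArg Subtype.val e :), fun p => by
        obtain ⟨z, hz⟩ := (hP _).1 p.2
        exact ⟨z, Subtype.ext hz⟩⟩), Fintype.card_prod, hK, pow_two]
  have hz : Fintype.card {p : K × K × K // p.1 = 0} = q ^ 2 := by
    refine hplane _ (fun z => (0, z.1, z.2)) (fun a b e => ?_) fun p => ⟨fun h => ⟨(p.2.1, p.2.2),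
      Prod.ext h.symm rfl⟩, ?_⟩
    · simp only [Prod.mk.injEq, true_and] at e
      exact Prod.ext e.1 e.2
    · rintro ⟨z, rfl⟩; rfl
  have hw : Fintype.card {p : K × K × K // p.2.1 = tw m p.1 * p.1} = q ^ 2 := by
    refine hplane _ (fun z => (z.1, tw m z.1 * z.1, z.2)) (fun a b e => ?_) fun p =>
      ⟨fun h => ⟨(p.1, p.2.2), Prod.ext rfl (Prod.ext h.symm rfl)⟩, ?_⟩
    · simp only [Prod.mk.injEq] at e
      exact Prod.ext e.1 e.2.2
    · rintro ⟨z, rfl⟩; rfl
  have hcube : Fintype.card (K × K × K) = q ^ 3 := by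
    rw [Fintype.card_prod, Fintype.card_prod, hK]
    ring
  have h1 : ∀ p : K × K × K, p ≠ (0, 0, 0) →
      (p.1 = 0 → orderOf (rr p : G1 K m) = 3) ∧ (p.1 ≠ 0 → orderOf (rr p : G1 K m) = 9) := by
    intro p hp
    refine ⟨fun h0 => orderOf_eq_prime ((rr_cube_eq_one hK).2 h0) fun e => hp (rr_eq_one e),
      fun h0 => orderOf_eq_prime_pow (p := 3) (n := 1)
        (by rw [pow_one]; exact fun e1 => h0 ((rr_cube_eq_one hK).1 e1)) (rr_pow_nine hK p)⟩
  split_ifs with h3 h69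
  · subst h3
    have e : Fintype.card {z : K × K // z ≠ (0, 0)} = q ^ 2 - 1 := by
      rw [Fintype.card_subtype_compl, Fintype.card_subtype_eq, Fintype.card_prod, hK, pow_two]
    rw [← e, ← Nat.card_eq_fintype_card]
    refine (Nat.card_eq_of_bijective (fun z : {z : K × K // z ≠ (0, 0)} =>
      (⟨rr (0, z.1.1, z.1.2), rr_mem_B1 hK _, ?_⟩ :
        {g : G1 K m // g ∈ B1 K m ∧ orderOf g = 3})) ⟨?_, ?_⟩).symm
    · refine (h1 _ fun e' => z.2 ?_).1 rfl
      simp only [Prod.mk.injEq, true_and] at e'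
      exact Prod.ext e'.1 e'.2
    · intro a b e'
      have := rr_injective (congrArg Subtype.val e' :)
      simp only [Prod.mk.injEq, true_and] at this
      exact Subtype.ext (Prod.ext this.1 this.2)
    · rintro ⟨g, hg, ho⟩
      obtain ⟨⟨t, u, v⟩, c, rfl⟩ := (mem_B1 hK).1 hg
      rcases B1_order_cases hK (by rw [ho]) with ⟨rfl, ⟨h0, -⟩ | ⟨-, h⟩⟩ | ⟨-, -, h⟩
      · simp only at h0
        subst h0
        refine ⟨⟨(u, v), fun e' => ?_⟩, Subtype.ext ?_⟩
        · simp only [Prod.mk.injEq] at e'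
          rw [e'.1, e'.2, rr_zero, map_one, one_mul, orderOf_one] at ho
          exact absurd ho (by norm_num)
        · show rr _ = rr _ * tt hK 1
          simp only [map_one, mul_one]
      · rw [ho] at h; exact absurd h (by norm_num)
      · rw [ho] at h; exact absurd h (by norm_num)
  · rcases h69 with rfl | rfl
    · rw [← hcube, ← hw, ← Fintype.card_subtype_compl, ← Nat.card_eq_fintype_card]
      refine (Nat.card_eq_of_bijective (fun p : {p : K × K × K // ¬ p.2.1 = tw m p.1 * p.1} =>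
        (⟨rr p.1 * invJ, ?_, ?_⟩ : {g : G1 K m // g ∈ B1 K m ∧ orderOf g = 6})) ⟨?_, ?_⟩).symm
      · rw [← tt_neg_one hK]
        exact mul_mem (rr_mem_B1 hK _) (tt_mem_B1 hK _)
      · refine orderOf_three_mul hK (fun e => p.2 ((rr_invJ_sq_eq_one hK).1 e)) ?_ ?_
        · obtain ⟨⟨t, u, v⟩, hp⟩ := p
          rw [invJ_sq_form hK]
          exact (rr_cube_eq_one hK).2 rfl
        · intro e
          obtain ⟨r, hr⟩ := B1_pow hK (m := m) p.1 (-1) 3
          rw [tt_neg_one hK, e] at hr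
          have e2 : (rr r : G1 K m) * tt hK ((-1) ^ 3) = rr (0, 0, 0) * tt hK 1 := by
            rw [← hr, rr_zero, map_one, mul_one]
          exact neg_one_ne_one (units_eq_one_of_cube hK (j := 1) (m := m)
            (by rw [pow_one]; exact (rr_tt_unique hK e2).2))
      · intro a b e
        exact Subtype.ext (rr_injective (mul_right_cancel (congrArg Subtype.val e :)))
      · rintro ⟨g, hg, ho⟩
        obtain ⟨p, c, rfl⟩ := (mem_B1 hK).1 hg
        rcases B1_order_cases hK (by rw [ho]; norm_num) with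
          ⟨-, ⟨-, h⟩ | ⟨-, h⟩⟩ | ⟨rfl, hp, -⟩
        · rw [ho] at h; exact absurd h (by norm_num)
        · rw [ho] at h; exact absurd h (by norm_num)
        · exact ⟨⟨p, hp⟩, Subtype.ext (show rr p * invJ = rr p * tt hK (-1) by rw [tt_neg_one hK])⟩
    · rw [← hcube, ← hz, ← Fintype.card_subtype_compl, ← Nat.card_eq_fintype_card]
      refine (Nat.card_eq_of_bijective (fun p : {p : K × K × K // ¬ p.1 = 0} =>
        (⟨rr p.1, rr_mem_B1 hK _, ?_⟩ : {g : G1 K m // g ∈ B1 K m ∧ orderOf g = 9})) ⟨?_, ?_⟩).symm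
      · exact (h1 p.1 (fun e => p.2 (by rw [e]))).2 p.2
      · intro a b e
        exact Subtype.ext (rr_injective (congrArg Subtype.val e :))
      · rintro ⟨g, hg, ho⟩
        obtain ⟨p, c, rfl⟩ := (mem_B1 hK).1 hg
        rcases B1_order_cases hK (by rw [ho]; norm_num) with
          ⟨rfl, ⟨-, h⟩ | ⟨h0, -⟩⟩ | ⟨-, -, h⟩
        · rw [ho] at h; exact absurd h (by norm_num)
        · exact ⟨⟨p, h0⟩, Subtype.ext (show rr p = rr p * tt hK 1 by rw [map_one, mul_one])⟩
        · rw [ho] at h; exact absurd h (by norm_num)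
  · rw [Nat.card_eq_zero]
    refine Or.inl ⟨fun g => ?_⟩
    obtain ⟨p, c, hg⟩ := (mem_B1 hK).1 g.2.1
    have ho := g.2.2
    rw [hg] at ho
    rcases B1_order_cases hK (by rw [ho]; exact hk) with ⟨-, ⟨-, h⟩ | ⟨-, h⟩⟩ | ⟨-, -, h⟩
    · exact h3 (ho.symm.trans h)
    · exact h69 (Or.inr (ho.symm.trans h))
    · exact h69 (Or.inl (ho.symm.trans h))

theorem order_three_conj {y : G1 K m} (h : 3 ∣ orderOf y) : ∃ g, g * y * g⁻¹ ∈ B1 K m := by
  obtain ⟨k, hk⟩ := exists_pow_orderOf Nat.prime_three h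
  obtain ⟨g, hg⟩ := exists_conj_U1 hK (x := y ^ k) (n := 1) (by rw [pow_one]; exact orderOf_dvd_iff_pow_eq_one.1 (dvd_of_eq hk))
  refine ⟨g, centralizer_le_B1 hK hg (fun e => ?_) ?_⟩
  · rw [conj_eq_one_iff.1 e, orderOf_one] at hk
    exact absurd hk (by norm_num)
  · rw [← conj_pow]
    exact (Commute.self_pow _ k).eq

theorem order_three_ti {d g : G1 K m} (hd : d ∈ B1 K m) (h : 3 ∣ orderOf d)
    (hg : g * d * g⁻¹ ∈ B1 K m) : g ∈ B1 K m := by
  obtain ⟨k, hk⟩ := exists_pow_orderOf Nat.prime_three h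
  have h3 : (d ^ k) ^ 3 ^ 1 = 1 := by rw [pow_one]; exact orderOf_dvd_iff_pow_eq_one.1 (dvd_of_eq hk)
  have h1 := mem_U1_of_pow hK (pow_mem hd k) h3
  have h2 := mem_U1_of_pow hK (pow_mem hg k) (j := 1) (by rw [conj_pow, conj_pow, h3]; group)
  rw [conj_pow] at h2
  have := mem_B1_of_conj hK (g := g⁻¹) h1 (by rwa [inv_inv]) (fun e => by
    rw [e, orderOf_one] at hk; exact absurd hk (by norm_num))
  exact inv_mem_iff.1 this

theorem card_order_three_mul (k : ℕ) (hk : 3 ∣ k) :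
    Nat.card {y : G1 K m // orderOf y = k} * Nat.card (B1 K m) =
      Nat.card (G1 K m) * Nat.card {g : G1 K m // g ∈ B1 K m ∧ orderOf g = k} := by
  have h := card_cover {g : G1 K m | g ∈ B1 K m ∧ orderOf g = k} (B1 K m)
    (fun n hn d hd => ⟨mul_mem (mul_mem hn hd.1) (inv_mem hn), by
      rw [← MulAut.conj_apply, MulEquiv.orderOf_eq, hd.2]⟩)
    (fun g d hd hg => order_three_ti hK hd.1 (hd.2 ▸ hk) hg.1)
  refine Eq.trans ?_ h
  congr 1
  refine Nat.card_congr (Equiv.subtypeEquivRight fun y => ⟨fun hy => ?_, ?_⟩)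
  · obtain ⟨g, hg⟩ := order_three_conj hK (hy ▸ hk)
    exact ⟨g, hg, by rw [← MulAut.conj_apply, MulEquiv.orderOf_eq, hy]⟩
  · rintro ⟨g, -, hg⟩
    rwa [← MulAut.conj_apply, MulEquiv.orderOf_eq] at hg

end Ree

end Cfsg.Agent.Chev
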