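import Cfsg.Agent.Chev.Ree.ToriThms

/-!
Centralisers of cyclic tori and normalisers of solvable subgroups of `²G₂(q)`.
-/

set_option autoImplicit false
set_option maxRecDepth 100000
set_option maxHeartbeats 2000000

namespace Cfsg.Agent.Chev

open Cfsg.Lie
open scoped MatrixGroups

universe u

namespace Ree

/-- A nontrivial solvable group has a nontrivial normal abelian subgroup of prime exponent. -/
theorem exists_normal_exp {Q : Type*} [Group Q] [Finite Q] [Nontrivial Q] (h : Group.IsSolvable Q) :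
    ∃ (r : ℕ) (D : Subgroup Q), r.Prime ∧ D.Normal ∧ D ≠ ⊥ ∧ (∀ a ∈ D, ∀ b ∈ D, a * b = b * a) ∧
      ∀ a ∈ D, a ^ r = 1 := by
  classical
  obtain ⟨k, hk, hmin⟩ : ∃ k, derivedSeries Q (k + 1) = ⊥ ∧ derivedSeries Q k ≠ ⊥ := by
    have hex := h.solvable
    obtain ⟨k, hk⟩ : ∃ k, Nat.find hex = k + 1 := by
      refine Nat.exists_eq_succ_of_ne_zero fun e => ?_
      have := Nat.find_spec hex
      rw [e, derivedSeries_zero] at this
      exact top_ne_bot this
    exact ⟨k, hk ▸ Nat.find_spec hex, Nat.find_min hex (by omega)⟩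
  set D := derivedSeries Q k with hD
  have hDn : D.Normal := derivedSeries_normal Q k
  have hcomm : ∀ a ∈ D, ∀ b ∈ D, a * b = b * a := by
    intro a ha b hb
    have := Subgroup.commutator_mem_commutator ha hb
    rw [hD, ← derivedSeries_succ, hk, Subgroup.mem_bot, commutatorElement_eq_one_iff_mul_comm] at this
    exact this
  obtain ⟨r, hr, hrD⟩ := Nat.exists_prime_and_dvd
    (show Nat.card D ≠ 1 from fun e => hmin (Subgroup.eq_bot_of_card_eq _ e))
  haveI : Fact r.Prime := ⟨hr⟩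
  obtain ⟨x, hx⟩ := exists_prime_orderOf_dvd_card' r hrD
  let E : Subgroup Q :=
    { carrier := {a | a ∈ D ∧ a ^ r = 1}
      one_mem' := ⟨one_mem _, one_pow r⟩
      mul_mem' := fun {a b} ha hb => ⟨mul_mem ha.1 hb.1, by
        rw [(show Commute a b from hcomm a ha.1 b hb.1).mul_pow, ha.2, hb.2, one_mul]⟩
      inv_mem' := fun {a} ha => ⟨inv_mem ha.1, by rw [inv_pow, ha.2, inv_one]⟩ }
  refine ⟨r, E, hr, ⟨fun a ha g => ⟨hDn.conj_mem a ha.1 g, by rw [conj_pow, ha.2, mul_one, mul_inv_cancel]⟩⟩,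
    fun e => ?_, fun a ha b hb => hcomm a ha.1 b hb.1, fun a ha => ha.2⟩
  have hxE : (x : Q) ∈ E :=
    ⟨x.2, congrArg Subtype.val (orderOf_dvd_iff_pow_eq_one.1 (dvd_of_eq hx) : x ^ r = 1)⟩
  rw [e, Subgroup.mem_bot] at hxE
  rw [show x = 1 from Subtype.ext hxE, orderOf_one] at hx
  exact hr.one_lt.ne hx

variable {G : Type*} [Group G]

theorem le_normalizer_of_conj_mem {S M : Subgroup G} (h : ∀ s ∈ S, ∀ a ∈ M, s * a * s⁻¹ ∈ M) :
    S ≤ Subgroup.normalizer (M : Set G) := by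
  intro s hs
  refine Subgroup.mem_normalizer_iff.2 fun a => ⟨h s hs a, fun ha => ?_⟩
  have := h s⁻¹ (inv_mem hs) _ ha
  simpa [mul_assoc] using this

/-- What is needed for a solvable subgroup: it lies in a two-group, or normalises a suitable abelian
subgroup of prime exponent. -/
theorem solvable_cases [Finite G] (hfour : ∀ x : G, x ^ 4 = 1 → x ^ 2 = 1) (S : Subgroup G)
    (hS : Group.IsSolvable S) :
    IsPGroup 2 S ∨ ∃ (r : ℕ) (M : Subgroup G), r.Prime ∧ S ≤ Subgroup.normalizer (M : Set G) ∧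
      M ≠ ⊥ ∧ (∀ a ∈ M, ∀ b ∈ M, a * b = b * a) ∧ (∀ a ∈ M, a ^ r = 1) ∧
      (r = 2 → Nat.card M ≠ 2) := by
  classical
  by_cases hbot : S = ⊥
  · subst hbot
    exact Or.inl IsPGroup.of_bot
  haveI : Nontrivial S := S.nontrivial_iff_ne_bot.2 hbot
  obtain ⟨r, D, hr, hDn, hD, hDc, hDe⟩ := exists_normal_exp hS
  have hmap : ∀ E : Subgroup S, E.Normal →
      S ≤ Subgroup.normalizer (E.map S.subtype : Set G) := fun E hE =>
    le_normalizer_of_conj_mem fun s hs a ha => by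
      obtain ⟨e, he, rfl⟩ := ha
      exact ⟨⟨s, hs⟩ * e * ⟨s, hs⟩⁻¹, hE.conj_mem e he _, rfl⟩
  have hne : ∀ E : Subgroup S, E ≠ ⊥ → E.map S.subtype ≠ ⊥ := fun E hE e =>
    hE ((Subgroup.map_eq_bot_iff_of_injective _ S.subtype_injective).1 e)
  have hlift : ∀ (E : Subgroup S) (s : ℕ), (∀ a ∈ E, ∀ b ∈ E, a * b = b * a) → (∀ a ∈ E, a ^ s = 1) →
      (∀ a ∈ E.map S.subtype, ∀ b ∈ E.map S.subtype, a * b = b * a) ∧
        ∀ a ∈ E.map S.subtype, a ^ s = 1 := by
    intro E s h1 h2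
    refine ⟨?_, ?_⟩
    · rintro _ ⟨a, ha, rfl⟩ _ ⟨b, hb, rfl⟩
      rw [← map_mul, h1 a ha b hb, map_mul]
    · rintro _ ⟨a, ha, rfl⟩
      rw [← map_pow, h2 a ha, map_one]
  by_cases hcase : r = 2 ∧ Nat.card D = 2
  swap
  · obtain ⟨l1, l2⟩ := hlift D r hDc hDe
    refine Or.inr ⟨r, _, hr, hmap D hDn, hne D hD, l1, l2, fun e he => hcase ⟨e, ?_⟩⟩
    rwa [Nat.card_congr (D.equivMapOfInjective _ S.subtype_injective).toEquiv]
  obtain ⟨-, hD2⟩ := hcase
  obtain ⟨i, j, hij, huniv⟩ := Nat.card_eq_two_iff.1 hD2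
  -- the generator of `D` is central
  have hcent : ∀ c ∈ D, ∀ s : S, s * c = c * s := by
    intro c hc s
    have h2 : ∀ x ∈ D, x ≠ 1 → x = c ∨ c = 1 := by
      intro x hx hx1
      by_cases hc1 : c = 1
      · exact Or.inr hc1
      refine Or.inl ?_
      have a1 : (⟨x, hx⟩ : D) ∈ ({i, j} : Set D) := huniv ▸ Set.mem_univ _
      have a2 : (⟨c, hc⟩ : D) ∈ ({i, j} : Set D) := huniv ▸ Set.mem_univ _
      have a3 : (1 : D) ∈ ({i, j} : Set D) := huniv ▸ Set.mem_univ _
      simp only [Set.mem_insert_iff, Set.mem_singleton_iff] at a1 a2 a3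
      rcases a3 with a3 | a3 <;> rcases a1 with a1 | a1 <;> rcases a2 with a2 | a2 <;>
        first
          | exact congrArg Subtype.val (a1.trans a2.symm)
          | exact absurd (congrArg Subtype.val (a1.trans a3.symm)) hx1
          | exact absurd (congrArg Subtype.val (a2.trans a3.symm)) hc1
    by_cases hc1 : c = 1
    · rw [hc1, mul_one, one_mul]
    rcases h2 _ (hDn.conj_mem c hc s) (fun e => hc1 (conj_eq_one_iff.1 e)) with e | e
    · exact mul_inv_eq_iff_eq_mul.1 e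
    · exact absurd e hc1
  haveI := hDn
  by_cases htop : D = ⊤
  · left
    refine IsPGroup.of_card (n := 1) ?_
    rw [← Subgroup.card_top (G := S), ← htop, hD2, pow_one]
  haveI : Nontrivial (S ⧸ D) := QuotientGroup.nontrivial_iff.2 htop
  haveI := hS
  obtain ⟨r', E, hr', hEn, hE, hEc, hEe⟩ := exists_normal_exp (Q := S ⧸ D) inferInstance
  set π := QuotientGroup.mk' D
  set M₂ := E.comap π with hM₂
  haveI : M₂.Normal := hEn.comap π
  have hDM : D ≤ M₂ := fun d hd => by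
    rw [hM₂, Subgroup.mem_comap, show π d = 1 from (QuotientGroup.eq_one_iff d).2 hd]
    exact one_mem _
  obtain ⟨y₀, hy₀, hy₀D⟩ : ∃ y ∈ M₂, y ∉ D := by
    obtain ⟨e, he, he1⟩ := E.bot_or_exists_ne_one.resolve_left hE
    obtain ⟨y, rfl⟩ := QuotientGroup.mk'_surjective D e
    exact ⟨y, he, fun h => he1 ((QuotientGroup.eq_one_iff y).2 h)⟩
  have hpow : ∀ y ∈ M₂, y ^ r' ∈ D := fun y hy => by
    rw [← QuotientGroup.eq_one_iff, ← QuotientGroup.mk'_apply, map_pow]
    exact hEe _ hy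
  have hsq : ∀ d ∈ D, d ^ 2 = 1 := fun d hd => by
    have := congrArg Subtype.val (pow_card_eq_one' (x := (⟨d, hd⟩ : D)))
    rwa [hD2] at this
  by_cases hr2 : r' = 2
  · subst hr2
    have he2 : ∀ y ∈ M₂, y ^ 2 = 1 := by
      intro y hy
      have h4 : (y : G) ^ 4 = 1 := by
        rw [← Subgroup.coe_pow, show (4 : ℕ) = 2 * 2 from rfl, pow_mul, hsq _ (hpow y hy)]
        rfl
      exact Subtype.ext (hfour _ h4)
    have hc2 : ∀ a ∈ M₂, ∀ b ∈ M₂, a * b = b * a := by
      intro a ha b hb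
      have inv : ∀ z ∈ M₂, z⁻¹ = z := fun z hz =>
        inv_eq_of_mul_eq_one_right (by rw [← pow_two]; exact he2 z hz)
      have := inv _ (mul_mem ha hb)
      rw [mul_inv_rev, inv a ha, inv b hb] at this
      exact this.symm
    obtain ⟨l1, l2⟩ := hlift M₂ 2 hc2 he2
    refine Or.inr ⟨2, _, Nat.prime_two, hmap M₂ inferInstance, hne M₂ ?_, l1, l2, fun _ he => hy₀D ?_⟩
    · intro e
      rw [e, Subgroup.mem_bot] at hy₀
      exact hy₀D (hy₀ ▸ one_mem _)
    · rw [Nat.card_congr (M₂.equivMapOfInjective _ S.subtype_injective).toEquiv.symm] at he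
      rw [Subgroup.eq_of_le_of_card_ge hDM (by rw [he, hD2])]
      exact hy₀
  · have hodd : Odd r' := hr'.odd_of_ne_two hr2
    obtain ⟨k, hk⟩ := hodd
    have hcd : ∀ d ∈ D, d ^ r' = d := fun d hd => by
      rw [hk, pow_succ, pow_mul, hsq d hd, one_pow, one_mul]
    have hcomm : ∀ a ∈ M₂, ∀ b ∈ M₂, a ^ r' = 1 → b ^ r' = 1 → a * b = b * a := by
      intro a ha b hb _ hb1
      have hc : a * b * a⁻¹ * b⁻¹ ∈ D := by
        rw [← QuotientGroup.eq_one_iff, ← QuotientGroup.mk'_apply, map_mul, map_mul, map_mul,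
          map_inv, map_inv, hEc _ ha _ hb, mul_inv_cancel_right, mul_inv_cancel]
      have h1 : (a * b * a⁻¹) ^ r' = (a * b * a⁻¹ * b⁻¹) ^ r' * b ^ r' := by
        rw [← (show Commute (a * b * a⁻¹ * b⁻¹) b from (hcent _ hc b).symm).mul_pow,
          inv_mul_cancel_right]
      rw [conj_pow, hb1, hcd _ hc, mul_one, mul_inv_cancel, mul_one] at h1
      calc a * b = a * b * a⁻¹ * b⁻¹ * (b * a) := by group
        _ = b * a := by rw [← h1, one_mul]
    let M₃ : Subgroup S :=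
      { carrier := {a | a ∈ M₂ ∧ a ^ r' = 1}
        one_mem' := ⟨one_mem _, one_pow _⟩
        mul_mem' := fun {a b} ha hb => ⟨mul_mem ha.1 hb.1, by
          rw [(show Commute a b from hcomm a ha.1 b hb.1 ha.2 hb.2).mul_pow, ha.2, hb.2, one_mul]⟩
        inv_mem' := fun {a} ha => ⟨inv_mem ha.1, by rw [inv_pow, ha.2, inv_one]⟩ }
    have hM₃n : M₃.Normal := ⟨fun a ha g => ⟨(inferInstance : M₂.Normal).conj_mem a ha.1 g,
      by rw [conj_pow, ha.2, mul_one, mul_inv_cancel]⟩⟩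
    obtain ⟨l1, l2⟩ := hlift M₃ r' (fun a ha b hb => hcomm a ha.1 b hb.1 ha.2 hb.2) fun a ha => ha.2
    refine Or.inr ⟨r', _, hr', hmap M₃ hM₃n, hne M₃ fun e => hy₀D ?_, l1, l2, fun e => absurd e hr2⟩
    have hmem : y₀ * y₀ ^ r' ∈ M₃ := ⟨mul_mem hy₀ (pow_mem hy₀ _), by
      rw [((Commute.refl y₀).pow_right r').mul_pow, hcd _ (hpow y₀ hy₀), ← pow_two,
        hsq _ (hpow y₀ hy₀)]⟩
    rw [e, Subgroup.mem_bot] at hmem
    rw [show y₀ = (y₀ ^ r')⁻¹ from eq_inv_of_mul_eq_one_left hmem]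
    exact inv_mem (hpow y₀ hy₀)

/-- The normaliser of a subgroup, carried along a conjugation. -/
theorem normalizer_map_le {T A : Subgroup G}
    (h : Subgroup.normalizer (T : Set G) ≤ Subgroup.normalizer (A : Set G)) (g : G) :
    Subgroup.normalizer ((T.map (MulAut.conj g).toMonoidHom : Subgroup G) : Set G) ≤
      Subgroup.normalizer ((A.map (MulAut.conj g).toMonoidHom : Subgroup G) : Set G) := by
  rw [← Subgroup.map_equiv_normalizer_eq, ← Subgroup.map_equiv_normalizer_eq]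
  exact Subgroup.map_mono h

theorem isCyclic_map_conj {A : Subgroup G} (hA : IsCyclic A) (g : G) :
    IsCyclic (A.map (MulAut.conj g).toMonoidHom : Subgroup G) := by
  haveI := hA
  exact isCyclic_of_surjective
    (A.equivMapOfInjective (MulAut.conj g).toMonoidHom (MulEquiv.injective _)).toMonoidHom
    (MulEquiv.surjective _)

/-- An abelian normal subgroup meeting a torus. -/
theorem IsTorus.exists_normalized {T A M S : Subgroup G} (hT : IsTorus T) (hA : IsCyclic A)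
    (hN : Subgroup.normalizer (T : Set G) ≤ Subgroup.normalizer (A : Set G))
    (hS : S ≤ Subgroup.normalizer (M : Set G)) (hM : ∀ a ∈ M, ∀ b ∈ M, a * b = b * a)
    {x g : G} (hx : x ∈ M) (hg : g * x * g⁻¹ ∈ T) (hg2 : (g * x * g⁻¹) ^ 2 ≠ 1) :
    ∃ A' : Subgroup G, IsCyclic A' ∧ Nat.card A' = Nat.card A ∧
      S ≤ Subgroup.normalizer (A' : Set G) := by
  have hT' := hT.map g⁻¹
  have hxT : x ∈ T.map (MulAut.conj g⁻¹).toMonoidHom := mem_map_conj.2 (by rwa [inv_inv])
  have hx2 : x ^ 2 ≠ 1 := fun e => hg2 (by rw [conj_pow, e, mul_one, mul_inv_cancel])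
  have hMT : M ≤ T.map (MulAut.conj g⁻¹).toMonoidHom := fun y hy => by
    rw [← hT'.cent x hxT hx2]
    exact Subgroup.mem_centralizer_singleton_iff.2 (hM y hy x hx)
  exact ⟨_, isCyclic_map_conj hA g⁻¹, card_map_conj A g⁻¹,
    hS.trans ((hT'.normalizer_le hMT hx hx2).trans (normalizer_map_le hN g⁻¹))⟩

variable {K : Type u} [Field K] [Fintype K] [CharP K 3] {m : ℕ}
  (hK : Fintype.card K = 3 ^ (2 * m + 1))
include hK

/-- Centralisers of cyclic subgroups of two of the Hall orders. -/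
theorem centralizer_cyclic (hm : 1 ≤ m) (H : Subgroup (G1 K m)) (hH : IsCyclic H) :
    (Nat.card H = (3 ^ (2 * m + 1) - 1) / 2 →
      IsCyclic ↥(Subgroup.centralizer (H : Set (G1 K m))) ∧
        Nat.card ↥(Subgroup.centralizer (H : Set (G1 K m))) = 3 ^ (2 * m + 1) - 1 ∧
        ∀ A : Subgroup (G1 K m), A ≤ H → A ≠ ⊥ →
          Subgroup.centralizer (A : Set (G1 K m)) = Subgroup.centralizer (H : Set (G1 K m))) ∧
    (Nat.card H = (3 ^ (2 * m + 1) + 1) / 4 →
      IsMulCommutative ↥(Subgroup.centralizer (H : Set (G1 K m))) ∧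
        Nat.card ↥(Subgroup.centralizer (H : Set (G1 K m))) = 3 ^ (2 * m + 1) + 1 ∧
        (∀ x ∈ Subgroup.centralizer (H : Set (G1 K m)), orderOf x ≠ 4) ∧
        ∀ A : Subgroup (G1 K m), A ≤ H → A ≠ ⊥ →
          Subgroup.centralizer (A : Set (G1 K m)) = Subgroup.centralizer (H : Set (G1 K m))) := by
  have h8 := pow_odd_mod m
  have h27 := le_pow_odd hm
  obtain ⟨x, hx, hxo⟩ := exists_generator_of_isCyclic hH
  have key : ∀ (T : Subgroup (G1 K m)), IsTorus T → Odd (Nat.card H) → H ≠ ⊥ →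
      ∀ g, g * x * g⁻¹ ∈ T →
      Subgroup.centralizer (H : Set (G1 K m)) = T.map (MulAut.conj g⁻¹).toMonoidHom ∧
      ∀ A : Subgroup (G1 K m), A ≤ H → A ≠ ⊥ →
        Subgroup.centralizer (A : Set (G1 K m)) = Subgroup.centralizer (H : Set (G1 K m)) := by
    intro T hT hodd hne g hg
    have hT' := hT.map g⁻¹
    have hle : H ≤ T.map (MulAut.conj g⁻¹).toMonoidHom := by
      rw [← hx, Subgroup.zpowers_le, mem_map_conj, inv_inv]
      exact hg
    have hA : ∀ A : Subgroup (G1 K m), A ≤ H → A ≠ ⊥ →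
        Subgroup.centralizer (A : Set (G1 K m)) = T.map (MulAut.conj g⁻¹).toMonoidHom := by
      intro A hAH hA1
      obtain ⟨y, hy, hy2⟩ := exists_sq_ne_one (hodd.of_dvd_nat (Subgroup.card_dvd_of_le hAH)) hA1
      exact hT'.centralizer_eq (hAH.trans hle) hy hy2
    exact ⟨hA H le_rfl hne, fun A h h' => (hA A h h').trans (hA H le_rfl hne).symm⟩
  constructor
  · intro hc
    have hne : H ≠ ⊥ := fun e => by rw [e, Subgroup.card_bot] at hc; omega
    obtain ⟨p, hp, hpx⟩ := Nat.exists_prime_and_dvd (show orderOf x ≠ 1 by rw [hxo, hc]; omega)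
    have hodd : Odd (Nat.card H) := hc ▸ Nat.odd_iff.2 (by omega)
    have hp2 : p ≠ 2 := fun e => by
      subst e
      exact absurd ((hxo ▸ hodd : Odd (orderOf x)).of_dvd_nat hpx) (by decide)
    obtain ⟨g, c, -, e⟩ := exists_conj_H1 hK hp hp2
      ((hxo.trans hc ▸ hpx).trans (Nat.div_dvd_of_dvd (by omega))) hpx
    obtain ⟨h1, h2⟩ := key _ (isTorus_H1 hK) hodd hne g ((mem_H1 hK).2 ⟨c, e⟩)
    refine ⟨?_, ?_, h2⟩ <;> rw [h1]
    · exact isCyclic_map_conj (isCyclic_H1 hK) _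
    · rw [card_map_conj, card_H1_eq hK]
  · intro hc
    have hne : H ≠ ⊥ := fun e => by rw [e, Subgroup.card_bot] at hc; omega
    obtain ⟨p, hp, hpx⟩ := Nat.exists_prime_and_dvd (show orderOf x ≠ 1 by rw [hxo, hc]; omega)
    have hodd : Odd (Nat.card H) := hc ▸ Nat.odd_iff.2 (by omega)
    obtain ⟨T, a, hT, -, hTconj⟩ := exists_qtorus hK hm (m := m) (K := K)
    obtain ⟨g, hg, -⟩ := hTconj x p hp (hxo.trans hc ▸ hpx) hpx
    obtain ⟨h1, h2⟩ := key _ hT.torus hodd hne g hg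
    have hT' := hT.torus.map g⁻¹
    refine ⟨?_, ?_, ?_, h2⟩
    · rw [h1]
      exact ⟨⟨fun u v => Subtype.ext (hT'.comm u u.2 v v.2)⟩⟩
    · rw [h1, card_map_conj, hT.card]
    · intro y hy h4
      exact not_four_dvd_orderOf hK y (h4 ▸ dvd_rfl)

/-- The normaliser of a four-group through the standard involution normalises a cyclic subgroup
of order `(q + 1) / 4`. -/
theorem klein_normalizer (hm : 1 ≤ m) {V : Subgroup (G1 K m)} (hJ : invJ ∈ V)
    (hV : Nat.card V = 4) (hVc : ∀ a ∈ V, ∀ b ∈ V, a * b = b * a) (hV2 : ∀ a ∈ V, a ^ 2 = 1) :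
    ∃ A : Subgroup (G1 K m), IsCyclic A ∧ Nat.card A = (3 ^ (2 * m + 1) + 1) / 4 ∧
      Subgroup.normalizer (V : Set (G1 K m)) ≤ Subgroup.normalizer (A : Set (G1 K m)) := by
  classical
  haveI : Fact (Nat.Prime 3) := ⟨Nat.prime_three⟩
  obtain ⟨ψ, hψi, hψc, hψne, hψs⟩ := exists_psiP hK (m := m) (K := K)
  obtain ⟨T, a, hT, -, hTconj⟩ := exists_qtorus hK hm (m := m) (K := K)
  set q := 3 ^ (2 * m + 1) with hq
  have h8 : q % 8 = 3 := pow_odd_mod m
  have h27 : 27 ≤ q := le_pow_odd hm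
  have hJJ : (invJ : G1 K m) * invJ = 1 := invJ_sq
  obtain ⟨v, hv, hv1, hvJ⟩ : ∃ v ∈ V, v ≠ 1 ∧ v ≠ invJ := by
    by_contra hno
    push Not at hno
    have hsurj : Function.Surjective fun b : Bool =>
        (if b then ⟨invJ, hJ⟩ else 1 : ↥V) := fun z => by
      by_cases hz : (z : G1 K m) = 1
      · exact ⟨false, Subtype.ext hz.symm⟩
      · exact ⟨true, Subtype.ext (hno z z.2 hz).symm⟩
    have := Nat.card_le_card_of_surjective _ hsurj
    rw [hV, Nat.card_eq_fintype_card, Fintype.card_bool] at this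
    omega
  obtain ⟨h, hh⟩ := hψs v (Subgroup.mem_centralizer_singleton_iff.2 (hVc v hv _ hJ))
  have hh1 : h ≠ 1 := fun e => by
    rcases hh with hh | hh <;> rw [e, map_one] at hh
    · exact hv1 hh
    · exact hvJ (by rw [hh, mul_one])
  have hh2 : h * h = 1 := hψi (by
    rw [map_mul, map_one, ← hV2 v hv, pow_two]
    rcases hh with rfl | rfl
    · rfl
    · calc ψ h * ψ h = invJ * invJ * (ψ h * ψ h) := by rw [hJJ, one_mul]
        _ = invJ * (invJ * ψ h) * ψ h := by group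
        _ = invJ * (ψ h * invJ) * ψ h := by rw [(hψc h).eq]
        _ = invJ * ψ h * (invJ * ψ h) := by group)
  have hh3 : h ^ 3 ≠ 1 := fun e => hh1 (by rwa [pow_succ, pow_two, hh2, one_mul] at e)
  have hhm := Classical.Dickson2.mem_tor h
  have hcard : Nat.card (Classical.Dickson2.tor h) = 2 * ((q + 1) / 4) := by
    have hg : Nat.gcd 2 (Fintype.card K - 1) = 2 := by
      rw [hK]
      exact Nat.gcd_eq_left (by omega)
    have h2 : 2 ∣ Nat.card (Classical.Dickson2.tor h) :=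
      (dvd_of_eq (orderOf_eq_prime (by rw [pow_two]; exact hh2) hh1).symm).trans
        (Subgroup.orderOf_dvd_natCard _ hhm)
    rcases Classical.Dickson2.card_tor_semis 3 hh3 with e | e <;> rw [hg, hK] at e <;> omega
  obtain ⟨p, hp, hpb⟩ := Nat.exists_prime_and_dvd (show (q + 1) / 4 ≠ 1 by omega)
  haveI : Fact p.Prime := ⟨hp⟩
  obtain ⟨t, ht⟩ := exists_prime_orderOf_dvd_card' (G := Classical.Dickson2.tor h) p
    (hcard ▸ dvd_mul_of_dvd_right hpb 2)
  have hx1 := Classical.Dickson2.ne_one_of_semis 3 hh3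
  set y := ψ (t : _) with hy
  have hyo : orderOf y = p := by rw [hy, orderOf_injective ψ hψi, Subgroup.orderOf_coe, ht]
  obtain ⟨g, hg, hg2⟩ := hTconj y p hp hpb (dvd_of_eq hyo.symm)
  set T' := T.map (MulAut.conj g⁻¹).toMonoidHom with hT'def
  have hT' : IsTorus T' := hT.torus.map g⁻¹
  have hyT : y ∈ T' := mem_map_conj.2 (by rwa [inv_inv])
  have hy2 : y ^ 2 ≠ 1 := fun e => hg2 (by rw [conj_pow, e, mul_one, mul_inv_cancel])
  -- the four-group lies in this torus
  have hvy : v * y = y * v := by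
    have e : Commute (ψ h) y :=
      (show Commute h t.1 from Classical.Dickson2.tor_comm hx1 hhm t.2).map ψ
    rcases hh with rfl | rfl
    · exact e.eq
    · exact ((hψc _).mul_left e).eq
  have hvT : v ∈ T' := by
    rw [← hT'.cent y hyT hy2]
    exact Subgroup.mem_centralizer_singleton_iff.2 hvy
  -- its centraliser normalises the torus
  have hC : ∀ c : G1 K m, c * invJ = invJ * c → c * v = v * c → c ∈ T' ∨ c ^ 2 = 1 := by
    intro c hcJ hcv
    obtain ⟨k, hk⟩ := hψs c (Subgroup.mem_centralizer_singleton_iff.2 hcJ)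
    have hkh : k * h = h * k := by
      refine hψi ?_
      rw [map_mul, map_mul]
      have e1 : Commute c (ψ h) := by
        rcases hh with hh | hh <;> rw [hh] at hcv
        · exact hcv
        · have := (show Commute c invJ from hcJ).mul_right (show Commute c (invJ * ψ h) from hcv)
          rwa [← mul_assoc, hJJ, one_mul] at this
      rcases hk with rfl | rfl
      · exact e1.eq
      · have := (hψc h).mul_left e1
        rw [← mul_assoc, hJJ, one_mul] at this
        exact this.eq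
    have hkN : k ∈ Subgroup.normalizer
        (Classical.Dickson2.tor h : Set (Matrix.ProjectiveSpecialLinearGroup (Fin 2) K)) := by
      have e := Classical.Dickson2.tor_conj k h
      rw [hkh, mul_inv_cancel_right] at e
      refine Subgroup.mem_normalizer_iff.2 fun z => ?_
      constructor
      · intro hz
        rw [e]
        exact ⟨z, hz, rfl⟩
      · intro hz
        rw [e] at hz
        obtain ⟨w, hw, e'⟩ := hz
        rwa [show z = w from ((MulAut.conj k).injective e').symm]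
    by_cases hkt : k ∈ Classical.Dickson2.tor h
    · left
      rw [← hT'.cent y hyT hy2, Subgroup.mem_centralizer_singleton_iff]
      have e : Commute (ψ k) y :=
        (show Commute k t.1 from Classical.Dickson2.tor_comm hx1 hkt t.2).map ψ
      rcases hk with rfl | rfl
      · exact e.eq
      · exact ((hψc _).mul_left e).eq
    · right
      have e := (Classical.Dickson2.inverts_of_not_mem 3 hh3 hkN hkt).1
      rcases hk with rfl | rfl
      · rw [pow_two, ← map_mul, e, map_one]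
      · rw [(hψc k).mul_pow, pow_two, pow_two, hJJ, one_mul, ← map_mul, e, map_one]
  have hJT : (invJ : G1 K m) ∈ T' := by
    rw [← hT'.cent y hyT hy2]
    exact Subgroup.mem_centralizer_singleton_iff.2 (hψc _).eq
  -- all of `V` lies in the torus
  have hVT : ∀ z ∈ V, z ∈ T' := by
    intro z hz
    rw [← hT'.cent y hyT hy2, Subgroup.mem_centralizer_singleton_iff]
    have hzc := hC z (hVc z hz _ hJ) (hVc z hz _ hv)
    let f : Bool × Bool → V := fun b => (if b.1 then ⟨invJ, hJ⟩ else 1) * (if b.2 then ⟨v, hv⟩ else 1)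
    have hf : Function.Injective f := by
      have hvv : v * v = 1 := by rw [← pow_two]; exact hV2 v hv
      have hne : invJ * v ≠ 1 := fun e => hvJ (by
        rw [← inv_eq_of_mul_eq_one_right e, inv_eq_of_mul_eq_one_right hJJ])
      rintro ⟨b1, b2⟩ ⟨c1, c2⟩ e
      have e' := congrArg Subtype.val e
      cases b1 <;> cases b2 <;> cases c1 <;> cases c2 <;>
        simp [f, invJ_ne_one hK, hv1, hvJ, Ne.symm hvJ, (invJ_ne_one hK).symm, Ne.symm hv1, hne,
          Ne.symm hne] at e' ⊢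
    obtain ⟨⟨b1, b2⟩, hb⟩ := (hf.bijective_of_nat_card_le
      (le_of_eq (by rw [hV]; simp [Nat.card_eq_fintype_card]))).2 ⟨z, hz⟩
    rw [← Subgroup.mem_centralizer_singleton_iff, hT'.cent y hyT hy2,
      show z = (f (b1, b2) : G1 K m) from (congrArg Subtype.val hb).symm]
    cases b1 <;> cases b2 <;> simp [f, hJT, hvT, one_mem, mul_mem hJT hvT]
  set a' := g⁻¹ * a * g with ha'
  have haT : a' ∈ T' := mem_map_conj.2 (by rw [ha', show g⁻¹⁻¹ * (g⁻¹ * a * g) * g⁻¹ = a by group]; exact hT.gen)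
  have ha2 : a' ^ 2 ≠ 1 := fun e => hT.exists_sq_ne_one (by
    calc a ^ 2 = g * a' ^ 2 * g⁻¹ := by rw [ha', pow_two, pow_two]; group
      _ = 1 := by rw [e]; group)
  refine ⟨(Subgroup.zpowers a).map (MulAut.conj g⁻¹).toMonoidHom, isCyclic_map_conj inferInstance _,
    by rw [card_map_conj, hT.card_zpowers], le_trans ?_ (normalizer_map_le hT.normalizer_le g⁻¹)⟩
  intro n hn
  refine hT'.ti n a' haT ha2 ?_
  have hc : ∀ z ∈ V, n * a' * n⁻¹ * z = z * (n * a' * n⁻¹) := by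
    intro z hz
    have hz' : n⁻¹ * z * n ∈ V := by
      have := (Subgroup.mem_normalizer_iff.1 (inv_mem hn) z).1 hz
      simpa using this
    have e := hT'.comm a' haT _ (hVT _ hz')
    calc n * a' * n⁻¹ * z = n * (a' * (n⁻¹ * z * n)) * n⁻¹ := by group
      _ = n * ((n⁻¹ * z * n) * a') * n⁻¹ := by rw [e]
      _ = z * (n * a' * n⁻¹) := by group
  rcases hC _ (hc _ hJ) (hc _ hv) with h' | h'
  · exact h'
  · rw [conj_pow, conj_eq_one_iff] at h'
    exact absurd h' ha2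

/-- Every solvable subgroup normalises a Sylow two or three subgroup or a cyclic Hall subgroup. -/
theorem solvable_normalizes (hm : 1 ≤ m) (S : Subgroup (G1 K m)) (hS : Group.IsSolvable S) :
    ∃ A : Subgroup (G1 K m), S ≤ Subgroup.normalizer (A : Set (G1 K m)) ∧
      ((∃ P : Sylow 2 (G1 K m), A = P) ∨
       (∃ P : Sylow 3 (G1 K m), A = P) ∨
       (IsCyclic A ∧ (Nat.card A = (3 ^ (2 * m + 1) - 1) / 2 ∨ Nat.card A = (3 ^ (2 * m + 1) + 1) / 4 ∨
          Nat.card A = 3 ^ (2 * m + 1) - 3 ^ (m + 1) + 1 ∨ Nat.card A = 3 ^ (2 * m + 1) + 3 ^ (m + 1) + 1))) := by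
  classical
  haveI : Fact (Nat.Prime 2) := ⟨Nat.prime_two⟩
  haveI : Fact (Nat.Prime 3) := ⟨Nat.prime_three⟩
  rcases solvable_cases (fun x h => no_four hK h) S hS with h2 | ⟨r, M, hr, hSM, hM, hMc, hMe, hne2⟩
  · obtain ⟨P, hP⟩ := h2.exists_le_sylow
    exact ⟨P, hP.trans Subgroup.le_normalizer, Or.inl ⟨P, rfl⟩⟩
  have hG := card_G1_prod hK (m := m) (K := K)
  obtain ⟨x, hx, hx1⟩ := M.bot_or_exists_ne_one.resolve_left hM
  haveI : Fact r.Prime := ⟨hr⟩
  have hxo : orderOf x = r := orderOf_eq_prime (hMe x hx) hx1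
  set q := 3 ^ (2 * m + 1) with hq
  have h8 : q % 8 = 3 := pow_odd_mod m
  have h27 : 27 ≤ q := le_pow_odd hm
  have h3q : 3 ∣ q := dvd_pow_self 3 (by omega)
  set Φ := q ^ 2 - q + 1 with hΦ
  have hΦo : Odd Φ := by
    rw [hΦ, pow_two, ← Nat.mul_sub_one]
    exact (Nat.even_mul_pred_self _).add_one
  by_cases h3 : r = 3
  · subst h3
    obtain ⟨g, hg⟩ := exists_conj_U1 hK (x := x) (n := 1) (by rw [pow_one]; exact hMe x hx)
    have hgx : g * x * g⁻¹ ≠ 1 := fun e => hx1 (conj_eq_one_iff.1 e)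
    have hcardU : Nat.card ((U1 K m).map (MulAut.conj g⁻¹).toMonoidHom) =
        3 ^ (Nat.card (G1 K m)).factorization 3 := by
      have hn : ¬ 3 ∣ (q - 1) * ((q + 1) * Φ) := by
        intro h
        rcases Nat.prime_three.dvd_mul.1 h with h | h
        · omega
        · rcases Nat.prime_three.dvd_mul.1 h with h | h
          · omega
          · exact (prime_facts (q := q) (by omega) Nat.prime_three).2.2.2.2.2 ⟨h3q, h⟩
      rw [card_map_conj, card_U1_eq hK, hG, mul_assoc, Nat.factorization_mul (pow_ne_zero 3 (by omega))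
        (fun e => hn (by rw [e]; exact dvd_zero 3)), Finsupp.add_apply,
        Nat.factorization_eq_zero_of_not_dvd hn, add_zero, Nat.factorization_pow, Finsupp.smul_apply,
        smul_eq_mul, hq, Nat.prime_three.factorization_pow, Finsupp.single_eq_same, ← pow_mul,
        mul_comm]
    refine ⟨_, ?_, Or.inr (Or.inl ⟨Sylow.ofCard _ hcardU, rfl⟩)⟩
    intro s hs
    show s ∈ Subgroup.normalizer (((U1 K m).map (MulAut.conj g⁻¹).toMonoidHom : Subgroup (G1 K m)) : Set (G1 K m))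
    have hyU : g * (s * x * s⁻¹) * g⁻¹ ∈ U1 K m := by
      have hy : s * x * s⁻¹ ∈ M := (Subgroup.mem_normalizer_iff.1 (hSM hs) x).1 hx
      refine mem_U1_of_pow hK (centralizer_le_B1 hK hg hgx ?_) (j := 1) ?_
      · calc g * (s * x * s⁻¹) * g⁻¹ * (g * x * g⁻¹) = g * (s * x * s⁻¹ * x) * g⁻¹ := by group
          _ = g * (x * (s * x * s⁻¹)) * g⁻¹ := by rw [hMc _ hy x hx]
          _ = _ := by group
      · rw [pow_one, conj_pow, hMe _ hy, mul_one, mul_inv_cancel]
    have hB : g * s * g⁻¹ ∈ B1 K m := by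
      refine order_three_ti hK (d := g * x * g⁻¹)
        (centralizer_le_B1 hK hg hgx rfl) (by rw [orderOf_conj_eq, hxo]) ?_
      rw [show g * s * g⁻¹ * (g * x * g⁻¹) * (g * s * g⁻¹)⁻¹ = g * (s * x * s⁻¹) * g⁻¹ by group]
      exact centralizer_le_B1 hK hyU (fun e => hgx (by
        rw [conj_eq_one_iff.1 (conj_eq_one_iff.1 e)]; group)) rfl
    refine Subgroup.mem_normalizer_iff.2 fun z => ?_
    rw [mem_map_conj, mem_map_conj, inv_inv]
    constructor
    · intro hz
      rw [show g * (s * z * s⁻¹) * g⁻¹ = g * s * g⁻¹ * (g * z * g⁻¹) * (g * s * g⁻¹)⁻¹ by group]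
      exact B1_conj_U1 hK hB hz
    · intro hz
      rw [show g * z * g⁻¹ = (g * s * g⁻¹)⁻¹ * (g * (s * z * s⁻¹) * g⁻¹) * (g * s * g⁻¹)⁻¹⁻¹ by group]
      exact B1_conj_U1 hK (inv_mem hB) hz
  by_cases hr2 : r = 2
  · subst hr2
    have hMp : IsPGroup 2 M := fun z => ⟨1, Subtype.ext (by simpa using hMe z z.2)⟩
    obtain ⟨k, hk⟩ := IsPGroup.iff_card.1 hMp
    have hf2 : (Nat.card (G1 K m)).factorization 2 = 3 := by
      have hqo : Odd q := Nat.odd_iff.2 (by omega)
      have e : Nat.card (G1 K m) = 8 * (q ^ 3 * ((q - 1) / 2) * ((q + 1) / 4) * Φ) := by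
        have e1 : q - 1 = 2 * ((q - 1) / 2) := by omega
        have e2 : q + 1 = 4 * ((q + 1) / 4) := by omega
        rw [hG]
        conv_lhs => rw [e1, e2]
        ring
      have ho : Odd (q ^ 3 * ((q - 1) / 2) * ((q + 1) / 4) * Φ) :=
        ((hqo.pow.mul (Nat.odd_iff.2 (by omega))).mul (Nat.odd_iff.2 (by omega))).mul hΦo
      rw [e, Nat.factorization_mul (by norm_num) (fun e' => by rw [e'] at ho; exact absurd ho (by decide)),
        Finsupp.add_apply, Nat.factorization_eq_zero_of_not_dvd ho.not_two_dvd_nat, add_zero,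
        show (8 : ℕ) = 2 ^ 3 from rfl, Nat.prime_two.factorization_pow, Finsupp.single_eq_same]
    have hk3 : k ≤ 3 := hf2 ▸ (Nat.prime_two.pow_dvd_iff_le_factorization Nat.card_pos.ne').1
      (hk ▸ Subgroup.card_subgroup_dvd_card M)
    have hk1 : k ≠ 1 := fun e => hne2 rfl (by rw [hk, e, pow_one])
    have hk0 : k ≠ 0 := fun e => hM (Subgroup.eq_bot_of_card_eq _ (by rw [hk, e, pow_zero]))
    by_cases hk3' : k = 3
    · exact ⟨M, hSM, Or.inl ⟨Sylow.ofCard M (by rw [hf2, hk, hk3']), rfl⟩⟩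
    obtain ⟨g, hg⟩ := involutions_conj hK hm (by rw [← pow_two]; exact hMe x hx) hx1
    obtain ⟨A, hA, hAc, hAN⟩ := klein_normalizer hK hm (V := M.map (MulAut.conj g⁻¹).toMonoidHom)
      (mem_map_conj.2 (by rw [inv_inv, hg]; exact hx))
      (by rw [card_map_conj, hk, show k = 2 by omega]; rfl)
      (by rintro _ ⟨u, hu, rfl⟩ _ ⟨v, hv, rfl⟩; rw [← map_mul, hMc u hu v hv, map_mul])
      (by rintro _ ⟨u, hu, rfl⟩; rw [← map_pow, hMe u hu, map_one])
    refine ⟨A.map (MulAut.conj g).toMonoidHom, hSM.trans (le_trans (le_of_eq ?_) (normalizer_map_le hAN g)),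
      Or.inr (Or.inr ⟨isCyclic_map_conj hA g, Or.inr (Or.inl (by rw [card_map_conj, hAc]))⟩)⟩
    congr 2
    ext z
    rw [mem_map_conj, mem_map_conj, inv_inv, show g * (g⁻¹ * z * g) * g⁻¹ = z by group]
  obtain ⟨T, a, hT, -, hTconj⟩ := exists_qtorus hK hm (m := m) (K := K)
  obtain ⟨A, B, hA, hB, hAc, hBc, -, -⟩ := exists_two_singers hK hm (m := m) (K := K)
  rcases exists_conj_torus hK hTconj hA hB hAc hBc hr hr2 h3 (dvd_of_eq hxo.symm) with
    ⟨g, c, hc, e⟩ | ⟨g, hg, hg2⟩ | ⟨g, hg, hg1⟩ | ⟨g, hg, hg1⟩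
  · obtain ⟨γ, hγ⟩ := exists_generator_units hK
    have hcard : Nat.card (Subgroup.zpowers (tt hK (γ ^ 2) : G1 K m)) = (q - 1) / 2 := by
      rw [Nat.card_zpowers, orderOf_injective _ (tt_injective hK),
        orderOf_pow_of_dvd two_ne_zero (by rw [hγ]; omega), hγ]
    obtain ⟨A', h1, h2, h3'⟩ := (isTorus_H1 hK).exists_normalized
      (A := Subgroup.zpowers (tt hK (γ ^ 2) : G1 K m)) inferInstance
      (normalizer_le_of_cyclic (isCyclic_H1 hK) (Subgroup.zpowers_le.2 ((mem_H1 hK).2 ⟨_, rfl⟩)))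
      hSM hMc hx ((mem_H1 hK).2 ⟨c, e⟩) (by
        rw [e, ← map_pow]
        exact fun e' => hc (tt_injective hK (e'.trans (map_one _).symm)))
    exact ⟨A', h3', Or.inr (Or.inr ⟨h1, Or.inl (h2.trans hcard)⟩)⟩
  · obtain ⟨A', h1, h2, h3'⟩ := hT.torus.exists_normalized (A := Subgroup.zpowers a) inferInstance
      hT.normalizer_le hSM hMc hx hg hg2
    exact ⟨A', h3', Or.inr (Or.inr ⟨h1, Or.inr (Or.inl (h2.trans hT.card_zpowers))⟩)⟩
  · obtain ⟨A', h1, h2, h3'⟩ := hA.isTorus.exists_normalized hA.cyclic le_rfl hSM hMc hx hg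
      (sq_ne_one_of_odd (odd_orderOf_of_mem (hΦo.of_dvd_nat hA.dvd) hg) hg1)
    exact ⟨A', h3', Or.inr (Or.inr ⟨h1, Or.inr (Or.inr (Or.inl (h2.trans hAc)))⟩)⟩
  · obtain ⟨A', h1, h2, h3'⟩ := hB.isTorus.exists_normalized hB.cyclic le_rfl hSM hMc hx hg
      (sq_ne_one_of_odd (odd_orderOf_of_mem (hΦo.of_dvd_nat hB.dvd) hg) hg1)
    exact ⟨A', h3', Or.inr (Or.inr ⟨h1, Or.inr (Or.inr (Or.inr (h2.trans hBc)))⟩)⟩

end Ree

end Cfsg.Agent.Chev
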