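import Cfsg.Agent.Chev.Ree.Conj
import Cfsg.Agent.Chev.Ree.Singular

/-!
The split torus of `²G₂(q)`: centraliser, normaliser, and the elements conjugate into it.
-/

set_option autoImplicit false
set_option maxRecDepth 100000
set_option maxHeartbeats 1000000

namespace Cfsg.Agent.Chev

open Cfsg.Lie
open scoped MatrixGroups

universe u

namespace Ree

variable {K : Type u} [Field K] [Fintype K] [CharP K 3] {m : ℕ}
  (hK : Fintype.card K = 3 ^ (2 * m + 1))
include hK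

/-- The split torus. -/
noncomputable def H1 : Subgroup (G1 K m) := (tt hK).range

theorem mem_H1 {g : G1 K m} : g ∈ H1 hK ↔ ∃ c, g = tt hK c :=
  ⟨fun ⟨c, e⟩ => ⟨c, e.symm⟩, fun ⟨c, e⟩ => ⟨c, e.symm⟩⟩

theorem card_H1_eq : Nat.card (H1 hK : Subgroup (G1 K m)) = 3 ^ (2 * m + 1) - 1 := by
  rw [H1, ← Nat.card_congr (MonoidHom.ofInjective (tt_injective hK)).toEquiv, Nat.card_units,
    Nat.card_eq_fintype_card, hK]

theorem isCyclic_H1 : IsCyclic (H1 hK : Subgroup (G1 K m)) :=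
  isCyclic_of_surjective (tt hK).rangeRestrict (tt hK).rangeRestrict_surjective

/-- The normaliser of the split torus. -/
noncomputable def N1 : Subgroup (G1 K m) where
  carrier := {g | ∃ c, g = tt hK c ∨ g = nn * tt hK c}
  one_mem' := ⟨1, Or.inl (map_one _).symm⟩
  mul_mem' := by
    rintro _ _ ⟨a, rfl | rfl⟩ ⟨b, rfl | rfl⟩
    · exact ⟨a * b, Or.inl (map_mul _ a b).symm⟩
    · exact ⟨a⁻¹ * b, Or.inr (by rw [map_mul, ← mul_assoc, ← mul_assoc, nn_tt hK, inv_inv])⟩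
    · exact ⟨a * b, Or.inr (by rw [map_mul, mul_assoc])⟩
    · refine ⟨a⁻¹ * b, Or.inl ?_⟩
      rw [← mul_assoc, nn_conj_tt' hK, map_mul]
  inv_mem' := by
    rintro _ ⟨a, rfl | rfl⟩
    · exact ⟨a⁻¹, Or.inl (map_inv _ a).symm⟩
    · refine ⟨a, Or.inr ?_⟩
      rw [mul_inv_rev, nn_inv hK, ← map_inv, nn_tt hK]

theorem mem_N1 {g : G1 K m} : g ∈ N1 hK ↔ ∃ c, g = tt hK c ∨ g = nn * tt hK c := Iff.rfl

theorem card_N1 : Nat.card (N1 hK : Subgroup (G1 K m)) = 2 * (3 ^ (2 * m + 1) - 1) := by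
  let f : Bool × Kˣ → (N1 hK : Subgroup (G1 K m)) := fun p =>
    ⟨cond p.1 (nn * tt hK p.2) (tt hK p.2), p.2, by cases p.1 <;> simp⟩
  have hf : Function.Bijective f := by
    refine ⟨fun p q e => ?_, fun g => ?_⟩
    · obtain ⟨a, c⟩ := p
      obtain ⟨b, d⟩ := q
      have e' := congrArg Subtype.val e
      cases a <;> cases b <;> simp only [f, cond_true, cond_false] at e'
      · rw [tt_injective hK e']
      · exact absurd (by rw [← mul_inv_eq_iff_eq_mul.2 e']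
                         exact mul_mem (tt_mem_B1 hK c) (inv_mem (tt_mem_B1 hK d))) (nn_not_mem_B1 hK)
      · exact absurd (by rw [eq_mul_inv_of_mul_eq e']
                         exact mul_mem (tt_mem_B1 hK d) (inv_mem (tt_mem_B1 hK c))) (nn_not_mem_B1 hK)
      · rw [tt_injective hK (mul_left_cancel e')]
    · obtain ⟨c, e | e⟩ := g.2
      · exact ⟨(false, c), Subtype.ext e.symm⟩
      · exact ⟨(true, c), Subtype.ext e.symm⟩
  rw [← Nat.card_congr (Equiv.ofBijective f hf), Nat.card_prod, Nat.card_units,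
    Nat.card_eq_fintype_card, Nat.card_eq_fintype_card, Fintype.card_bool, hK]

theorem tt_fixes {c : Kˣ} (hc : c ^ 2 ≠ 1) {x : G1 K m}
    (h : x⁻¹ * tt hK c * x ∈ B1 K m) : x ∈ B1 K m ∨ nn * x ∈ B1 K m := by
  rcases cases_point hK x with hx | ⟨p, b, hb, rfl⟩
  · exact Or.inl hx
  refine Or.inr ?_
  obtain ⟨q, hq⟩ := (mem_U1 hK).1 (B1_conj_U1 hK (tt_mem_B1 hK c) (rr_mem_U1 hK p))
  have h1 : (rr p * nn)⁻¹ * (rr q * nn) ∈ B1 K m := by
    have h2 : (rr p * nn)⁻¹ * tt hK c * (rr p * nn) ∈ B1 K m := by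
      have := mul_mem (mul_mem hb h) (inv_mem hb)
      rwa [show b * ((rr p * nn * b)⁻¹ * tt hK c * (rr p * nn * b)) * b⁻¹ =
        (rr p * nn)⁻¹ * tt hK c * (rr p * nn) by group] at this
    have h3 : tt hK c * (rr p * nn) = rr q * nn * tt hK c⁻¹ := by
      rw [mul_assoc (rr q), nn_tt hK, inv_inv, ← mul_assoc, ← mul_assoc, ← hq, inv_mul_cancel_right]
    rw [mul_assoc, h3, ← mul_assoc] at h2
    exact (Subgroup.mul_mem_cancel_right _ (tt_mem_B1 hK _)).1 h2
  obtain rfl := point_unique hK h1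
  obtain ⟨e1, e2, e3⟩ := free_of_sq_ne_one (isTheta hK) hc (t := p.1) (u := p.2.1) (v := p.2.2)
    (congrArg Subtype.val hq :)
  have : p = (0, 0, 0) := Prod.ext e1 (Prod.ext e2 e3)
  rw [this, rr_zero, one_mul, ← mul_assoc, nn_sq hK, one_mul]
  exact hb

theorem mem_N1_of_conj {c : Kˣ} (hc : c ^ 2 ≠ 1) {g : G1 K m} (h : g * tt hK c * g⁻¹ ∈ H1 hK) :
    g ∈ N1 hK := by
  obtain ⟨d, hd⟩ := (mem_H1 hK).1 h
  have hd2 : d ^ 2 ≠ 1 := fun e => hc (tt_injective hK (by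
    have h2 : g * tt hK (c ^ 2) * g⁻¹ = 1 := by rw [map_pow, ← conj_pow, hd, ← map_pow, e, map_one]
    rw [conj_eq_one_iff.1 h2, map_one]))
  have f1 : g⁻¹ * tt hK d * g = tt hK c := by rw [← hd]; group
  have f2 : (g * nn)⁻¹ * tt hK d * (g * nn) = tt hK c⁻¹ := by
    rw [mul_inv_rev, nn_inv hK, ← nn_conj_tt' hK, ← f1]
    group
  have h1 := tt_fixes hK hd2 (x := g) (by rw [f1]; exact tt_mem_B1 hK c)
  have h2 := tt_fixes hK hd2 (x := g * nn) (by rw [f2]; exact tt_mem_B1 hK _)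
  rcases h1 with h1 | h1
  · rcases h2 with h2 | h2
    · exfalso
      exact nn_not_mem_B1 hK ((Subgroup.mul_mem_cancel_left _ h1).1 h2)
    · obtain ⟨e, he⟩ := exists_tt_of_two hK h1 (by rw [nn_inv hK]; rwa [mul_assoc])
      exact ⟨e, Or.inl he⟩
  · rcases h2 with h2 | h2
    · obtain ⟨e, he⟩ := exists_tt_of_two hK h1
        (by rw [nn_inv hK, ← mul_assoc nn nn, nn_sq hK, one_mul]; exact h2)
      exact ⟨e, Or.inr (by rw [← he, ← mul_assoc, nn_sq hK, one_mul])⟩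
    · exfalso
      rw [← mul_assoc] at h2
      exact nn_not_mem_B1 hK ((Subgroup.mul_mem_cancel_left _ h1).1 h2)

theorem centralizer_tt {c : Kˣ} (hc : c ^ 2 ≠ 1) :
    Subgroup.centralizer {tt hK c} = (H1 hK : Subgroup (G1 K m)) := by
  refine le_antisymm (fun g hg => ?_) ?_
  · have hg' : g * tt hK c = tt hK c * g := (Subgroup.mem_centralizer_singleton_iff.1 hg)
    obtain ⟨d, rfl | rfl⟩ := mem_N1_of_conj hK hc (g := g)
      (by rw [hg', mul_inv_cancel_right]; exact ⟨c, rfl⟩)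
    · exact ⟨d, rfl⟩
    · exfalso
      refine hc ?_
      have e : tt hK c⁻¹ = tt hK c := by
        have h1 : nn * tt hK c * nn = tt hK c := by
          have h2 : nn * tt hK c * tt hK d = tt hK c * nn * tt hK d := by
            rw [mul_assoc (tt hK c) nn, ← hg', mul_assoc, mul_assoc, ← map_mul, ← map_mul, mul_comm c]
          rw [mul_right_cancel h2, mul_assoc, nn_sq hK, mul_one]
        rwa [nn_conj_tt' hK] at h1
      have := tt_injective hK e
      rw [pow_two]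
      nth_rewrite 1 [← this]
      exact inv_mul_cancel c
  · rintro _ ⟨d, rfl⟩
    rw [Subgroup.mem_centralizer_singleton_iff, ← map_mul, ← map_mul, mul_comm]

theorem H1_le_B1 : (H1 hK : Subgroup (G1 K m)) ≤ B1 K m := by
  rintro _ ⟨c, rfl⟩
  exact tt_mem_B1 hK c

theorem centralizer_of_le_H1 {A : Subgroup (G1 K m)} (hA : A ≤ H1 hK)
    (h : ∃ c : Kˣ, c ^ 2 ≠ 1 ∧ tt hK c ∈ A) :
    Subgroup.centralizer (A : Set (G1 K m)) = H1 hK := by
  obtain ⟨c, hc, hcA⟩ := h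
  refine le_antisymm ?_ fun g hg => ?_
  · rw [← centralizer_tt hK hc]
    exact Subgroup.centralizer_le (by simpa using hcA)
  · obtain ⟨d, rfl⟩ := (mem_H1 hK).1 hg
    intro x hx
    obtain ⟨e, rfl⟩ := (mem_H1 hK).1 (hA hx)
    rw [← map_mul, ← map_mul, mul_comm]

theorem normalizer_of_le_H1 {A : Subgroup (G1 K m)} (hA : A ≤ H1 hK)
    (h : ∃ c : Kˣ, c ^ 2 ≠ 1 ∧ tt hK c ∈ A) :
    Subgroup.normalizer (A : Set (G1 K m)) = N1 hK := by
  obtain ⟨c, hc, hcA⟩ := h
  refine le_antisymm (fun g hg => ?_) fun g hg => ?_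
  · exact mem_N1_of_conj hK hc (hA ((Subgroup.mem_normalizer_iff.1 hg _).1 hcA))
  · have key : ∀ g ∈ N1 hK, ∀ x ∈ A, g * x * g⁻¹ ∈ A := by
      rintro g ⟨d, rfl | rfl⟩ x hx <;> obtain ⟨e, rfl⟩ := (mem_H1 hK).1 (hA hx)
      · rwa [← map_inv, ← map_mul, ← map_mul, mul_comm d e, mul_inv_cancel_right]
      · have : nn * tt hK d * tt hK e * (nn * tt hK d)⁻¹ = tt hK e⁻¹ := by
          rw [mul_inv_rev, nn_inv hK, ← nn_conj_tt' hK]
          rw [mul_assoc nn (tt hK d), ← map_mul, mul_comm d e, map_mul]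
          simp only [mul_assoc, mul_inv_cancel_left]
        rw [this, map_inv]
        exact inv_mem hx
    refine Subgroup.mem_normalizer_iff.2 fun x => ⟨key g hg x, fun hx => ?_⟩
    have := key g⁻¹ (inv_mem hg) _ hx
    simpa [mul_assoc] using this

/-- An element whose order has an odd prime divisor in common with `q - 1` is conjugate into the
split torus. -/
theorem exists_conj_H1 {y : G1 K m} {r : ℕ} (hr : r.Prime) (h2 : r ≠ 2)
    (hq : r ∣ 3 ^ (2 * m + 1) - 1) (hy : r ∣ orderOf y) :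
    ∃ g, ∃ c : Kˣ, c ^ 2 ≠ 1 ∧ g * y * g⁻¹ = tt hK c := by
  haveI : Fact r.Prime := ⟨hr⟩
  obtain ⟨k, hk⟩ := exists_pow_orderOf hr hy
  have h3 : r ≠ 3 := by
    rintro rfl
    have : 3 ∣ 3 ^ (2 * m + 1) := dvd_pow_self 3 (by omega)
    have h8 := pow_odd_mod m
    omega
  have hfac : (Nat.card (H1 hK : Subgroup (G1 K m))).factorization r =
      (Nat.card (G1 K m)).factorization r := by
    have h8 := pow_odd_mod m
    have hpf := prime_facts (q := 3 ^ (2 * m + 1)) (by omega) hr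
    rw [card_H1_eq hK, card_G1 hK, cube_add_one,
      Nat.factorization_mul (Nat.mul_ne_zero (by positivity) (by omega)) (by positivity),
      Nat.factorization_mul (by positivity) (by omega), Finsupp.add_apply, Finsupp.add_apply]
    rw [Nat.factorization_eq_zero_of_not_dvd (n := (3 ^ (2 * m + 1)) ^ 3)
        (fun h => h3 ((Nat.prime_dvd_prime_iff_eq hr Nat.prime_three).1
          (hr.dvd_of_dvd_pow (hr.dvd_of_dvd_pow h)))),
      Nat.factorization_eq_zero_of_not_dvd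
        (n := (3 ^ (2 * m + 1) + 1) * ((3 ^ (2 * m + 1)) ^ 2 - 3 ^ (2 * m + 1) + 1))
        (fun h => (hr.dvd_mul.1 h).elim (fun h => h2 (hpf.1 hq h)) fun h => hpf.2.2.1 ⟨hq, h⟩),
      zero_add, add_zero]
  obtain ⟨g, hg⟩ := exists_conj_mem_of_factorization (r := r) (n := 1) (H1 hK) hfac (x := y ^ k)
    (by rw [pow_one]; exact orderOf_dvd_iff_pow_eq_one.1 (dvd_of_eq hk))
  obtain ⟨c, hc⟩ := (mem_H1 hK).1 hg
  have hoc : orderOf c = r := by
    rw [← orderOf_injective _ (tt_injective hK), ← hc, ← MulAut.conj_apply, MulEquiv.orderOf_eq, hk]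
  have hc2 : c ^ 2 ≠ 1 := fun e => h2
    ((Nat.prime_dvd_prime_iff_eq hr Nat.prime_two).1 (hoc ▸ orderOf_dvd_of_pow_eq_one e))
  have hC : g * y * g⁻¹ ∈ Subgroup.centralizer {tt hK c} := by
    rw [Subgroup.mem_centralizer_singleton_iff, ← hc, ← conj_pow]
    exact (Commute.self_pow _ k).eq
  rw [centralizer_tt hK hc2] at hC
  obtain ⟨d, hd⟩ := (mem_H1 hK).1 hC
  refine ⟨g, d, fun e => hc2 ?_, hd⟩
  have : tt hK c = tt hK (d ^ k) := by rw [map_pow, ← hd, conj_pow, hc]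
  rw [tt_injective hK this, ← pow_mul, mul_comm, pow_mul, e, one_pow]

end Ree

end Cfsg.Agent.Chev
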