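import Cfsg.Agent.Chev.Ree.Main

/-!
Orders, the (B,N)-pair, perfectness and simplicity of `²G₂(q)`.
-/

set_option autoImplicit false
set_option maxRecDepth 100000

namespace Cfsg.Agent.Chev

open Cfsg.Lie
open scoped MatrixGroups commutatorElement

universe u

namespace Ree

section

variable {K : Type u} [Field K] [CharP K 3] {m : ℕ}

theorem posU_le_uMinus : chevG2.posUnipotent K ≤
    uMinus facts_chevG2 (pWord facts_chevG2.{u} w0) := by
  rw [posUnipotent_eq facts_chevG2, Subgroup.closure_le]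
  rintro _ ⟨r, t, h1, h2, rfl⟩
  refine Subgroup.subset_closure ⟨⟨r, h2⟩, t, h1, ?_, rfl⟩
  show (pWord facts_chevG2.{0} w0 ⟨r, h2⟩ : ℕ) < half chevG2
  rw [pWord_w0, ← not_le, half_le_neg_iff facts_chevG2.{0} h2]
  exact not_lt.2 h1

theorem n0_conj_neg {x : GL chevG2.Idx K} (hx : x ∈ chevG2.posUnipotent K) :
    n0 * x * n0⁻¹ ∈ chevG2.negUnipotent K :=
  conj_uMinus facts_chevG2 n0_isMon (posU_le_uMinus hx)

theorem n0_conj_not_borel {x : GL chevG2.Idx K} (hx : x ∈ chevG2.posUnipotent K)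
    (h : n0 * x * n0⁻¹ ∈ chevG2.borelSubgroup K) : x = 1 := by
  have := (borel_inf_negUnipotent facts_chevG2).le ⟨h, n0_conj_neg hx⟩
  exact conj_eq_one_iff.1 (Subgroup.mem_bot.1 this)

theorem R_eq_one_iff {t u v : K} : R m t u v = 1 ↔ t = 0 ∧ u = 0 ∧ v = 0 := by
  refine ⟨fun h => R_injective m (h.trans (R_zero m).symm), ?_⟩
  rintro ⟨rfl, rfl, rfl⟩
  exact R_zero m

theorem tor_mem_borel (c : Kˣ) : tor m c ∈ chevG2.borelSubgroup K :=
  Subgroup.mem_sup_right (tor_mem_diagonal c)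

theorem R_mem_borel (t u v : K) : R m t u v ∈ chevG2.borelSubgroup K :=
  Subgroup.mem_sup_left (R_mem_U t u v)

theorem cell_not_borel (t u v : K) (c : Kˣ) (t' u' v' : K) :
    R m t u v * tor m c * n0 * R m t' u' v' ∉ chevG2.borelSubgroup K := by
  intro h
  have h1 := mul_mem (mul_mem (inv_mem (mul_mem (R_mem_borel (m := m) t u v) (tor_mem_borel (m := m) c))) h)
    (inv_mem (R_mem_borel (m := m) t' u' v'))
  rw [show ∀ a b : GL chevG2.Idx K, a⁻¹ * (a * n0 * b) * b⁻¹ = n0 from fun a b => by group] at h1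
  have hd := (borel_inf_monomial facts_chevG2).le ⟨h1, n0_mem_monomial⟩
  obtain ⟨c', hc'⟩ := (mem_diagonal_iff facts_chevG2).1 hd
  have h2 := isMon_unique facts_chevG2 (hc' ▸ isMon_torus facts_chevG2 c') n0_isMon
  have h3 : (6 : ℕ) = chevG2.neg 6 := by
    have := pWord_w0 ⟨6, by decide⟩
    rw [show pWord facts_chevG2.{0} w0 = 1 from h2.symm] at this
    exact this
  exact absurd h3 (by decide +kernel)

theorem torus_conj_W (c : Fin chevG2.rank → Kˣ) (a b x y z w : K) :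
    torusHom c * W a b x y z w * (torusHom c)⁻¹ =
      W ((chiU c 7 : K) * a) ((chiU c 6 : K) * b) ((chiU c 8 : K) * x) ((chiU c 9 : K) * y)
        ((chiU c 10 : K) * z) ((chiU c 11 : K) * w) := by
  have e : ∀ r < chevG2.nroots, ∀ s : K,
      torusHom c * X r s * (torusHom c)⁻¹ = X r ((chiU c r : K) * s) := fun r hr s => by
    rw [X, torusHom_conj facts_chevG2 c hr, mul_inv_cancel_right]
  rw [W, W, T, T, show ∀ p q r s t o : GL chevG2.Idx K,
    torusHom c * (p * q * (r * s * t * o)) * (torusHom c)⁻¹ =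
      (torusHom c * p * (torusHom c)⁻¹) * (torusHom c * q * (torusHom c)⁻¹) *
        ((torusHom c * r * (torusHom c)⁻¹) * (torusHom c * s * (torusHom c)⁻¹) *
          (torusHom c * t * (torusHom c)⁻¹) * (torusHom c * o * (torusHom c)⁻¹)) from
      fun p q r s t o => by group,
    e 7 (by decide), e 6 (by decide), e 8 (by decide), e 9 (by decide), e 10 (by decide),
    e 11 (by decide)]

theorem chi_tor (c : Kˣ) :
    (chiU (tp (Units.map (th K m).toMonoidHom c) c) 6 : K) = (c : K) ^ 2 / (th K m (c : K)) ^ 3 ∧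
    (chiU (tp (Units.map (th K m).toMonoidHom c) c) 10 : K) = (th K m (c : K)) ^ 3 / (c : K) ∧
    (chiU (tp (Units.map (th K m).toMonoidHom c) c) 11 : K) = (c : K) := by
  have t6 : chevG2.cartan 0 6 = -3 ∧ chevG2.cartan 1 6 = 2 ∧ chevG2.cartan 0 10 = 3 ∧
      chevG2.cartan 1 10 = -1 ∧ chevG2.cartan 0 11 = 0 ∧ chevG2.cartan 1 11 = 1 := by
    decide +kernel
  have h : ∀ s, (chiU (tp (Units.map (th K m).toMonoidHom c) c) s : K) =
      (th K m (c : K)) ^ chevG2.cartan 0 s * (c : K) ^ chevG2.cartan 1 s := fun s => by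
    rw [chiU]
    change ((∏ j : Fin 2, (tp (Units.map (th K m).toMonoidHom c) c j) ^ chevG2.cartan j s : Kˣ) : K)
      = _
    rw [Fin.prod_univ_two]
    simp [tp]
  refine ⟨?_, ?_, ?_⟩ <;> rw [h]
  · rw [t6.1, t6.2.1, zpow_neg, div_eq_mul_inv, mul_comm]; norm_cast
  · rw [t6.2.2.1, t6.2.2.2.1, zpow_neg_one, div_eq_mul_inv]; norm_cast
  · rw [t6.2.2.2.2.1, t6.2.2.2.2.2, zpow_zero, zpow_one, one_mul]

theorem tor_conj_R_eq (hm : IsTheta K m) (c : Kˣ) (t u v : K) :
    tor m c * R m t u v * (tor m c)⁻¹ = R m ((c : K) ^ 2 / (th K m (c : K)) ^ 3 * t)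
      ((th K m (c : K)) ^ 3 / (c : K) * u) ((c : K) * v) := by
  obtain ⟨t', u', v', e⟩ := tor_conj_R hm c t u v
  rw [e]
  have e2 := e
  rw [R, show tor m c = torusHom (tp (Units.map (th K m).toMonoidHom c) c) from rfl,
    torus_conj_W, R, (chi_tor c).1, (chi_tor c).2.1, (chi_tor c).2.2] at e2
  obtain ⟨-, h2, -, -, h5, h6⟩ := W_injective e2
  rw [← h2, ← h5, ← h6]

theorem tor_fix_t (hm : IsTheta K m) (c : Kˣ)
    (h : (c : K) ^ 2 / (th K m (c : K)) ^ 3 = 1) : c = 1 := by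
  have hc := c.ne_zero
  have hθ : th K m (c : K) ≠ 0 := fun e => hc ((map_eq_zero (th K m)).1 e)
  have h1 : (th K m (c : K)) ^ 3 = (c : K) ^ 2 := ((div_eq_one_iff_eq (pow_ne_zero _ hθ)).1 h).symm
  have h2 : (c : K) = (th K m (c : K)) ^ 2 := by
    rw [← map_pow, ← h1, hm]
  have h3 : (c : K) ^ 3 * 1 = (c : K) ^ 3 * c := by
    conv_lhs => rw [h2]
    rw [mul_one, ← pow_mul, show 2 * 3 = 3 * 2 by rfl, pow_mul, h1]
    ring
  exact Units.ext (mul_left_cancel₀ (pow_ne_zero _ hc) h3).symm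

theorem free_of_sq_ne_one (hm : IsTheta K m) {c : Kˣ} (hc : c ^ 2 ≠ 1) {t u v : K}
    (h : tor m c * R m t u v * (tor m c)⁻¹ = R m t u v) : t = 0 ∧ u = 0 ∧ v = 0 := by
  rw [tor_conj_R_eq hm] at h
  obtain ⟨h1, h2, h3⟩ := R_injective m h
  have hc1 : c ≠ 1 := fun e => hc (by rw [e, one_pow])
  refine ⟨?_, ?_, ?_⟩
  · by_contra ht
    exact hc1 (tor_fix_t hm c ((mul_eq_right₀ ht).1 h1))
  · by_contra hu
    refine hc ?_
    have e := (div_eq_one_iff_eq c.ne_zero).1 ((mul_eq_right₀ hu).1 h2)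
    have e2 : (th K m (c : K)) = c := (congrArg (th K m) e).symm.trans (hm c)
    rw [e2] at e
    have e3 : (c : K) * ((c : K) ^ 2) = (c : K) * 1 := by rw [← pow_succ', e, mul_one]
    exact Units.ext (by simpa using mul_left_cancel₀ c.ne_zero e3)
  · by_contra hv
    exact hc1 (Units.ext ((mul_eq_right₀ hv).1 h3))

theorem R_cube (hm : IsTheta K m) (t u v : K) :
    R m t u v ^ 3 = R m 0 0 (-((t ^ 3 ^ m) ^ 3 * t ^ 2)) := by
  rw [pow_succ, pow_two, R_mul hm, R_mul hm]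
  congr 1
  · linear_combination t * three_eq (K := K)
  · linear_combination (u - (t ^ 3 ^ m) ^ 3 * t) * three_eq (K := K)
  · linear_combination (v - t * u) * three_eq (K := K)

end

section Finite

variable {K : Type u} [Field K] [Fintype K] [CharP K 3] {m : ℕ}
  (hK : Fintype.card K = 3 ^ (2 * m + 1))
include hK

theorem inf_posU : ∀ g : GL chevG2.Idx K,
    g ∈ chevG2.posUnipotent K ⊓ twistedG2 K (3 ^ m) ↔ ∃ t u v, g = R m t u v := by
  intro g
  rw [← fx_eq hK]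
  refine ⟨fun h => exists_R (isTheta hK) h.1 h.2, ?_⟩
  rintro ⟨t, u, v, rfl⟩
  exact ⟨R_mem_U t u v, R_mem_fx (isTheta hK) t u v⟩

theorem inf_posU_word (g : GL chevG2.Idx K) :
    g ∈ chevG2.posUnipotent K ⊓ twistedG2 K (3 ^ m) ↔
      ∃ t u v : K, (g : Matrix chevG2.Idx chevG2.Idx K) =
        chevG2.wordMat K (reeWordU (3 ^ m) t u v) := by
  rw [inf_posU hK]
  refine exists_congr fun t => exists_congr fun u => exists_congr fun v => ?_
  rw [← wordG_R, ← wordG_val facts_chevG2, Units.ext_iff]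

theorem card_U1 : Nat.card ↥(chevG2.posUnipotent K ⊓ twistedG2 K (3 ^ m)) =
    (3 ^ (2 * m + 1)) ^ 3 := by
  let f : K × K × K → ↥(chevG2.posUnipotent K ⊓ twistedG2 K (3 ^ m)) :=
    fun p => ⟨R m p.1 p.2.1 p.2.2, (inf_posU hK _).2 ⟨_, _, _, rfl⟩⟩
  have hf : Function.Bijective f := by
    refine ⟨fun p q e => ?_, fun g => ?_⟩
    · obtain ⟨h1, h2, h3⟩ := R_injective m (congrArg Subtype.val e :)
      exact Prod.ext h1 (Prod.ext h2 h3)
    · obtain ⟨t, u, v, e⟩ := (inf_posU hK _).1 g.2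
      exact ⟨(t, u, v), Subtype.ext e.symm⟩
  rw [← Nat.card_congr (Equiv.ofBijective f hf), Nat.card_prod, Nat.card_prod,
    Nat.card_eq_fintype_card, hK]
  ring

theorem inf_borel : ∀ g : GL chevG2.Idx K,
    g ∈ chevG2.borelSubgroup K ⊓ twistedG2 K (3 ^ m) ↔
      ∃ t u v c, g = R m t u v * tor m c := by
  intro g
  rw [← fx_eq hK]
  constructor
  · rintro ⟨hb, hg⟩
    rcases exists_nf (isTheta hK) hg with h | ⟨t, u, v, c, t', u', v', rfl⟩
    · exact h
    · exact absurd hb (cell_not_borel t u v c t' u' v')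
  · rintro ⟨t, u, v, c, rfl⟩
    exact ⟨mul_mem (R_mem_borel t u v) (tor_mem_borel c),
      mul_mem (R_mem_fx (isTheta hK) t u v) (tor_mem_fx (isTheta hK) c)⟩

theorem inf_diagonal :
    chevG2.diagonalSubgroup K ⊓ twistedG2 K (3 ^ m) = (tor (K := K) m).range := by
  refine le_antisymm (fun g hg => ?_) ?_
  · obtain ⟨c, rfl⟩ := (mem_diagonal_iff facts_chevG2).1 hg.1
    obtain ⟨d, hd⟩ := exists_tor (show torusHom c ∈ fx m from (fx_eq hK).symm ▸ hg.2)
    exact ⟨d, hd.symm⟩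
  · rintro _ ⟨c, rfl⟩
    exact ⟨tor_mem_diagonal c, tor_mem_G1 hK c⟩

theorem card_H1 : Nat.card ↥(chevG2.diagonalSubgroup K ⊓ twistedG2 K (3 ^ m)) =
    3 ^ (2 * m + 1) - 1 := by
  rw [inf_diagonal hK, ← Nat.card_congr (MonoidHom.ofInjective (tor_injective (K := K))).toEquiv,
    Nat.card_units, Nat.card_eq_fintype_card, hK]

theorem cyclic_H1 : IsCyclic ↥(chevG2.diagonalSubgroup K ⊓ twistedG2 K (3 ^ m)) := by
  rw [inf_diagonal hK]
  exact isCyclic_of_surjective (tor (K := K) m).rangeRestrict (tor (K := K) m).rangeRestrict_surjective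

theorem inf_monomial : ∀ g : GL chevG2.Idx K,
    g ∈ chevG2.monomialSubgroup K ⊓ twistedG2 K (3 ^ m) ↔
      (∃ c, g = tor m c) ∨ ∃ c, g = tor m c * n0 := by
  intro g
  constructor
  · rintro ⟨hn, hG⟩
    have hg : g ∈ fx m := by rw [fx_eq hK]; exact hG
    rcases exists_nf (isTheta hK) hg with ⟨t, u, v, c, rfl⟩ | ⟨t, u, v, c, t', u', v', e⟩
    · have hd := (borel_inf_monomial facts_chevG2).le
        ⟨mul_mem (R_mem_borel t u v) (tor_mem_borel c), hn⟩
      have h1 := mul_mem hd (inv_mem (tor_mem_diagonal (m := m) c))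
      rw [mul_inv_cancel_right] at h1
      have h2 := Subgroup.mem_bot.1
        ((posUnipotent_inf_diagonal facts_chevG2).le ⟨R_mem_U t u v, h1⟩)
      exact Or.inl ⟨c, by rw [h2, one_mul]⟩
    · have hd := (normalForm_unique facts_chevG2 (one_mem _)
        (mul_mem (R_mem_borel (m := m) t u v) (tor_mem_borel (m := m) c)) hn n0_mem_monomial (one_mem _)
        (by rw [monPerm_eq facts_chevG2 n0_isMon]; exact posU_le_uMinus (R_mem_U (m := m) t' u' v'))
        (by rw [one_mul, mul_one]; exact e)).1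
      obtain ⟨a, ha⟩ := (mem_diagonal_iff facts_chevG2).1 (inv_mem hd)
      rw [mul_inv_rev, inv_inv] at ha
      have haf : (torusHom a : GL chevG2.Idx K) ∈ fx m := by
        rw [ha]
        exact mul_mem (inv_mem (n0_mem_fx (isTheta hK))) hg
      obtain ⟨d, hd'⟩ := exists_tor haf
      rw [hd'] at ha
      refine Or.inr ⟨d⁻¹, ?_⟩
      rw [← n0_conj_tor d, inv_mul_cancel_right, ha, mul_inv_cancel_left]
  · rintro (⟨c, rfl⟩ | ⟨c, rfl⟩)
    · exact ⟨Subgroup.mem_sup_left (tor_mem_diagonal c),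
        tor_mem_G1 hK c⟩
    · exact ⟨mul_mem (Subgroup.mem_sup_left (tor_mem_diagonal c)) n0_mem_monomial, mul_mem (tor_mem_G1 hK c) n0_mem_G1⟩

theorem card_G1 : Nat.card ↥(twistedG2 K (3 ^ m)) = (3 ^ (2 * m + 1)) ^ 3 *
    (3 ^ (2 * m + 1) - 1) * ((3 ^ (2 * m + 1)) ^ 3 + 1) := by
  let f : (K × K × K) × Kˣ × Option (K × K × K) → ↥(twistedG2 K (3 ^ m)) := fun p =>
    ⟨R m p.1.1 p.1.2.1 p.1.2.2 * tor m p.2.1 *
        p.2.2.elim 1 (fun q => n0 * R m q.1 q.2.1 q.2.2),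
      mul_mem (mul_mem (R_mem_G1 _ _ _) (tor_mem_G1 hK _)) (by
        rcases p.2.2 with _ | q
        · exact one_mem _
        · exact mul_mem n0_mem_G1 (R_mem_G1 _ _ _))⟩
  have hR : ∀ p q : K × K × K, R m p.1 p.2.1 p.2.2 = R m q.1 q.2.1 q.2.2 → p = q := fun p q e => by
    obtain ⟨h1, h2, h3⟩ := R_injective m e
    exact Prod.ext h1 (Prod.ext h2 h3)
  have hRT : ∀ (p q : K × K × K) (c d : Kˣ), R m p.1 p.2.1 p.2.2 * tor m c =
      R m q.1 q.2.1 q.2.2 * tor m d → p = q ∧ c = d := fun p q c d e => by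
    obtain ⟨h1, h2⟩ := posUnipotent_torus_unique facts_chevG2 (R_mem_U _ _ _) (R_mem_U _ _ _)
      (show _ * torusHom _ = _ * torusHom _ from e)
    exact ⟨hR _ _ h1, tor_injective (m := m) h2⟩
  have hf : Function.Bijective f := by
    constructor
    · rintro ⟨p, c, o⟩ ⟨p', c', o'⟩ e
      have e' : R m p.1 p.2.1 p.2.2 * tor m c * o.elim 1 (fun q => n0 * R m q.1 q.2.1 q.2.2) =
          R m p'.1 p'.2.1 p'.2.2 * tor m c' * o'.elim 1 (fun q => n0 * R m q.1 q.2.1 q.2.2) :=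
        congrArg Subtype.val e
      rcases o with _ | q <;> rcases o' with _ | q' <;>
        simp only [Option.elim, mul_one, ← mul_assoc] at e'
      · obtain ⟨rfl, rfl⟩ := hRT _ _ _ _ e'
        rfl
      · exact absurd (e' ▸ mul_mem (R_mem_borel _ _ _) (tor_mem_borel _)) (cell_not_borel _ _ _ _ _ _ _)
      · exact absurd (e'.symm ▸ mul_mem (R_mem_borel _ _ _) (tor_mem_borel _))
          (cell_not_borel _ _ _ _ _ _ _)
      · obtain ⟨h1, h2⟩ := (normalForm_unique facts_chevG2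
          (mul_mem (R_mem_borel _ _ _) (tor_mem_borel _))
          (mul_mem (R_mem_borel _ _ _) (tor_mem_borel _)) n0_mem_monomial n0_mem_monomial
          (by rw [monPerm_eq facts_chevG2 n0_isMon]; exact posU_le_uMinus (R_mem_U _ _ _))
          (by rw [monPerm_eq facts_chevG2 n0_isMon]; exact posU_le_uMinus (R_mem_U _ _ _)) e').2 rfl
        obtain ⟨rfl, rfl⟩ := hRT _ _ _ _ h1
        rw [hR _ _ h2]
    · rintro ⟨g, hg⟩
      rcases exists_nf (isTheta hK) (show g ∈ fx m by rw [fx_eq hK]; exact hg) with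
        ⟨t, u, v, c, rfl⟩ | ⟨t, u, v, c, t', u', v', rfl⟩
      · exact ⟨((t, u, v), c, none), Subtype.ext (mul_one _)⟩
      · exact ⟨((t, u, v), c, some (t', u', v')), Subtype.ext (mul_assoc _ _ _).symm⟩
  rw [← Nat.card_congr (Equiv.ofBijective f hf)]
  rw [Nat.card_prod, Nat.card_prod, Nat.card_prod, Nat.card_prod, Finite.card_option, Nat.card_prod,
    Nat.card_prod, Nat.card_units, Nat.card_eq_fintype_card, hK]
  ring

theorem exists_free (hm : 1 ≤ m) : ∃ c : Kˣ, c ^ 2 ≠ 1 := by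
  by_contra hc
  push Not at hc
  have h1 : Nat.card Kˣ ≤ 2 := by
    have h := IsCyclic.card_powMonoidHom_ker Kˣ 2
    rw [show (powMonoidHom 2 : Kˣ →* Kˣ).ker = ⊤ from eq_top_iff.2 fun x _ => hc x,
      Subgroup.card_top] at h
    rw [h]
    exact Nat.le_of_dvd two_pos (Nat.gcd_dvd_right _ _)
  rw [Nat.card_units, Nat.card_eq_fintype_card, hK] at h1
  have : 3 ^ 3 ≤ 3 ^ (2 * m + 1) := Nat.pow_le_pow_right (by norm_num) (by omega)
  omega

omit hK in
theorem om_om (g : GL chevG2.Idx K) : om (om g) = g := by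
  have h : ∀ a : chevG2.Idx, negI (negI a) = a := by decide +kernel
  apply Units.ext
  ext a b
  rw [om_val, om_val, h, h]

theorem commutator_eq (hm : 1 ≤ m) : commutator ↥(twistedG2 K (3 ^ m)) = ⊤ := by
  set G := twistedG2 K (3 ^ m) with hG
  obtain ⟨c, hc⟩ := exists_free hK hm
  have hR : ∀ t u v, R m t u v ∈ ⁅G, G⁆ := by
    have hex : ∀ p : K × K × K, ∃ q : K × K × K,
        ⁅tor m c, R m p.1 p.2.1 p.2.2⁆ = R m q.1 q.2.1 q.2.2 := by
      intro p
      obtain ⟨t', u', v', e⟩ := tor_conj_R (isTheta hK) c p.1 p.2.1 p.2.2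
      obtain ⟨t, u, v, e2⟩ := (inf_posU hK _).1
        (mul_mem ((inf_posU hK _).2 ⟨t', u', v', rfl⟩)
          (inv_mem ((inf_posU hK _).2 ⟨p.1, p.2.1, p.2.2, rfl⟩)))
      exact ⟨(t, u, v), by rw [commutatorElement_def, e]; exact e2⟩
    choose f hf using hex
    have hinj : Function.Injective f := fun p q e => by
      have h : ⁅tor m c, R m p.1 p.2.1 p.2.2⁆ = ⁅tor m c, R m q.1 q.2.1 q.2.2⁆ := by
        rw [hf, hf, e]
      simp only [commutatorElement_def] at h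
      obtain ⟨t, u, v, hx⟩ := (inf_posU hK _).1
        (mul_mem (inv_mem ((inf_posU hK _).2 ⟨q.1, q.2.1, q.2.2, rfl⟩))
          ((inf_posU hK _).2 ⟨p.1, p.2.1, p.2.2, rfl⟩))
      have hfix : tor m c * R m t u v * (tor m c)⁻¹ = R m t u v := by
        rw [← hx]
        have h' := congrArg (fun z => z * R m p.1 p.2.1 p.2.2) h
        simp only [inv_mul_cancel_right] at h'
        calc tor m c * ((R m q.1 q.2.1 q.2.2)⁻¹ * R m p.1 p.2.1 p.2.2) * (tor m c)⁻¹
            = (tor m c * R m q.1 q.2.1 q.2.2 * (tor m c)⁻¹)⁻¹ *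
                (tor m c * R m p.1 p.2.1 p.2.2 * (tor m c)⁻¹) := by group
          _ = _ := by rw [h']; group
      obtain ⟨rfl, rfl, rfl⟩ := free_of_sq_ne_one (isTheta hK) hc hfix
      rw [R_zero, inv_mul_eq_one] at hx
      obtain ⟨h1, h2, h3⟩ := R_injective m hx.symm
      exact Prod.ext h1 (Prod.ext h2 h3)
    intro t u v
    obtain ⟨p, hp⟩ := (Finite.injective_iff_surjective.1 hinj) (t, u, v)
    have := hf p
    rw [hp] at this
    rw [← this]
    exact Subgroup.commutator_mem_commutator (tor_mem_G1 hK c) (R_mem_G1 _ _ _)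
  have hom : G.map om ≤ G := by
    rintro _ ⟨g, hg, rfl⟩
    rw [hG, ← fx_eq hK] at hg ⊢
    exact om_mem_fx hg
  have hle : G ≤ ⁅G, G⁆ := by
    refine (Subgroup.closure_le _).2 ?_
    rintro g ⟨w, ⟨t, u, v, rfl | rfl⟩, e⟩
    · obtain rfl : g = R m t u v := Units.ext (by rw [e, ← wordG_R, wordG_val])
      exact hR t u v
    · obtain rfl : g = om (R m t u v) := Units.ext (by rw [e, ← wordG_reeV, wordG_val])
      have h := Subgroup.mem_map_of_mem om (hR t u v)
      rw [Subgroup.map_commutator] at h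
      exact Subgroup.commutator_mono hom hom h
  apply Subgroup.map_injective G.subtype_injective
  rw [Subgroup.map_subtype_commutator, ← MonoidHom.range_eq_map, Subgroup.range_subtype]
  exact le_antisymm (Subgroup.commutator_le_self _) hle

/-- The Weyl element in the group. -/
noncomputable def s1 : ↥(twistedG2 K (3 ^ m)) := ⟨n0, n0_mem_G1⟩

omit hK in
theorem s1_val : ((s1 (K := K) (m := m)) : GL chevG2.Idx K) = n0 := rfl

theorem n0_sq_mem : (n0 : GL chevG2.Idx K) * n0 ∈ chevG2.borelSubgroup K ⊓ twistedG2 K (3 ^ m) := by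
  refine ⟨Subgroup.mem_sup_right (mem_diagonal_of_isMon_one facts_chevG2
    (mul_mem n0_mem_monomial n0_mem_monomial) ?_), mul_mem n0_mem_G1 n0_mem_G1⟩
  have h := isMon_mul facts_chevG2 (n0_isMon (K := K)) n0_isMon
  have : pWord facts_chevG2.{u} w0 * pWord facts_chevG2.{u} w0 = 1 := Equiv.ext fun r => Fin.ext (by
    show (pWord facts_chevG2.{0} w0 (pWord facts_chevG2.{0} w0 r) : ℕ) = r
    rw [pWord_w0, pWord_w0, neg_neg_root facts_chevG2.{0} r.2])
  rwa [this] at h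

/-- The (B,N)-pair of `²G₂`. -/
noncomputable def reePair : Cfsg.BNPair ↥(twistedG2 K (3 ^ m)) where
  B := (chevG2.borelSubgroup K ⊓ twistedG2 K (3 ^ m)).subgroupOf (twistedG2 K (3 ^ m))
  N := (chevG2.monomialSubgroup K ⊓ twistedG2 K (3 ^ m)).subgroupOf (twistedG2 K (3 ^ m))
  S := {s1}
  sup_eq_top := by
    rw [eq_top_iff]
    rintro ⟨g, hg⟩ -
    rcases exists_nf (isTheta hK) (show g ∈ fx m by rw [fx_eq hK]; exact hg) with
      ⟨t, u, v, c, rfl⟩ | ⟨t, u, v, c, t', u', v', rfl⟩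
    · exact Subgroup.mem_sup_left (Subgroup.mem_subgroupOf.2 ((inf_borel hK _).2 ⟨t, u, v, c, rfl⟩))
    · have e : (⟨R m t u v * tor m c * n0 * R m t' u' v', hg⟩ : ↥(twistedG2 K (3 ^ m))) =
          ⟨R m t u v * tor m c, mul_mem (R_mem_G1 _ _ _) (tor_mem_G1 hK c)⟩ * s1 *
            ⟨R m t' u' v', R_mem_G1 _ _ _⟩ := rfl
      rw [e]
      refine mul_mem (mul_mem (Subgroup.mem_sup_left (Subgroup.mem_subgroupOf.2
        ((inf_borel hK _).2 ⟨t, u, v, c, rfl⟩))) (Subgroup.mem_sup_right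
        (Subgroup.mem_subgroupOf.2 ⟨n0_mem_monomial, n0_mem_G1⟩))) (Subgroup.mem_sup_left
        (Subgroup.mem_subgroupOf.2 ⟨R_mem_borel t' u' v', R_mem_G1 _ _ _⟩))
  conj_mem := by
    intro n hn t ht
    have hd : (t : GL chevG2.Idx K) ∈ chevG2.diagonalSubgroup K :=
      (borel_inf_monomial facts_chevG2).le
        ⟨(Subgroup.mem_subgroupOf.1 ht.1).1, (Subgroup.mem_subgroupOf.1 ht.2).1⟩
    obtain ⟨c, hc⟩ := (inf_diagonal hK).le (Subgroup.mem_inf.2 ⟨hd, t.2⟩)
    refine Subgroup.mem_subgroupOf.2 ⟨?_, (n * t * n⁻¹).2⟩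
    simp only [Subgroup.coe_mul, Subgroup.coe_inv]
    rw [← hc]
    rcases (inf_monomial hK _).1 (Subgroup.mem_subgroupOf.1 hn) with ⟨a, ha⟩ | ⟨a, ha⟩ <;>
      rw [ha]
    · exact Subgroup.mul_mem _ (Subgroup.mul_mem _ (tor_mem_borel a) (tor_mem_borel c))
        (Subgroup.inv_mem _ (tor_mem_borel a))
    · rw [mul_inv_rev, show ∀ p q r : GL chevG2.Idx K,
        p * n0 * q * (n0⁻¹ * r) = p * (n0 * q * n0⁻¹) * r from fun p q r => by group, n0_conj_tor]
      exact Subgroup.mul_mem _ (Subgroup.mul_mem _ (tor_mem_borel a) (tor_mem_borel c⁻¹))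
        (Subgroup.inv_mem _ (tor_mem_borel a))
  subset := by
    rintro g rfl
    exact Subgroup.mem_subgroupOf.2 ⟨n0_mem_monomial, n0_mem_G1⟩
  sq_mem := by
    rintro g rfl
    exact Subgroup.mem_subgroupOf.2 (n0_sq_mem hK)
  inj := by
    rintro g rfl g' rfl -
    rfl
  closure_sup := by
    refine le_antisymm (sup_le ((Subgroup.closure_le _).2 ?_) inf_le_right) ?_
    · rintro g rfl
      exact Subgroup.mem_subgroupOf.2 ⟨n0_mem_monomial, n0_mem_G1⟩
    · rintro g hg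
      have hT : ∀ c, (⟨tor m c, tor_mem_G1 hK c⟩ : ↥(twistedG2 K (3 ^ m))) ∈
          (chevG2.borelSubgroup K ⊓ twistedG2 K (3 ^ m)).subgroupOf (twistedG2 K (3 ^ m)) ⊓
          (chevG2.monomialSubgroup K ⊓ twistedG2 K (3 ^ m)).subgroupOf (twistedG2 K (3 ^ m)) :=
        fun c => ⟨Subgroup.mem_subgroupOf.2 ⟨tor_mem_borel c, tor_mem_G1 hK c⟩,
          Subgroup.mem_subgroupOf.2 ((inf_monomial hK _).2 (Or.inl ⟨c, rfl⟩))⟩
      rcases (inf_monomial hK _).1 (Subgroup.mem_subgroupOf.1 hg) with ⟨c, hc⟩ | ⟨c, hc⟩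
      · rw [show g = ⟨tor m c, tor_mem_G1 hK c⟩ from Subtype.ext hc]
        exact Subgroup.mem_sup_right (hT c)
      · rw [show g = ⟨tor m c, tor_mem_G1 hK c⟩ * s1 from Subtype.ext hc]
        exact mul_mem (Subgroup.mem_sup_right (hT c))
          (Subgroup.mem_sup_left (Subgroup.subset_closure rfl))
  mul_mem_union := by
    rintro s rfl n hn b hb
    have hB : ∀ x : ↥(twistedG2 K (3 ^ m)), x ∈ (chevG2.borelSubgroup K ⊓
        twistedG2 K (3 ^ m)).subgroupOf (twistedG2 K (3 ^ m)) ↔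
        (x : GL chevG2.Idx K) ∈ chevG2.borelSubgroup K := fun x => by
      rw [Subgroup.mem_subgroupOf, Subgroup.mem_inf]
      exact and_iff_left x.2
    rw [hB] at hb
    rcases (inf_monomial hK _).1 (Subgroup.mem_subgroupOf.1 hn) with ⟨c, hc⟩ | ⟨c, hc⟩
    · refine Or.inl (DoubleCoset.mem_doubleCoset.2 ⟨1, one_mem _, n⁻¹ * b * n,
        (hB _).2 ?_, by group⟩)
      simp only [Subgroup.coe_mul, Subgroup.coe_inv]
      rw [hc]
      exact mul_mem (mul_mem (inv_mem (tor_mem_borel c)) hb) (tor_mem_borel c)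
    · have hsn : ((s1 * n : ↥(twistedG2 K (3 ^ m))) : GL chevG2.Idx K) ∈
          chevG2.borelSubgroup K := by
        rw [Subgroup.coe_mul, s1_val, hc, ← mul_assoc,
          show n0 * tor m c * n0 = (n0 * tor m c * n0⁻¹) * (n0 * n0) by group, n0_conj_tor]
        exact mul_mem (tor_mem_borel _) (n0_sq_mem hK (m := m)).1
      rcases exists_nf (isTheta hK) (show ((s1 * b * n : ↥(twistedG2 K (3 ^ m))) :
          GL chevG2.Idx K) ∈ fx m by rw [fx_eq hK]; exact (s1 * b * n).2) with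
        ⟨t, u, v, a, e⟩ | ⟨t, u, v, a, t', u', v', e⟩
      · refine Or.inl (DoubleCoset.mem_doubleCoset.2 ⟨s1 * b * n * (s1 * n)⁻¹,
          (hB _).2 ?_, 1, one_mem _, by group⟩)
        rw [Subgroup.coe_mul, Subgroup.coe_inv, e]
        exact mul_mem (mul_mem (R_mem_borel t u v) (tor_mem_borel a)) (inv_mem hsn)
      · refine Or.inr (DoubleCoset.mem_doubleCoset.2
          ⟨⟨R m t u v * tor m a * (tor m c)⁻¹, mul_mem (mul_mem (R_mem_G1 _ _ _)
            (tor_mem_G1 hK a)) (inv_mem (tor_mem_G1 hK c))⟩, (hB _).2 (mul_mem (mul_mem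
            (R_mem_borel t u v) (tor_mem_borel a)) (inv_mem (tor_mem_borel c))),
          ⟨R m t' u' v', R_mem_G1 _ _ _⟩, (hB _).2 (R_mem_borel t' u' v'), Subtype.ext ?_⟩)
        show ((s1 * b * n : ↥(twistedG2 K (3 ^ m))) : GL chevG2.Idx K) = _
        rw [e]
        simp only [Subgroup.coe_mul]
        rw [hc]
        group
  conj_ne := by
    rintro s rfl h
    have hR1 : (⟨R m 1 0 0, R_mem_G1 _ _ _⟩ : ↥(twistedG2 K (3 ^ m))) ∈
        (chevG2.borelSubgroup K ⊓ twistedG2 K (3 ^ m)).subgroupOf (twistedG2 K (3 ^ m)) :=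
      Subgroup.mem_subgroupOf.2 ⟨R_mem_borel 1 0 0, R_mem_G1 _ _ _⟩
    have h1 := (Subgroup.mem_subgroupOf.1 (h.le ⟨_, hR1, rfl⟩)).1
    simp only [Subgroup.coe_mul, s1_val] at h1
    have h2 : n0 * R m 1 0 0 * n0⁻¹ ∈ chevG2.borelSubgroup K := by
      rw [show (n0 : GL chevG2.Idx K) * R m 1 0 0 * n0⁻¹ = (n0 * R m 1 0 0 * n0) * (n0 * n0)⁻¹ by
        group]
      exact mul_mem h1 (inv_mem (n0_sq_mem hK (m := m)).1)
    exact one_ne_zero (R_eq_one_iff.1 (n0_conj_not_borel (R_mem_U 1 0 0) h2)).1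

theorem exists_pair : ∃ P : Cfsg.BNPair ↥(twistedG2 K (3 ^ m)),
    P.B = (chevG2.borelSubgroup K ⊓ twistedG2 K (3 ^ m)).subgroupOf (twistedG2 K (3 ^ m)) ∧
    P.N = (chevG2.monomialSubgroup K ⊓ twistedG2 K (3 ^ m)).subgroupOf (twistedG2 K (3 ^ m)) :=
  ⟨reePair hK, rfl, rfl⟩

theorem core_trivial :
    ((chevG2.borelSubgroup K ⊓ twistedG2 K (3 ^ m)).subgroupOf (twistedG2 K (3 ^ m))).normalCore =
      ⊥ := by
  set C := ((chevG2.borelSubgroup K ⊓ twistedG2 K (3 ^ m)).subgroupOf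
    (twistedG2 K (3 ^ m))).normalCore with hC
  have hCB : ∀ y ∈ C, (y : GL chevG2.Idx K) ∈ chevG2.borelSubgroup K := fun y hy =>
    (Subgroup.mem_subgroupOf.1 (Subgroup.normalCore_le _ hy)).1
  haveI : C.Normal := Subgroup.normalCore_normal _
  have hdiag : ∀ y ∈ C, ∃ c, (y : GL chevG2.Idx K) = tor m c := by
    intro y hy
    obtain ⟨t, u, v, c, e⟩ := (inf_borel hK _).1 ⟨hCB y hy, y.2⟩
    have h' := hCB _ (Subgroup.Normal.conj_mem ‹C.Normal› y hy s1)
    simp only [Subgroup.coe_mul, Subgroup.coe_inv, s1_val, e] at h'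
    rw [show (n0 : GL chevG2.Idx K) * (R m t u v * tor m c) * n0⁻¹ =
      (n0 * R m t u v * n0⁻¹) * (n0 * tor m c * n0⁻¹) by group, n0_conj_tor] at h'
    have h1 := n0_conj_not_borel (R_mem_U t u v)
      ((Subgroup.mul_mem_cancel_right _ (tor_mem_borel _)).1 h')
    exact ⟨c, by rw [e, h1, one_mul]⟩
  rw [eq_bot_iff]
  intro g hg
  obtain ⟨c, hc⟩ := hdiag g hg
  let r : ↥(twistedG2 K (3 ^ m)) := ⟨R m 1 0 0, R_mem_G1 _ _ _⟩
  obtain ⟨d, hd⟩ := hdiag _ (mul_mem hg (Subgroup.Normal.conj_mem ‹C.Normal› g⁻¹ (inv_mem hg) r))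
  simp only [Subgroup.coe_mul, Subgroup.coe_inv, hc, r] at hd
  rw [show tor m c * (R m 1 0 0 * (tor m c)⁻¹ * (R m 1 0 0)⁻¹) =
    tor m c * R m 1 0 0 * (tor m c)⁻¹ * (R m 1 0 0)⁻¹ by group,
    tor_conj_R_eq (isTheta hK)] at hd
  have h2 := Subgroup.mem_bot.1 ((posUnipotent_inf_diagonal facts_chevG2).le
    ⟨Subgroup.mul_mem _ (R_mem_U _ _ _) (Subgroup.inv_mem _ (R_mem_U (m := m) 1 0 0)),
      hd ▸ tor_mem_diagonal d⟩)
  rw [mul_inv_eq_one] at h2
  obtain ⟨h3, -, -⟩ := R_injective m h2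
  rw [mul_one] at h3
  rw [Subgroup.mem_bot]
  exact Subtype.ext (hc.trans (by rw [tor_fix_t (isTheta hK) c h3, map_one]; rfl))

theorem simple (hm : 1 ≤ m) :
    IsSimpleGroup ↥(twistedG2 K (3 ^ m)) ∧ ¬ IsMulCommutative ↥(twistedG2 K (3 ^ m)) := by
  have hnt : Nontrivial ↥(twistedG2 K (3 ^ m)) := ⟨⟨⟨R m 1 0 0, R_mem_G1 _ _ _⟩, 1, fun e =>
    one_ne_zero (R_eq_one_iff.1 (congrArg Subtype.val e :)).1⟩⟩
  have hperf := commutator_eq hK hm
  refine ⟨Cfsg.Agent.S0319.result (reePair hK) ?_ ?_ hperf (core_trivial hK), ?_⟩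
  · intro J hJ hne hne'
    obtain ⟨a, ha⟩ := hne
    obtain ⟨b, hb, hb'⟩ := hne'
    obtain rfl : a = s1 := hJ ha
    obtain rfl : b = s1 := hb
    exact absurd ha hb'
  · show Group.IsSolvable ↥((chevG2.borelSubgroup K ⊓ twistedG2 K (3 ^ m)).subgroupOf
      (twistedG2 K (3 ^ m)))
    have := borel_isSolvable facts_chevG2 (F := K)
    exact Group.isSolvable_of_isSolvable_injective
      (f := ((twistedG2 K (3 ^ m)).subtype.comp ((chevG2.borelSubgroup K ⊓
        twistedG2 K (3 ^ m)).subgroupOf (twistedG2 K (3 ^ m))).subtype).codRestrict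
        (chevG2.borelSubgroup K) fun g => (Subgroup.mem_subgroupOf.1 g.2).1)
      fun x y e => Subtype.ext (Subtype.ext (congrArg Subtype.val e :))
  · intro hc
    have h0 : commutator ↥(twistedG2 K (3 ^ m)) = ⊥ := by
      rw [commutator_def, Subgroup.commutator_eq_bot_iff_le_centralizer]
      intro x _ y _
      exact hc.is_comm.comm y x
    exact top_ne_bot (hperf.symm.trans h0)

theorem weyl_hom : ∃ φ : ↥(chevG2.monomialSubgroup K ⊓ twistedG2 K (3 ^ m)) →*
    Multiplicative (ZMod 2), Function.Surjective φ ∧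
      φ.ker = (chevG2.diagonalSubgroup K ⊓ twistedG2 K (3 ^ m)).subgroupOf
        (chevG2.monomialSubgroup K ⊓ twistedG2 K (3 ^ m)) := by
  classical
  have key : ∀ g ∈ chevG2.monomialSubgroup K ⊓ twistedG2 K (3 ^ m),
      g ∉ chevG2.diagonalSubgroup K → ∀ h ∈ chevG2.monomialSubgroup K ⊓ twistedG2 K (3 ^ m),
      h ∉ chevG2.diagonalSubgroup K → g * h ∈ chevG2.diagonalSubgroup K := by
    intro g hg hgd h hh hhd
    rcases (inf_monomial hK g).1 hg with ⟨a, rfl⟩ | ⟨a, rfl⟩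
    · exact absurd (tor_mem_diagonal a) hgd
    rcases (inf_monomial hK h).1 hh with ⟨b, rfl⟩ | ⟨b, rfl⟩
    · exact absurd (tor_mem_diagonal b) hhd
    rw [show tor m a * n0 * (tor m b * n0) = tor m a * (n0 * tor m b * n0⁻¹) * (n0 * n0) by group,
      n0_conj_tor]
    exact mul_mem (mul_mem (tor_mem_diagonal a) (tor_mem_diagonal b⁻¹))
      ((borel_inf_monomial facts_chevG2).le
        ⟨(n0_sq_mem hK (m := m)).1, mul_mem n0_mem_monomial n0_mem_monomial⟩)
  let N := chevG2.monomialSubgroup K ⊓ twistedG2 K (3 ^ m)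
  let f : ↥N → Multiplicative (ZMod 2) := fun g =>
    if (g : GL chevG2.Idx K) ∈ chevG2.diagonalSubgroup K then 1 else Multiplicative.ofAdd 1
  have h1 : Multiplicative.ofAdd (1 : ZMod 2) * Multiplicative.ofAdd 1 = 1 := by decide
  have h2 : Multiplicative.ofAdd (1 : ZMod 2) ≠ 1 := by decide
  let φ : ↥N →* Multiplicative (ZMod 2) :=
  { toFun := f
    map_one' := if_pos (one_mem _)
    map_mul' := fun g h => by
      simp only [f, Subgroup.coe_mul]
      by_cases hg : (g : GL chevG2.Idx K) ∈ chevG2.diagonalSubgroup K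
      · simp only [Subgroup.mul_mem_cancel_left _ hg, hg, if_true, one_mul]
      · by_cases hh : (h : GL chevG2.Idx K) ∈ chevG2.diagonalSubgroup K
        · simp only [Subgroup.mul_mem_cancel_right _ hh, hh, if_true, mul_one]
        · rw [if_pos (key _ g.2 hg _ h.2 hh), if_neg hg, if_neg hh, h1] }
  refine ⟨φ, ?_, ?_⟩
  · intro z
    have hn : (n0 : GL chevG2.Idx K) ∉ chevG2.diagonalSubgroup K := fun h => by
      have := cell_not_borel (m := m) (0 : K) 0 0 1 0 0 0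
      rw [R_zero, map_one, one_mul, one_mul, mul_one] at this
      exact this (Subgroup.mem_sup_right h)
    have hz : z = 1 ∨ z = Multiplicative.ofAdd 1 := by revert z; decide
    rcases hz with rfl | rfl
    · exact ⟨1, map_one φ⟩
    · exact ⟨⟨n0, n0_mem_monomial, n0_mem_G1⟩, if_neg hn⟩
  · ext g
    rw [MonoidHom.mem_ker, Subgroup.mem_subgroupOf, Subgroup.mem_inf]
    show f g = 1 ↔ _
    by_cases hg : (g : GL chevG2.Idx K) ∈ chevG2.diagonalSubgroup K
    · simp only [f, if_pos hg]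
      exact iff_of_true trivial ⟨hg, g.2.2⟩
    · simp only [f, if_neg hg]
      exact iff_of_false h2 fun h => hg h.1

theorem odd_free :
    2 * Nat.card {h : ↥(chevG2.diagonalSubgroup K ⊓ twistedG2 K (3 ^ m)) // Odd (orderOf h)} =
      3 ^ (2 * m + 1) - 1 ∧
    ∀ h ∈ (chevG2.diagonalSubgroup K ⊓ twistedG2 K (3 ^ m)), h ≠ 1 → Odd (orderOf h) →
      (chevG2.posUnipotent K ⊓ twistedG2 K (3 ^ m)) ⊓ Subgroup.centralizer {h} = ⊥ := by
  have h4 : ∀ n : ℕ, 3 ^ (2 * n + 1) % 4 = 3 := fun n => by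
    induction n with
    | zero => rfl
    | succ n ih =>
      rw [show 2 * (n + 1) + 1 = 2 * n + 1 + 2 by ring, pow_add, Nat.mul_mod, ih]
      norm_num
  have h4' := h4 m
  set n := (3 ^ (2 * m + 1) - 1) / 2 with hn
  have hn2 : 3 ^ (2 * m + 1) - 1 = 2 * n := by omega
  have hodd : Odd n := Nat.odd_iff.2 (by omega)
  have hcardK : Nat.card Kˣ = 2 * n := by
    rw [Nat.card_units, Nat.card_eq_fintype_card, hK, hn2]
  have hiff : ∀ c : Kˣ, Odd (orderOf c) ↔ c ^ n = 1 := by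
    intro c
    rw [← orderOf_dvd_iff_pow_eq_one]
    refine ⟨fun h => ?_, fun h => Odd.of_dvd_nat hodd h⟩
    refine (Nat.coprime_two_right.2 h).dvd_of_dvd_mul_left ?_
    rw [← hcardK]
    exact orderOf_dvd_natCard c
  constructor
  · have e : Nat.card {h : ↥(chevG2.diagonalSubgroup K ⊓ twistedG2 K (3 ^ m)) //
        Odd (orderOf h)} = Nat.card ↥(powMonoidHom n : Kˣ →* Kˣ).ker := by
      let e0 : Kˣ ≃* ↥(chevG2.diagonalSubgroup K ⊓ twistedG2 K (3 ^ m)) :=
        (MonoidHom.ofInjective (tor_injective (K := K))).trans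
          (MulEquiv.subgroupCongr (inf_diagonal hK).symm)
      refine (Nat.card_congr (Equiv.subtypeEquiv e0.toEquiv fun c => ?_)).symm
      rw [MonoidHom.mem_ker, powMonoidHom_apply, ← hiff]
      show Odd _ ↔ Odd (orderOf (e0 c))
      rw [e0.orderOf_eq]
    rw [e, IsCyclic.card_powMonoidHom_ker, hcardK, Nat.gcd_eq_right (Dvd.intro_left 2 rfl), hn2]
  · intro h hh hne hho
    obtain ⟨c, rfl⟩ := (inf_diagonal hK).le hh
    have hc : c ^ 2 ≠ 1 := by
      intro e
      rw [orderOf_injective (tor m) tor_injective] at hho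
      have hd := orderOf_dvd_of_pow_eq_one e
      have : orderOf c = 1 :=
        (Nat.dvd_prime Nat.prime_two).1 hd |>.resolve_right fun e2 => by
          rw [e2] at hho; exact absurd hho (by decide)
      exact hne (by rw [orderOf_eq_one_iff.1 this, map_one])
    rw [eq_bot_iff]
    rintro g ⟨hg, hgc⟩
    obtain ⟨t, u, v, rfl⟩ := (inf_posU hK g).1 hg
    have hfix : tor m c * R m t u v * (tor m c)⁻¹ = R m t u v :=
      mul_inv_eq_iff_eq_mul.2 (Subgroup.mem_centralizer_iff.1 hgc _ rfl)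
    exact Subgroup.mem_bot.2 (R_eq_one_iff.2 (free_of_sq_ne_one (isTheta hK) hc hfix))

theorem card_order_three :
    Nat.card {u : ↥(chevG2.posUnipotent K ⊓ twistedG2 K (3 ^ m)) // orderOf u = 3} =
      (3 ^ (2 * m + 1)) ^ 2 - 1 := by
  classical
  haveI : Fact (Nat.Prime 3) := ⟨Nat.prime_three⟩
  have hiff : ∀ t u v : K, orderOf (R m t u v) = 3 ↔ t = 0 ∧ (u, v) ≠ 0 := by
    intro t u v
    rw [orderOf_eq_prime_iff, R_cube (isTheta hK), Ne, R_eq_one_iff, R_eq_one_iff]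
    constructor
    · rintro ⟨⟨-, -, h⟩, hne⟩
      rw [neg_eq_zero] at h
      have ht : t = 0 := by
        rcases mul_eq_zero.1 h with h | h
        · exact eq_zero_of_pow_eq_zero (eq_zero_of_pow_eq_zero h)
        · exact eq_zero_of_pow_eq_zero h
      exact ⟨ht, fun e => hne ⟨ht, congrArg Prod.fst e, congrArg Prod.snd e⟩⟩
    · rintro ⟨rfl, hne⟩
      exact ⟨⟨rfl, rfl, by simp⟩, fun h => hne (Prod.ext h.2.1 h.2.2)⟩
  let f : {p : K × K // p ≠ 0} →
      {u : ↥(chevG2.posUnipotent K ⊓ twistedG2 K (3 ^ m)) // orderOf u = 3} :=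
    fun p => ⟨⟨R m 0 p.1.1 p.1.2, (inf_posU hK _).2 ⟨_, _, _, rfl⟩⟩,
      (orderOf_injective _ (Subgroup.subtype_injective _) _).symm.trans
        ((hiff _ _ _).2 ⟨rfl, p.2⟩)⟩
  have hf : Function.Bijective f := by
    refine ⟨fun p q e => ?_, fun g => ?_⟩
    · obtain ⟨-, h2, h3⟩ := R_injective m (congrArg (fun z => z.1.1) e :)
      exact Subtype.ext (Prod.ext h2 h3)
    · obtain ⟨t, u, v, e⟩ := (inf_posU hK _).1 g.1.2
      have h := (orderOf_injective _ (Subgroup.subtype_injective _) g.1).trans g.2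
      rw [Subgroup.subtype_apply, e, hiff] at h
      obtain ⟨rfl, h2⟩ := h
      exact ⟨⟨(u, v), h2⟩, Subtype.ext (Subtype.ext e.symm)⟩
  rw [← Nat.card_congr (Equiv.ofBijective f hf), Nat.card_eq_fintype_card,
    Fintype.card_subtype_compl, Fintype.card_subtype_eq, Fintype.card_prod, hK, pow_two]

end Finite

/-- The characteristic from the order. -/
theorem charP_three {K : Type u} [Field K] [Fintype K] {m : ℕ}
    (hK : Fintype.card K = 3 ^ (2 * m + 1)) : CharP K 3 :=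
  haveI : Fact (Nat.Prime 3) := ⟨Nat.prime_three⟩
  charP_of_card_eq_prime_pow hK

end Ree

end Cfsg.Agent.Chev
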