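import Cfsg.Agent.Chev.Ree.Invol
import Cfsg.Agent.E8Auto.Autom
import Cfsg.Agent.S1782

/-!
The normaliser of a Sylow 2-subgroup of `²G₂(q)`.
-/

set_option autoImplicit false
set_option maxRecDepth 100000
set_option maxHeartbeats 1000000

namespace Cfsg.Agent.Chev

open Cfsg.Lie Matrix
open scoped MatrixGroups

universe u

namespace Ree

open G2Odd (lower diag2)

variable {K : Type u} [Field K] [Fintype K] [CharP K 3] {m : ℕ}
  (hK : Fintype.card K = 3 ^ (2 * m + 1))

omit [Fintype K] in
theorem negSL_central (g : SpecialLinearGroup (Fin 2) K) : g * negSL = negSL * g := by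
  apply Subtype.ext
  show g.1 * (negSL (K := K)).1 = (negSL (K := K)).1 * g.1
  ext i j
  fin_cases i <;> fin_cases j <;> simp [negSL, Matrix.mul_apply, Fin.sum_univ_two]

omit [Fintype K] in
theorem negSL_sq : (negSL : SpecialLinearGroup (Fin 2) K) * negSL = 1 := by
  apply Subtype.ext
  show (negSL (K := K)).1 * (negSL (K := K)).1 = 1
  ext i j
  fin_cases i <;> fin_cases j <;> simp [negSL, Matrix.mul_apply, Fin.sum_univ_two]

omit [Fintype K] in
theorem weyl_quat : (quatV : SpecialLinearGroup (Fin 2) K) * SL2Data.weyl =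
    SL2Data.weyl * quatV * negSL :=
  Subtype.ext quat_facts.2.2

omit [Fintype K] in
/-- The scalars are the elements commuting with both generators of the quaternion group. -/
theorem center_of_commute {g : SpecialLinearGroup (Fin 2) K}
    (h1 : g * SL2Data.weyl = SL2Data.weyl * g) (h2 : g * quatV = quatV * g) :
    g ∈ Subgroup.center _ := by
  have e1 := congrArg Subtype.val h1
  have e2 := congrArg Subtype.val h2
  change g.1 * (SL2Data.weyl (F := K)).1 = (SL2Data.weyl (F := K)).1 * g.1 at e1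
  change g.1 * (quatV (K := K)).1 = (quatV (K := K)).1 * g.1 at e2
  have a1 := congrFun (congrFun e1 0) 0
  have a2 := congrFun (congrFun e1 0) 1
  have a3 := congrFun (congrFun e2 0) 0
  simp [SL2Data.weyl, Matrix.mul_apply, Fin.sum_univ_two] at a1 a2
  simp [quatV, Matrix.mul_apply, Fin.sum_univ_two] at a3
  have h10 : g.1 1 0 = 0 := by linear_combination a1 + a3 + g.1 1 0 * three_eq (K := K)
  have h01 : g.1 0 1 = 0 := by linear_combination a3 + h10
  have hd := SL2Data.det_eq g
  rw [h10, h01, ← a2] at hd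
  refine Matrix.SpecialLinearGroup.mem_center_iff.2 ⟨g.1 0 0, ?_, ?_⟩
  · rw [Fintype.card_fin]; linear_combination hd
  · ext i j
    fin_cases i <;> fin_cases j <;> simp [h10, h01, ← a2]

variable {ψ : SpecialLinearGroup (Fin 2) K →* ↥(twistedG2 K (3 ^ m))}

omit [Fintype K] in
theorem signed_of_commute (hker : ∀ g, ψ g = 1 ↔ g ∈ Subgroup.center _)
    {g A : SpecialLinearGroup (Fin 2) K} (h : Commute (ψ g) (ψ A)) :
    g * A = A * g ∨ g * A = A * g * negSL := by
  have hz : (A * g)⁻¹ * (g * A) ∈ Subgroup.center _ := (hker _).1 (by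
    rw [map_mul, map_inv, map_mul, map_mul, h.eq, inv_mul_cancel])
  obtain ⟨r, hr, e⟩ := Matrix.SpecialLinearGroup.mem_center_iff.1 hz
  rw [Fintype.card_fin] at hr
  rcases sq_eq_one_iff.1 hr with rfl | rfl
  · have e1 : (A * g)⁻¹ * (g * A) = 1 := Subtype.ext (e.symm.trans (map_one _))
    exact Or.inl (inv_mul_eq_one.1 e1).symm
  · refine Or.inr ?_
    have e2 : (A * g)⁻¹ * (g * A) = negSL := Subtype.ext (e.symm.trans (by
      ext i j
      fin_cases i <;> fin_cases j <;> simp [negSL]))
    rw [← e2, mul_inv_cancel_left]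

include hK

theorem centralizer_decomp (hc : ∀ g, Commute invJ (ψ g)) (hne : ∀ g, ψ g ≠ invJ)
    (hker : ∀ g, ψ g = 1 ↔ g ∈ Subgroup.center _) {x : ↥(twistedG2 K (3 ^ m))}
    (hx : Commute x invJ) : ∃ g, x = ψ g ∨ x = invJ * ψ g := by
  obtain ⟨f, hf, e⟩ := centralizer_hom hK hc hne hker
  obtain ⟨⟨a, b⟩, h⟩ := hf.2 ⟨x, Subgroup.mem_centralizer_singleton_iff.2 hx.eq⟩
  induction b using QuotientGroup.induction_on with
  | _ g =>
    refine ⟨g, ?_⟩
    have h' := (congrArg Subtype.val h).symm.trans (e a g)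
    simp only [twoHom, MonoidHom.coe_mk, OneHom.coe_mk] at h'
    split_ifs at h'
    · exact Or.inl (h'.trans (one_mul _))
    · exact Or.inr h'

theorem sylow_two_facts (hm : 1 ≤ m) :
    ∃ E : Sylow 2 ↥(twistedG2 K (3 ^ m)),
      Subgroup.centralizer ((E : Subgroup ↥(twistedG2 K (3 ^ m))) : Set ↥(twistedG2 K (3 ^ m))) =
        E ∧
      Nat.card (Subgroup.normalizer
        ((E : Subgroup ↥(twistedG2 K (3 ^ m))) : Set ↥(twistedG2 K (3 ^ m)))) = 168 := by
  obtain ⟨ψ, hc, hne, hker⟩ := exists_psiG hK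
  obtain ⟨E₀, h8, hsq, hj, hw, hv, hgen⟩ := exists_eight hK hc hne hker
  refine ⟨Sylow.ofCard E₀ (by rw [h8, factorization_two hK]; rfl), ?_⟩
  set S : Sylow 2 ↥(twistedG2 K (3 ^ m)) := Sylow.ofCard E₀ (by rw [h8, factorization_two hK]; rfl)
  have hSE : (S : Subgroup ↥(twistedG2 K (3 ^ m))) = E₀ := rfl
  have hcomm : ∀ a ∈ E₀, ∀ b ∈ E₀, a * b = b * a := fun a ha b hb => by
    have hi : ∀ y ∈ E₀, y⁻¹ = y := fun y hy => inv_eq_of_mul_eq_one_right (hsq y hy)
    rw [← hi _ (mul_mem ha hb), _root_.mul_inv_rev, hi _ hb, hi _ ha]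
  have hab : IsMulCommutative E₀ :=
    isMulCommutative_iff.2 fun a b => Subtype.ext (hcomm a a.2 b b.2)
  have hCE : Subgroup.centralizer (E₀ : Set ↥(twistedG2 K (3 ^ m))) = E₀ := by
    refine le_antisymm (fun x hx => ?_) (fun x hx => Subgroup.mem_centralizer_iff.2
      fun b hb => hcomm b hb x hx)
    have hxj : Commute x invJ := (Subgroup.mem_centralizer_iff.1 hx invJ hj).symm
    obtain ⟨g, hg⟩ := centralizer_decomp hK hc hne hker hxj
    have hcy : ∀ y ∈ E₀, Commute (ψ g) y := fun y hy => by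
      have hxy : Commute x y := (Subgroup.mem_centralizer_iff.1 hx y hy).symm
      rcases hg with rfl | rfl
      · exact hxy
      · have hjy : Commute invJ y := hcomm _ hj _ hy
        have := hjy.inv_left.mul_left hxy
        rwa [inv_mul_cancel_left] at this
    have hgE : ψ g ∈ E₀ := by
      obtain ⟨h, hh, hgh⟩ : ∃ h, ψ h ∈ E₀ ∧ (g * h) * SL2Data.weyl = SL2Data.weyl * (g * h) := by
        rcases signed_of_commute hker (hcy _ hw) with e | e
        · exact ⟨1, by rw [map_one]; exact one_mem _, by rwa [mul_one]⟩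
        · refine ⟨quatV, hv, ?_⟩
          rw [mul_assoc, weyl_quat, ← mul_assoc g, ← mul_assoc g, e, mul_assoc _ negSL,
            ← negSL_central quatV, ← mul_assoc, mul_assoc _ negSL negSL, negSL_sq, mul_one,
            mul_assoc]
      have hcy' : Commute (ψ (g * h)) (ψ quatV) := by
        rw [map_mul]; exact (hcy _ hv).mul_left (hcomm _ hh _ hv)
      obtain ⟨k, hk, hk1, hk2⟩ : ∃ k, ψ k ∈ E₀ ∧
          (g * h * k) * SL2Data.weyl = SL2Data.weyl * (g * h * k) ∧
          (g * h * k) * quatV = quatV * (g * h * k) := by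
        rcases signed_of_commute hker hcy' with e | e
        · exact ⟨1, by rw [map_one]; exact one_mem _, by rwa [mul_one], by rwa [mul_one]⟩
        · refine ⟨SL2Data.weyl, hw, by rw [← mul_assoc SL2Data.weyl, ← hgh], ?_⟩
          rw [← mul_assoc quatV, show quatV * (g * h) = g * h * quatV * negSL by
            rw [e, mul_assoc _ negSL negSL, negSL_sq, mul_one], mul_assoc _ negSL,
            ← negSL_central SL2Data.weyl, ← mul_assoc, mul_assoc (g * h) quatV, weyl_quat,
            ← mul_assoc (g * h), ← mul_assoc (g * h), mul_assoc _ negSL negSL, negSL_sq, mul_one]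
      have h1 := (hker _).2 (center_of_commute hk1 hk2)
      rw [map_mul, map_mul, mul_eq_one_iff_eq_inv, ← eq_mul_inv_iff_mul_eq] at h1
      rw [h1]
      exact mul_mem (inv_mem hk) (inv_mem hh)
    rcases hg with rfl | rfl
    · exact hgE
    · exact mul_mem hj hgE
  refine ⟨by rw [hSE]; exact hCE, ?_⟩
  set N := Subgroup.normalizer (E₀ : Set ↥(twistedG2 K (3 ^ m))) with hN
  set φ := E₀.normalizerMonoidHom with hφ
  have hφapp : ∀ (n : N) (s : E₀),
      ((φ n) s : ↥(twistedG2 K (3 ^ m))) = n * s * (n : ↥(twistedG2 K (3 ^ m)))⁻¹ := fun _ _ => rfl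
  have hker' : ∀ n : N, φ n = 1 ↔ (n : ↥(twistedG2 K (3 ^ m))) ∈ E₀ := fun n => by
    rw [← MonoidHom.mem_ker, hφ, Subgroup.normalizerMonoidHom_ker, Subgroup.mem_subgroupOf, hCE]
  have hkeq : φ.ker = E₀.subgroupOf N := by
    ext n; rw [MonoidHom.mem_ker, hker']; rfl
  set r := Nat.card φ.range with hr
  have hN8 : Nat.card N = 8 * r := by
    rw [hr, ← Subgroup.index_ker, ← φ.ker.card_mul_index, hkeq,
      Nat.card_congr (Subgroup.subgroupOfEquivOfLe Subgroup.le_normalizer).toEquiv, h8]
  have hodd : ¬ 2 ∣ r := by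
    intro h
    refine S.not_dvd_index (h.trans ?_)
    rw [hr, ← Subgroup.index_ker, hkeq]
    exact Subgroup.relIndex_dvd_index_of_le Subgroup.le_normalizer
  have h168 : r ∣ 168 := by
    refine (Subgroup.card_subgroup_dvd_card φ.range).trans ?_
    have hbot : frattini E₀ = ⊥ :=
      S1782.frattini_eq_bot_of_exponent_two fun x => Subtype.ext (hsq x x.2)
    have hidx : (frattini E₀).index = 2 ^ 3 := by
      rw [hbot, Subgroup.index_bot, h8]; rfl
    exact (FGS.card_mulAut_dvd (P := E₀) (p := 2) (n := 3) (r := 3)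
      (by rw [h8]; rfl) hidx).trans (by decide)
  -- the element of order three
  have hu3 : (SL2Data.upper (1 : K)) * SL2Data.upper 1 * SL2Data.upper 1 = 1 := by
    apply Subtype.ext
    show (SL2Data.upper (1 : K)).1 * (SL2Data.upper (1 : K)).1 * (SL2Data.upper (1 : K)).1 = 1
    ext i j
    fin_cases i <;> fin_cases j <;> simp [SL2Data.upper, Matrix.mul_apply, Fin.sum_univ_two]
    linear_combination three_eq (K := K)
  set u := ψ (SL2Data.upper (1 : K)) with hu
  have hmap : ∀ y ∈ E₀, u * y * u⁻¹ ∈ E₀ := by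
    refine hgen (E₀.comap (MulAut.conj u).toMonoidHom) ?_ ?_ ?_
    · show u * invJ * u⁻¹ ∈ E₀
      rw [hu, ← (hc _).eq, mul_inv_cancel_right]; exact hj
    · show u * ψ SL2Data.weyl * u⁻¹ ∈ E₀
      have e : SL2Data.upper (1 : K) * SL2Data.weyl = quatV * negSL * SL2Data.upper 1 := by
        apply Subtype.ext
        show (SL2Data.upper (1 : K)).1 * (SL2Data.weyl (F := K)).1 =
          (quatV (K := K)).1 * (negSL (K := K)).1 * (SL2Data.upper (1 : K)).1
        ext i j
        fin_cases i <;> fin_cases j <;>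
          simp [SL2Data.upper, SL2Data.weyl, quatV, negSL, Matrix.mul_apply, Fin.sum_univ_two]
        linear_combination three_eq (K := K)
      rw [hu, ← map_mul, e, map_mul, map_mul, (hker negSL).2 (Subgroup.mem_center_iff.2
        negSL_central), mul_one, mul_inv_cancel_right]
      exact hv
    · show u * ψ quatV * u⁻¹ ∈ E₀
      have e : SL2Data.upper (1 : K) * quatV =
          SL2Data.weyl * quatV * negSL * SL2Data.upper 1 := by
        apply Subtype.ext
        show (SL2Data.upper (1 : K)).1 * (quatV (K := K)).1 =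
          (SL2Data.weyl (F := K)).1 * (quatV (K := K)).1 * (negSL (K := K)).1 *
            (SL2Data.upper (1 : K)).1
        ext i j
        fin_cases i <;> fin_cases j <;>
          simp [SL2Data.upper, SL2Data.weyl, quatV, negSL, Matrix.mul_apply, Fin.sum_univ_two] <;>
          first
            | linear_combination three_eq (K := K)
            | linear_combination (-2 : K) * three_eq (K := K)
            | linear_combination (2 : K) * three_eq (K := K)
            | linear_combination -three_eq (K := K)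
      rw [hu, ← map_mul, e, map_mul, map_mul, (hker negSL).2 (Subgroup.mem_center_iff.2
        negSL_central), mul_one, mul_inv_cancel_right, map_mul]
      exact mul_mem hw hv
  have huN : u ∈ N := Subgroup.mem_normalizer_fintype hmap
  have hu1 : u ≠ 1 := fun h => by
    obtain ⟨s, -, e⟩ := Matrix.SpecialLinearGroup.mem_center_iff.1 ((hker _).1 h)
    have := congrFun (congrFun e 0) 1
    simp [SL2Data.upper] at this
  have hu3' : u ^ 3 = 1 := by
    rw [pow_succ, pow_two, hu, ← map_mul, ← map_mul, hu3, map_one]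
  have ho : orderOf (φ ⟨u, huN⟩) = 3 := by
    haveI : Fact (Nat.Prime 3) := ⟨Nat.prime_three⟩
    refine orderOf_eq_prime ?_ fun h => hu1 ?_
    · rw [← map_pow, show (⟨u, huN⟩ : N) ^ 3 = 1 from Subtype.ext hu3', map_one]
    · have h2 := hsq u ((hker' _).1 h)
      rw [pow_succ, pow_two, h2, one_mul] at hu3'
      exact hu3'
  have h3 : 3 ∣ r := by
    have hmem : φ ⟨u, huN⟩ ∈ φ.range := MonoidHom.mem_range.2 ⟨_, rfl⟩
    have := orderOf_dvd_natCard (⟨φ ⟨u, huN⟩, hmem⟩ : φ.range)
    rwa [Subgroup.orderOf_mk, ho] at this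
  have hne3 : r ≠ 3 := by
    intro h
    obtain ⟨hs, hna⟩ := simple hK hm
    have := hs
    have hgen' : φ.range = Subgroup.zpowers (φ ⟨u, huN⟩) := by
      refine (Subgroup.eq_of_le_of_card_ge (Subgroup.zpowers_le.2
        (MonoidHom.mem_range.2 ⟨_, rfl⟩)) ?_).symm
      rw [← hr, h, Nat.card_zpowers, ho]
    have hfix : φ ⟨u, huN⟩ ∈ MulAction.stabilizer (MulAut E₀) (⟨invJ, hj⟩ : E₀) :=
      Subtype.ext (by
        show u * invJ * u⁻¹ = invJ
        rw [hu, ← (hc _).eq, mul_inv_cancel_right])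
    have h1 := E8Auto.eq_one_of_fixed hna S hab hj fun n hn => by
      obtain ⟨i, hi⟩ := Subgroup.mem_zpowers_iff.1 (hgen' ▸ MonoidHom.mem_range.2
        (⟨⟨n, hn⟩, rfl⟩ : ∃ x, φ x = φ ⟨n, hn⟩))
      have h2 : φ ⟨n, hn⟩ ∈ MulAction.stabilizer (MulAut E₀) (⟨invJ, hj⟩ : E₀) :=
        hi ▸ zpow_mem hfix i
      exact congrArg Subtype.val h2
    exact neg_one_ne_one (tor_injective (m := m) ((congrArg Subtype.val h1).trans (map_one _).symm))
  have hr21 : r = 21 := by
    have hmem := Nat.mem_divisors.2 ⟨h168, by norm_num⟩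
    rw [show (168 : ℕ).divisors = {1, 2, 3, 4, 6, 7, 8, 12, 14, 21, 24, 28, 42, 56, 84, 168} by
      decide] at hmem
    simp only [Finset.mem_insert, Finset.mem_singleton] at hmem
    omega
  rw [hSE, ← hN, hN8, hr21]

omit hK [Field K] [Fintype K] [CharP K 3] in
theorem centralizer_map_equiv {G : Type*} [Group G] (e : G ≃* G) (H : Subgroup G) :
    Subgroup.centralizer ((H.map e.toMonoidHom : Subgroup G) : Set G) =
      (Subgroup.centralizer (H : Set G)).map e.toMonoidHom := by
  ext x
  simp only [Subgroup.mem_map_equiv, Subgroup.mem_centralizer_iff, SetLike.mem_coe]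
  constructor
  · intro h b hb
    have := congrArg e.symm (h (e b) (by simpa using hb))
    simpa using this
  · intro h b hb
    have := congrArg e (h (e.symm b) hb)
    simpa using this

theorem sylow_two_normalizer (hm : 1 ≤ m) (S : Sylow 2 ↥(twistedG2 K (3 ^ m))) :
    Subgroup.centralizer ((S : Subgroup ↥(twistedG2 K (3 ^ m))) : Set ↥(twistedG2 K (3 ^ m))) = S ∧
      Nat.card (Subgroup.normalizer
        ((S : Subgroup ↥(twistedG2 K (3 ^ m))) : Set ↥(twistedG2 K (3 ^ m)))) = 168 := by
  obtain ⟨E, h1, h2⟩ := sylow_two_facts hK hm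
  obtain ⟨g, rfl⟩ := MulAction.exists_smul_eq ↥(twistedG2 K (3 ^ m)) E S
  have he : ((g • E : Sylow 2 ↥(twistedG2 K (3 ^ m))) : Subgroup ↥(twistedG2 K (3 ^ m))) =
      (E : Subgroup ↥(twistedG2 K (3 ^ m))).map (MulAut.conj g).toMonoidHom := rfl
  refine ⟨?_, ?_⟩
  · rw [he, centralizer_map_equiv, h1]
  · rw [he, ← Subgroup.map_equiv_normalizer_eq,
      Subgroup.card_map_of_injective (MulAut.conj g).injective, h2]

end Ree

end Cfsg.Agent.Chev
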