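import Cfsg.Agent.Chev.Ree.Singer

/-!
The four kinds of maximal tori of `²G₂(q)` and the kinds of its elements.
-/

set_option autoImplicit false
set_option maxRecDepth 100000
set_option maxHeartbeats 1000000

namespace Cfsg.Agent.Chev

open Cfsg.Lie
open scoped MatrixGroups

universe u

namespace Ree

/-- An abelian subgroup with itself as the centraliser of each of its elements of non-trivial
square, any two conjugates of it having no such element in common. -/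
structure IsTorus {G : Type*} [Group G] (T : Subgroup G) : Prop where
  comm : ∀ a ∈ T, ∀ b ∈ T, a * b = b * a
  cent : ∀ y ∈ T, y ^ 2 ≠ 1 → Subgroup.centralizer {y} = T
  ti : ∀ g, ∀ y ∈ T, y ^ 2 ≠ 1 → g * y * g⁻¹ ∈ T → g ∈ Subgroup.normalizer (T : Set G)

section General

variable {G : Type*} [Group G]

theorem mem_map_conj {T : Subgroup G} {g z : G} :
    z ∈ T.map (MulAut.conj g).toMonoidHom ↔ g⁻¹ * z * g ∈ T := by
  constructor
  · rintro ⟨w, hw, rfl⟩
    simpa [MulAut.conj_apply, mul_assoc] using hw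
  · exact fun h => ⟨_, h, by simp [MulAut.conj_apply, mul_assoc]⟩

theorem card_map_conj (T : Subgroup G) (g : G) :
    Nat.card (T.map (MulAut.conj g).toMonoidHom : Subgroup G) = Nat.card T :=
  (Nat.card_congr (Subgroup.equivMapOfInjective _ _ (MulEquiv.injective _)).toEquiv).symm

theorem comm_of_isCyclic {C : Subgroup G} (hC : IsCyclic C) {a b : G} (ha : a ∈ C) (hb : b ∈ C) :
    a * b = b * a := by
  haveI := hC
  letI := IsCyclic.commGroup (α := C)
  exact congrArg Subtype.val (mul_comm (⟨a, ha⟩ : C) ⟨b, hb⟩)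

theorem exists_generator_of_isCyclic [Finite G] {C : Subgroup G} (hC : IsCyclic C) :
    ∃ c, Subgroup.zpowers c = C ∧ orderOf c = Nat.card C := by
  obtain ⟨c, hc⟩ := (Subgroup.isCyclic_iff_exists_zpowers_eq_top C).1 hC
  exact ⟨c, hc, by rw [← Nat.card_zpowers, hc]⟩

/-- The subgroups of a finite cyclic group are determined by their orders. -/
theorem mem_of_cyclic_pow [Finite G] {C A : Subgroup G} (hC : IsCyclic C) (hA : A ≤ C) {x : G}
    (hx : x ∈ C) (h : x ^ Nat.card A = 1) : x ∈ A := by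
  classical
  haveI := hC
  haveI : Fintype C := Fintype.ofFinite _
  haveI : Fintype A := Fintype.ofFinite _
  let P : Finset C := Finset.univ.filter fun c : C => c ^ Nat.card A = 1
  have hP : P.card ≤ Nat.card A := IsCyclic.card_pow_eq_one_le Nat.card_pos
  let Q : Finset C := (Finset.univ : Finset A).image fun a : A => (⟨a.1, hA a.2⟩ : C)
  have hQ : Q.card = Nat.card A := by
    simp only [Q]
    rw [Finset.card_image_of_injective, Finset.card_univ, Nat.card_eq_fintype_card]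
    intro a b e
    exact Subtype.ext (congrArg (fun c : C => (c : G)) e)
  have hQP : Q ⊆ P := by
    intro y hy
    obtain ⟨a, -, rfl⟩ := Finset.mem_image.1 hy
    refine Finset.mem_filter.2 ⟨Finset.mem_univ _, Subtype.ext ?_⟩
    show (a.1 : G) ^ Nat.card A = 1
    exact congrArg Subtype.val (pow_card_eq_one' (x := a))
  have e := Finset.eq_of_subset_of_card_le hQP (hP.trans hQ.ge)
  have hmem : (⟨x, hx⟩ : C) ∈ P := Finset.mem_filter.2 ⟨Finset.mem_univ _, Subtype.ext h⟩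
  rw [← e] at hmem
  obtain ⟨a, -, ha⟩ := Finset.mem_image.1 hmem
  rw [show x = (a : G) from (congrArg Subtype.val ha).symm]
  exact a.2

theorem eq_of_cyclic_card [Finite G] {C A B : Subgroup G} (hC : IsCyclic C) (hA : A ≤ C) (hB : B ≤ C)
    (h : Nat.card A = Nat.card B) : A = B :=
  Subgroup.eq_of_le_of_card_ge (fun x hx => mem_of_cyclic_pow hC hB (hA hx) (by
    rw [← h]; exact congrArg Subtype.val (pow_card_eq_one' (x := (⟨x, hx⟩ : A))))) h.ge

theorem normalizer_le_of_cyclic [Finite G] {C A : Subgroup G} (hC : IsCyclic C) (hA : A ≤ C) :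
    Subgroup.normalizer (C : Set G) ≤ Subgroup.normalizer (A : Set G) := by
  have key : ∀ g ∈ Subgroup.normalizer (C : Set G), ∀ x ∈ A, g * x * g⁻¹ ∈ A := by
    intro g hg x hx
    refine mem_of_cyclic_pow hC hA ((Subgroup.mem_normalizer_iff.1 hg x).1 (hA hx)) ?_
    have e : x ^ Nat.card A = 1 := congrArg Subtype.val (pow_card_eq_one' (x := (⟨x, hx⟩ : A)))
    rw [conj_pow, e, mul_one, mul_inv_cancel]
  intro g hg
  refine Subgroup.mem_normalizer_iff.2 fun x => ⟨key g hg x, fun hx => ?_⟩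
  have := key g⁻¹ (inv_mem hg) _ hx
  simpa [mul_assoc] using this

theorem sq_ne_one_of_odd {y : G} (ho : Odd (orderOf y)) (hy : y ≠ 1) : y ^ 2 ≠ 1 := fun e => by
  rcases (Nat.dvd_prime Nat.prime_two).1 (orderOf_dvd_of_pow_eq_one e) with h | h
  · exact hy (orderOf_eq_one_iff.1 h)
  · rw [h] at ho
    exact absurd ho (by decide)

theorem odd_orderOf_of_mem {A : Subgroup G} (hA : Odd (Nat.card A)) {y : G} (hy : y ∈ A) :
    Odd (orderOf y) :=
  hA.of_dvd_nat (Subgroup.orderOf_dvd_natCard _ hy)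

theorem exists_sq_ne_one {A : Subgroup G} (hA : Odd (Nat.card A)) (hne : A ≠ ⊥) :
    ∃ y ∈ A, y ^ 2 ≠ 1 := by
  obtain ⟨y, hy, hy1⟩ := A.bot_or_exists_ne_one.resolve_left hne
  exact ⟨y, hy, sq_ne_one_of_odd (odd_orderOf_of_mem hA hy) hy1⟩

theorem orderOf_conj_eq (g y : G) : orderOf (g * y * g⁻¹) = orderOf y := by
  rw [← MulAut.conj_apply, MulEquiv.orderOf_eq]

theorem IsTorus.map {T : Subgroup G} (h : IsTorus T) (g : G) :
    IsTorus (T.map (MulAut.conj g).toMonoidHom) := by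
  have hsq : ∀ y : G, y ^ 2 ≠ 1 → (g⁻¹ * y * g) ^ 2 ≠ 1 := fun y hy e => hy (by
    calc y ^ 2 = g * (g⁻¹ * y * g) ^ 2 * g⁻¹ := by rw [pow_two, pow_two]; group
      _ = 1 := by rw [e]; group)
  refine ⟨fun a ha b hb => ?_, fun y hy hy2 => ?_, fun x y hy hy2 hxy => ?_⟩
  · have e := h.comm _ (mem_map_conj.1 ha) _ (mem_map_conj.1 hb)
    calc a * b = g * (g⁻¹ * a * g * (g⁻¹ * b * g)) * g⁻¹ := by group
      _ = g * (g⁻¹ * b * g * (g⁻¹ * a * g)) * g⁻¹ := by rw [e]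
      _ = b * a := by group
  · have e := h.cent _ (mem_map_conj.1 hy) (hsq y hy2)
    ext z
    rw [mem_map_conj, ← e, Subgroup.mem_centralizer_singleton_iff, Subgroup.mem_centralizer_singleton_iff]
    constructor
    · intro hz
      calc g⁻¹ * z * g * (g⁻¹ * y * g) = g⁻¹ * (z * y) * g := by group
        _ = g⁻¹ * (y * z) * g := by rw [hz]
        _ = g⁻¹ * y * g * (g⁻¹ * z * g) := by group
    · intro hz
      calc z * y = g * (g⁻¹ * z * g * (g⁻¹ * y * g)) * g⁻¹ := by group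
        _ = g * (g⁻¹ * y * g * (g⁻¹ * z * g)) * g⁻¹ := by rw [hz]
        _ = y * z := by group
  · have hn := h.ti (g⁻¹ * x * g) _ (mem_map_conj.1 hy) (hsq y hy2) (by
      rw [show g⁻¹ * x * g * (g⁻¹ * y * g) * (g⁻¹ * x * g)⁻¹ = g⁻¹ * (x * y * x⁻¹) * g by group]
      exact mem_map_conj.1 hxy)
    refine Subgroup.mem_normalizer_iff.2 fun z => ?_
    rw [mem_map_conj, mem_map_conj, Subgroup.mem_normalizer_iff.1 hn (g⁻¹ * z * g),
      show g⁻¹ * x * g * (g⁻¹ * z * g) * (g⁻¹ * x * g)⁻¹ = g⁻¹ * (x * z * x⁻¹) * g by group]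

theorem IsTorus.centralizer_eq {T A : Subgroup G} (h : IsTorus T) (hA : A ≤ T) {y : G} (hy : y ∈ A)
    (hy2 : y ^ 2 ≠ 1) : Subgroup.centralizer (A : Set G) = T := by
  refine le_antisymm (fun c hc => ?_) fun c hc => Subgroup.mem_centralizer_iff.2 fun a ha => h.comm a (hA ha) c hc
  rw [← h.cent y (hA hy) hy2]
  exact Subgroup.mem_centralizer_singleton_iff.2 (Subgroup.mem_centralizer_iff.1 hc y hy).symm

theorem IsTorus.normalizer_le {T A : Subgroup G} (h : IsTorus T) (hA : A ≤ T) {y : G} (hy : y ∈ A)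
    (hy2 : y ^ 2 ≠ 1) : Subgroup.normalizer (A : Set G) ≤ Subgroup.normalizer (T : Set G) :=
  fun g hg => h.ti g y (hA hy) hy2 (hA ((Subgroup.mem_normalizer_iff.1 hg y).1 hy))

theorem IsSinger.isTorus {Φ : ℕ} {A : Subgroup G} (hA : IsSinger Φ A) : IsTorus A :=
  ⟨fun _ ha _ hb => comm_of_isCyclic hA.cyclic ha hb,
    fun y hy hy2 => hA.cent y hy fun e => hy2 (by rw [e, one_pow]),
    fun g y hy hy2 => hA.ti g y hy fun e => hy2 (by rw [e, one_pow])⟩

/-- A torus of order `q + 1` with everything known about it. -/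
structure IsQTorus (q : ℕ) (T : Subgroup G) (a : G) : Prop where
  torus : IsTorus T
  card : Nat.card T = q + 1
  gen : a ∈ T
  ord : orderOf a = (q + 1) / 4
  odd : Odd ((q + 1) / 4)
  one_lt : 1 < (q + 1) / 4
  sq : ∀ g ∈ T, g ^ 2 ∈ Subgroup.zpowers a
  four : Nat.card {g : T // (g : G) ^ 2 = 1} = 4
  normalizer : Nat.card (Subgroup.normalizer (T : Set G)) = 6 * (q + 1)

variable {q : ℕ} {T : Subgroup G} {a : G}

theorem IsQTorus.zpowers_le (h : IsQTorus q T a) : Subgroup.zpowers a ≤ T :=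
  Subgroup.zpowers_le.2 h.gen

theorem IsQTorus.card_zpowers (h : IsQTorus q T a) : Nat.card (Subgroup.zpowers a) = (q + 1) / 4 := by
  rw [Nat.card_zpowers, h.ord]

theorem IsQTorus.mem_zpowers (h : IsQTorus q T a) {g : G} (hg : g ∈ T) (hb : g ^ ((q + 1) / 4) = 1) :
    g ∈ Subgroup.zpowers a := by
  obtain ⟨k, hk⟩ := h.odd
  have e : g = (g ^ 2) ^ (k + 1) := by
    rw [← pow_mul, show 2 * (k + 1) = (q + 1) / 4 + 1 by omega, pow_succ, hb, one_mul]
  rw [e]
  exact pow_mem (h.sq g hg) _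

theorem IsQTorus.orderOf_dvd (h : IsQTorus q T a) {g : G} (hg : g ∈ T) :
    orderOf g ∣ 2 * ((q + 1) / 4) := by
  refine orderOf_dvd_of_pow_eq_one ?_
  obtain ⟨k, hk⟩ := Subgroup.mem_zpowers_iff.1 (h.sq g hg)
  rw [pow_mul, ← hk, ← h.ord, ← zpow_natCast, ← zpow_mul, mul_comm, zpow_mul, zpow_natCast,
    pow_orderOf_eq_one, one_zpow]

theorem IsQTorus.normalizer_le (h : IsQTorus q T a) :
    Subgroup.normalizer (T : Set G) ≤ Subgroup.normalizer (Subgroup.zpowers a : Set G) := by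
  have key : ∀ g ∈ Subgroup.normalizer (T : Set G), ∀ x ∈ Subgroup.zpowers a,
      g * x * g⁻¹ ∈ Subgroup.zpowers a := by
    intro g hg x hx
    refine h.mem_zpowers ((Subgroup.mem_normalizer_iff.1 hg x).1 (h.zpowers_le hx)) ?_
    obtain ⟨k, rfl⟩ := Subgroup.mem_zpowers_iff.1 hx
    rw [conj_pow, ← zpow_natCast, ← zpow_mul, mul_comm, zpow_mul, zpow_natCast, ← h.ord,
      pow_orderOf_eq_one, one_zpow, mul_one, mul_inv_cancel]
  intro g hg
  refine Subgroup.mem_normalizer_iff.2 fun x => ⟨key g hg x, fun hx => ?_⟩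
  have := key g⁻¹ (inv_mem hg) _ hx
  simpa [mul_assoc] using this

theorem IsQTorus.exists_sq_ne_one (h : IsQTorus q T a) : a ^ 2 ≠ 1 :=
  Ree.sq_ne_one_of_odd (h.ord ▸ h.odd) fun e => by
    have h1 := h.ord
    have h2 := h.one_lt
    rw [e, orderOf_one] at h1
    omega

theorem IsQTorus.normalizer_eq (h : IsQTorus q T a) :
    Subgroup.normalizer (Subgroup.zpowers a : Set G) = Subgroup.normalizer (T : Set G) :=
  le_antisymm (h.torus.normalizer_le h.zpowers_le (Subgroup.mem_zpowers a) h.exists_sq_ne_one)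
    h.normalizer_le

end General

variable {K : Type u} [Field K] [Fintype K] [CharP K 3] {m : ℕ}
  (hK : Fintype.card K = 3 ^ (2 * m + 1))
include hK

theorem exists_generator_units : ∃ γ : Kˣ, orderOf γ = 3 ^ (2 * m + 1) - 1 := by
  classical
  obtain ⟨γ, hγ⟩ := IsCyclic.exists_generator (α := Kˣ)
  exact ⟨γ, by rw [orderOf_eq_card_of_forall_mem_zpowers hγ, Nat.card_eq_fintype_card, Fintype.card_units, hK]⟩

theorem exists_sq_units (hm : 1 ≤ m) : ∃ c : Kˣ, c ^ 2 ≠ 1 := by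
  obtain ⟨γ, hγ⟩ := exists_generator_units hK
  refine ⟨γ, fun e => ?_⟩
  have h := Nat.le_of_dvd two_pos (hγ ▸ orderOf_dvd_of_pow_eq_one e)
  have := le_pow_odd hm
  omega

theorem isTorus_H1 : IsTorus (H1 hK : Subgroup (G1 K m)) := by
  have hsq : ∀ c : Kˣ, (tt hK c : G1 K m) ^ 2 ≠ 1 → c ^ 2 ≠ 1 := fun c h e => h (by
    rw [← map_pow, e, map_one])
  refine ⟨fun a ha b hb => ?_, fun y hy hy2 => ?_, fun g y hy hy2 hg => ?_⟩
  · obtain ⟨c, rfl⟩ := (mem_H1 hK).1 ha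
    obtain ⟨d, rfl⟩ := (mem_H1 hK).1 hb
    rw [← map_mul, ← map_mul, mul_comm]
  · obtain ⟨c, rfl⟩ := (mem_H1 hK).1 hy
    exact centralizer_tt hK (hsq c hy2)
  · obtain ⟨c, rfl⟩ := (mem_H1 hK).1 hy
    rw [normalizer_of_le_H1 hK (le_refl (H1 hK)) ⟨c, hsq c hy2, hy⟩]
    exact mem_N1_of_conj hK (hsq c hy2) hg

/-- The torus of order `q + 1`. -/
theorem exists_qtorus (hm : 1 ≤ m) : ∃ T : Subgroup (G1 K m), ∃ a : G1 K m,
    IsQTorus (3 ^ (2 * m + 1)) T a ∧ invJ ∈ T ∧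
    ∀ y : G1 K m, ∀ r : ℕ, r.Prime → r ∣ (3 ^ (2 * m + 1) + 1) / 4 → r ∣ orderOf y →
      ∃ g, g * y * g⁻¹ ∈ T ∧ (g * y * g⁻¹) ^ 2 ≠ 1 := by
  obtain ⟨T, a, hT, ha, hao, hsq, hV, hC, hTI, hN, hconj⟩ := exists_quarter hK hm (m := m) (K := K)
  have h8 := pow_odd_mod m
  have h27 := le_pow_odd hm
  exact ⟨T, a, ⟨⟨hT.comm, hC, hTI⟩, hT.card, ha, hao, Nat.odd_iff.2 (by omega), by omega, hsq, hV, hN⟩,
    hT.mem, hconj⟩

theorem not_four_dvd_orderOf (y : G1 K m) : ¬ 4 ∣ orderOf y := by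
  intro h
  obtain ⟨k, hk⟩ := h
  have hk0 : 0 < k := by
    have := orderOf_pos y
    omega
  have h2 := no_four hK (x := y ^ k) (by rw [← pow_mul, mul_comm, ← hk, pow_orderOf_eq_one])
  rw [← pow_mul] at h2
  have := Nat.le_of_dvd (by omega) (orderOf_dvd_of_pow_eq_one h2)
  omega

theorem exists_odd_prime {y : G1 K m} (h : 2 < orderOf y) :
    ∃ p : ℕ, p.Prime ∧ p ≠ 2 ∧ p ∣ orderOf y := by
  rcases Nat.four_dvd_or_exists_odd_prime_and_dvd_of_two_lt h with h4 | ⟨p, hp, hpd, hodd⟩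
  · exact absurd h4 (not_four_dvd_orderOf hK y)
  · exact ⟨p, hp, fun e => by subst e; exact absurd hodd (by decide), hpd⟩

theorem prime_cases {p : ℕ} (hp : p.Prime) (h2 : p ≠ 2) (h3 : p ≠ 3)
    (hpG : p ∣ Nat.card (G1 K m)) :
    p ∣ 3 ^ (2 * m + 1) - 1 ∨ p ∣ (3 ^ (2 * m + 1) + 1) / 4 ∨
      p ∣ 3 ^ (2 * m + 1) - 3 ^ (m + 1) + 1 ∨ p ∣ 3 ^ (2 * m + 1) + 3 ^ (m + 1) + 1 := by
  rw [card_G1_prod hK] at hpG
  have h8 := pow_odd_mod m
  rcases hp.dvd_mul.1 hpG with h | h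
  · rcases hp.dvd_mul.1 h with h | h
    · exact absurd ((Nat.prime_dvd_prime_iff_eq hp Nat.prime_three).1
        (hp.dvd_of_dvd_pow (hp.dvd_of_dvd_pow h))) h3
    · exact Or.inl h
  · rcases hp.dvd_mul.1 h with h | h
    · refine Or.inr (Or.inl ?_)
      have e : 3 ^ (2 * m + 1) + 1 = 4 * ((3 ^ (2 * m + 1) + 1) / 4) := by omega
      rw [e] at h
      refine Nat.Coprime.dvd_of_dvd_mul_left ?_ h
      rw [show 4 = 2 ^ 2 from rfl]
      exact ((Nat.coprime_primes hp Nat.prime_two).2 h2).pow_right 2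
    · rw [← nminus_mul_nplus] at h
      exact (hp.dvd_mul.1 h).elim (fun h => Or.inr (Or.inr (Or.inl h))) fun h => Or.inr (Or.inr (Or.inr h))

variable {T A B : Subgroup (G1 K m)}

/-- An element of order divisible by a prime other than two and three has a conjugate in a torus. -/
theorem exists_conj_torus
    (hTconj : ∀ y : G1 K m, ∀ r : ℕ, r.Prime → r ∣ (3 ^ (2 * m + 1) + 1) / 4 → r ∣ orderOf y →
      ∃ g, g * y * g⁻¹ ∈ T ∧ (g * y * g⁻¹) ^ 2 ≠ 1)
    {Φ : ℕ} (hA : IsSinger Φ A) (hB : IsSinger Φ B)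
    (hAc : Nat.card A = 3 ^ (2 * m + 1) - 3 ^ (m + 1) + 1)
    (hBc : Nat.card B = 3 ^ (2 * m + 1) + 3 ^ (m + 1) + 1)
    {y : G1 K m} {p : ℕ} (hp : p.Prime) (h2 : p ≠ 2) (h3 : p ≠ 3) (hpy : p ∣ orderOf y) :
    (∃ g, ∃ c : Kˣ, c ^ 2 ≠ 1 ∧ g * y * g⁻¹ = tt hK c) ∨
    (∃ g, g * y * g⁻¹ ∈ T ∧ (g * y * g⁻¹) ^ 2 ≠ 1) ∨
    (∃ g, g * y * g⁻¹ ∈ A ∧ g * y * g⁻¹ ≠ 1) ∨ (∃ g, g * y * g⁻¹ ∈ B ∧ g * y * g⁻¹ ≠ 1) := by
  rcases prime_cases hK hp h2 h3 (hpy.trans (orderOf_dvd_natCard y)) with h | h | h | h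
  · exact Or.inl (exists_conj_H1 hK hp h2 h hpy)
  · exact Or.inr (Or.inl (hTconj y p hp h hpy))
  · exact Or.inr (Or.inr (Or.inl (hA.exists_conj hp (hAc ▸ h) hpy)))
  · exact Or.inr (Or.inr (Or.inr (hB.exists_conj hp (hBc ▸ h) hpy)))

/-- The orders of the elements of order divisible by three. -/
theorem orderOf_three_cases {y : G1 K m} (hy : 3 ∣ orderOf y) :
    orderOf y = 3 ∨ orderOf y = 6 ∨ orderOf y = 9 := by
  obtain ⟨g, hg⟩ := order_three_conj hK hy
  obtain ⟨p, c, e⟩ := (mem_B1 hK).1 hg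
  have ho : orderOf (rr p * tt hK c : G1 K m) = orderOf y := by rw [← e, orderOf_conj_eq]
  rcases B1_order_cases hK (ho ▸ hy) with ⟨-, ⟨-, h⟩ | ⟨-, h⟩⟩ | ⟨-, -, h⟩ <;> omega

/-- The number of involutions. -/
theorem card_involutions_mul (hm : 1 ≤ m) : Nat.card {y : G1 K m // orderOf y = 2} *
    (3 ^ (2 * m + 1) * ((3 ^ (2 * m + 1) - 1) * (3 ^ (2 * m + 1) + 1))) = Nat.card (G1 K m) := by
  have h := card_cover ({invJ} : Set (G1 K m)) (Subgroup.centralizer {invJ})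
    (fun n hn d hd => by
      obtain rfl : d = invJ := hd
      exact Set.mem_singleton_iff.2
        (mul_inv_eq_iff_eq_mul.2 (Subgroup.mem_centralizer_singleton_iff.1 hn)))
    (fun g d hd hg => by
      obtain rfl : d = invJ := hd
      exact Subgroup.mem_centralizer_singleton_iff.2
        (mul_inv_eq_iff_eq_mul.1 (Set.mem_singleton_iff.1 hg)))
  rw [card_centralizer_invJ hK,
    show Nat.card ↥({invJ} : Set (G1 K m)) = 1 by simp, mul_one] at h
  rw [← h]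
  congr 1
  refine Nat.card_congr (Equiv.subtypeEquivRight fun y => ⟨fun hy => ?_, ?_⟩)
  · have hyy : y * y = 1 := by rw [← pow_two]; exact orderOf_dvd_iff_pow_eq_one.1 (dvd_of_eq hy)
    obtain ⟨g, hg⟩ := involutions_conj hK hm hyy (fun e => by
      rw [e, orderOf_one] at hy; exact absurd hy (by norm_num))
    exact ⟨g⁻¹, Set.mem_singleton_iff.2 (by rw [← hg]; group)⟩
  · rintro ⟨g, hg⟩
    rw [← orderOf_conj_eq g, Set.mem_singleton_iff.1 hg]
    exact orderOf_eq_prime (by rw [pow_two]; exact invJ_sq) (invJ_ne_one hK)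

end Ree

end Cfsg.Agent.Chev
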