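import Cfsg.Agent.Chev.Ree.Sigma

/-!
The torus, the Weyl element and the images of `U`, `H`, `N` under the endomorphism.
-/

set_option autoImplicit false
set_option maxRecDepth 100000

namespace Cfsg.Agent.Chev

open Cfsg.Lie
open scoped MatrixGroups

universe u

namespace Ree

variable {K : Type u} [Field K] [CharP K 3] {m : ℕ}

/-- `g'` is the image of `g`. -/
def IsImg (m : ℕ) (g g' : GL chevG2.Idx K) : Prop :=
  ∃ h : g ∈ chevG2.group K, sg K m ⟨g, h⟩ = g'

theorem IsImg.mul {g g' k k' : GL chevG2.Idx K} (h : IsImg m g g') (h' : IsImg m k k') :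
    IsImg m (g * k) (g' * k') := by
  obtain ⟨h, rfl⟩ := h
  obtain ⟨h', rfl⟩ := h'
  exact ⟨mul_mem h h', sg_mul m h h'⟩

theorem IsImg.unique {g g' g'' : GL chevG2.Idx K} (h : IsImg m g g') (h' : IsImg m g g'') :
    g' = g'' := by
  obtain ⟨_, rfl⟩ := h
  obtain ⟨_, rfl⟩ := h'
  rfl

theorem IsImg.one : IsImg m (1 : GL chevG2.Idx K) 1 := ⟨one_mem _, map_one (sg K m)⟩

theorem IsImg.inv {g g' : GL chevG2.Idx K} (h : IsImg m g g') : IsImg m g⁻¹ g'⁻¹ := by
  obtain ⟨h, rfl⟩ := h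
  exact ⟨inv_mem h, map_inv (sg K m) ⟨g, h⟩⟩

theorem isImg_self_iff {g : GL chevG2.Idx K} : IsImg m g g ↔ g ∈ fx m := (mem_fx m).symm

theorem isImg_x (r : Fin chevG2.nroots) (t : K) :
    IsImg m (xG facts_chevG2 r t) (xG facts_chevG2 (g2Spec.ρ r) ((th K m t) ^ g2Spec.lam r)) :=
  ⟨xG_mem_group facts_chevG2 r t, sg_x m r t _⟩

theorem isImg_nG (r : Fin chevG2.nroots) (t : K) :
    IsImg m (nG facts_chevG2 r t) (nG facts_chevG2 (g2Spec.ρ r) ((th K m t) ^ g2Spec.lam r)) := by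
  obtain ⟨s, hs⟩ : ∃ s : Fin chevG2.nroots, (s : ℕ) = chevG2.neg r :=
    ⟨⟨_, neg_lt facts_chevG2.{u} r.2⟩, rfl⟩
  have h2 : IsImg m (xG facts_chevG2 (chevG2.neg r) (-t⁻¹))
      (xG facts_chevG2 (chevG2.neg (g2Spec.ρ r)) (-((th K m t) ^ g2Spec.lam r)⁻¹)) := by
    have := isImg_x (m := m) s (-t⁻¹)
    rw [((rho_tables r).2.1 s hs).1, ((rho_tables r).2.1 s hs).2, hs, map_neg, map_inv₀] at this
    rcases (rho_tables r).1 with h | h <;> rw [h] at this ⊢
    · simpa using this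
    · rw [show ((-(th K m t)⁻¹) ^ 3 : K) = -((th K m t) ^ 3)⁻¹ by rw [← inv_pow]; ring] at this
      exact this
  exact ((isImg_x r t).mul h2).mul (isImg_x r t)

theorem isImg_hG (r : Fin chevG2.nroots) (t : K) :
    IsImg m (hG facts_chevG2 r t) (hG facts_chevG2 (g2Spec.ρ r) ((th K m t) ^ g2Spec.lam r)) := by
  have h := (isImg_nG (m := m) r t).mul (isImg_nG (m := m) r (-1 : K))
  rw [map_neg, map_one, show ((-1 : K) ^ g2Spec.lam r) = -1 by
    rcases (rho_tables r).1 with e | e <;> rw [e] <;> ring] at h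
  exact h

/-- The node exchanged with a node. -/
def sw (i : Fin chevG2.rank) : Fin chevG2.rank := ([1, 0] : List (Fin 2)).getD i 0

theorem node_tables : ∀ i : Fin chevG2.rank, ∀ r : Fin chevG2.nroots,
    (r : ℕ) = chevG2.simple i → (g2Spec.ρ r : ℕ) = chevG2.simple (sw i) := by decide +kernel

/-- Torus parameters. -/
noncomputable def tp (c₀ c₁ : Kˣ) : Fin chevG2.rank → Kˣ := fun i => if (i : ℕ) = 0 then c₀ else c₁

theorem simple_vals : chevG2.simple 0 = 7 ∧ chevG2.simple 1 = 6 := by decide +kernel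

theorem torusHom_tp (c₀ c₁ : Kˣ) : (torusHom (tp c₀ c₁) : GL chevG2.Idx K) =
    hG facts_chevG2 7 (c₀ : K) * hG facts_chevG2 6 (c₁ : K) := by
  rw [← simple_vals.1, ← simple_vals.2, hG_simple facts_chevG2 (i := 0) (by decide),
    hG_simple facts_chevG2 (i := 1) (by decide), coH_simple facts_chevG2 (i := 0) (by decide),
    coH_simple facts_chevG2 (i := 1) (by decide), ← map_mul]
  congr 1
  funext i
  fin_cases i <;> simp [tp, Pi.mulSingle_apply, Fin.ext_iff]

theorem eq_tp (c : Fin chevG2.rank → Kˣ) :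
    ∃ c₀ c₁, c = tp c₀ c₁ := ⟨c ⟨0, by decide⟩, c ⟨1, by decide⟩, funext fun i => by
      fin_cases i <;> simp [tp]⟩

theorem tp_inv (c₀ c₁ : Kˣ) : (tp c₀ c₁)⁻¹ = tp c₀⁻¹ c₁⁻¹ := by
  funext i
  fin_cases i <;> simp [tp]

theorem tp_mul (c₀ c₁ d₀ d₁ : Kˣ) : tp c₀ c₁ * tp d₀ d₁ = tp (c₀ * d₀) (c₁ * d₁) := by
  funext i
  fin_cases i <;> simp [tp]

theorem isImg_torus (c₀ c₁ : Kˣ) : IsImg m (torusHom (tp c₀ c₁) : GL chevG2.Idx K)
    (torusHom (tp (Units.map (th K m).toMonoidHom c₁)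
      (Units.map (th K m).toMonoidHom c₀ ^ 3))) := by
  rw [torusHom_tp, torusHom_tp]
  have h1 := isImg_hG (m := m) (⟨7, by decide⟩ : Fin chevG2.nroots) (c₀ : K)
  have h2 := isImg_hG (m := m) (⟨6, by decide⟩ : Fin chevG2.nroots) (c₁ : K)
  rw [((rho_tables _).2.2.2.1 rfl).1, ((rho_tables _).2.2.2.1 rfl).2] at h1
  rw [((rho_tables _).2.2.1 rfl).1, ((rho_tables _).2.2.1 rfl).2, pow_one] at h2
  have hc : Commute (hG facts_chevG2 6 ((th K m (c₀ : K)) ^ 3)) (hG facts_chevG2 7 (th K m (c₁ : K))) := by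
    have e6 := hG_eq_torus facts_chevG2.{u} (r := 6) (by decide)
      (Units.map (th K m).toMonoidHom c₀ ^ 3)
    have e7 := hG_eq_torus facts_chevG2.{u} (r := 7) (by decide) (Units.map (th K m).toMonoidHom c₁)
    simp only [Units.val_pow_eq_pow_val, Units.coe_map] at e6 e7
    show Commute (hG facts_chevG2 6 (((th K m).toMonoidHom (c₀ : K)) ^ 3))
      (hG facts_chevG2 7 ((th K m).toMonoidHom (c₁ : K)))
    rw [e6, e7]
    exact (Commute.all _ _).map torusHom
  have := h1.mul h2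
  rw [hc.eq] at this
  simpa [Units.coe_map] using this

theorem torusHom_injective : Function.Injective
    (torusHom : (Fin chevG2.rank → Kˣ) →* GL chevG2.Idx K) := by
  refine (injective_iff_map_eq_one _).2 fun c hc => ?_
  obtain ⟨c₀, c₁, rfl⟩ := eq_tp c
  have hh := (torusHom_eq_one_iff _).1 hc
  have ha := hh ⟨7, by decide⟩
  have hb := hh ⟨6, by decide⟩
  have t7 : chevG2.cartan 0 7 = 2 ∧ chevG2.cartan 1 7 = -1 ∧ chevG2.cartan 0 6 = -3 ∧
      chevG2.cartan 1 6 = 2 := by decide +kernel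
  simp only [chiU] at ha hb
  change ∏ j : Fin 2, (tp c₀ c₁ j) ^ _ = 1 at ha hb
  rw [Fin.prod_univ_two] at ha hb
  simp only [tp, Fin.val_zero, Fin.val_one, if_true, one_ne_zero, if_false, t7.1, t7.2.1,
    t7.2.2.1, t7.2.2.2] at ha hb
  have h1 : c₁ = c₀ ^ 2 := by
    rw [zpow_neg_one, mul_inv_eq_one] at ha
    rw [← ha]; norm_cast
  have h0 : c₀ = 1 := by
    rw [h1, ← zpow_natCast, ← zpow_mul, ← zpow_add] at hb
    simpa using hb
  rw [h0, one_pow] at h1
  rw [h0, h1]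
  funext i
  fin_cases i <;> simp [tp]

/-- An element of the torus of `²G₂`. -/
noncomputable def tor (m : ℕ) : Kˣ →* GL chevG2.Idx K where
  toFun c := torusHom (tp (Units.map (th K m).toMonoidHom c) c)
  map_one' := by
    rw [map_one, show tp (1 : Kˣ) 1 = 1 from funext fun i => by simp [tp], map_one]
  map_mul' a b := by rw [← map_mul, tp_mul, map_mul]

theorem tor_injective : Function.Injective (tor (K := K) m) := fun a b h => by
  have := congrFun (torusHom_injective h) ⟨1, by decide⟩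
  simpa [tp] using this

theorem tor_mem_diagonal (c : Kˣ) : tor m c ∈ chevG2.diagonalSubgroup K :=
  torusHom_mem facts_chevG2 _

theorem units_theta (hm : IsTheta K m) (c : Kˣ) :
    Units.map (th K m).toMonoidHom (Units.map (th K m).toMonoidHom c) ^ 3 = c := by
  rw [← map_pow]
  exact Units.ext (hm c)

theorem tor_mem_fx (hm : IsTheta K m) (c : Kˣ) : tor m c ∈ fx m := by
  have h := isImg_torus (m := m) (Units.map (th K m).toMonoidHom c) c
  rw [units_theta hm] at h
  exact isImg_self_iff.1 h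

theorem exists_tor {c : Fin chevG2.rank → Kˣ} (h : (torusHom c : GL chevG2.Idx K) ∈ fx m) :
    ∃ d, torusHom c = tor m d := by
  obtain ⟨c₀, c₁, rfl⟩ := eq_tp c
  have e := torusHom_injective ((isImg_self_iff.2 h).unique (isImg_torus c₀ c₁))
  have := congrFun e ⟨0, by decide⟩
  simp only [tp, if_true] at this
  exact ⟨c₁, by rw [this]; rfl⟩

theorem om_tor (c : Kˣ) : om (tor m c) = tor m c⁻¹ := by
  show om (torusHom _) = torusHom _
  rw [om_torus, tp_inv, map_inv]

/-- The word of the Weyl element. -/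
def w0 : List (Fin chevG2.rank) :=
  [⟨0, by decide⟩, ⟨1, by decide⟩, ⟨0, by decide⟩, ⟨1, by decide⟩, ⟨0, by decide⟩, ⟨1, by decide⟩]

/-- The Weyl element. -/
noncomputable def n0 : GL chevG2.Idx K := nWord facts_chevG2 w0

theorem pWord_w0 : ∀ r : Fin chevG2.nroots,
    (pWord facts_chevG2.{0} w0 r : ℕ) = chevG2.neg r := by decide +kernel

/-- The word of `R(t,u,v)` with natural parameters. -/
def rU (t u v : ℕ) : List (ℕ × ℕ) :=
  [(7, t), (6, t), (8, t * t + u), (9, t * t * t + v), (10, u), (11, v)]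

/-- The word of `ω(R(t,u,v))` with natural parameters. -/
def rV (t u v : ℕ) : List (ℕ × ℕ) :=
  [(4, 2 * t), (5, 2 * t), (3, 2 * (t * t + u)), (2, 2 * (t * t * t + v)), (1, 2 * u), (0, 2 * v)]

/-- The word of `n0`. -/
def nN : List (ℕ × ℕ) :=
  [(7, 1), (4, 2), (7, 1), (6, 1), (5, 2), (6, 1), (7, 1), (4, 2), (7, 1), (6, 1), (5, 2), (6, 1),
    (7, 1), (4, 2), (7, 1), (6, 1), (5, 2), (6, 1)]

/-- The word of the involution of the torus. -/
def hN : List (ℕ × ℕ) :=
  [(7, 2), (4, 1), (7, 2), (7, 2), (4, 1), (7, 2), (6, 2), (5, 1), (6, 2), (6, 2), (5, 1), (6, 2)]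

theorem nN_eq : Ree3.wordL nN = Ree3.wordL (rU 0 0 1 ++ rV 2 2 2 ++ rU 2 0 1) := by
  decide +kernel

theorem hN_eq :
    Ree3.wordL hN = Ree3.wordL (rV 0 0 1 ++ rU 0 0 1 ++ rV 1 1 1 ++ rU 2 1 2) := by
  decide +kernel

/-- A word with natural parameters, read in `K`. -/
noncomputable def natG (w : List (ℕ × ℕ)) : GL chevG2.Idx K :=
  wordG facts_chevG2 (w.map fun p => (p.1, (p.2 : K)))

omit [CharP K 3] in
theorem natG_append (v w : List (ℕ × ℕ)) : (natG (v ++ w) : GL chevG2.Idx K) = natG v * natG w := by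
  rw [natG, natG, natG, List.map_append, wordG_append]

theorem two_eq : (2 : K) = -1 := by linear_combination three_eq (K := K)

theorem th_natCast (t : ℕ) : ((t : K)) ^ 3 ^ m = t := by rw [← th_apply, map_natCast]

theorem natG_rU (t u v : ℕ) : natG (rU t u v) = R m (t : K) u v := by
  rw [← wordG_R, natG]
  congr 1
  simp only [rU, reeWordU, g2a, g2b, g2ab, g2aab, g2aaab, g2aaabb, List.map_cons, List.map_nil,
    pow_succ, mul_comm 2 (3 ^ m), pow_mul, th_natCast]
  push_cast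
  simp only [pow_zero, one_mul, mul_assoc]

theorem natG_rV (t u v : ℕ) : natG (rV t u v) = om (R m (t : K) u v) := by
  rw [← wordG_reeV, natG]
  congr 1
  have hn : chevG2.negIdx.getD 7 0 = 4 ∧ chevG2.negIdx.getD 6 0 = 5 ∧ chevG2.negIdx.getD 8 0 = 3 ∧
      chevG2.negIdx.getD 9 0 = 2 ∧ chevG2.negIdx.getD 10 0 = 1 ∧ chevG2.negIdx.getD 11 0 = 0 := by
    decide +kernel
  simp only [rV, reeWordV, ChevalleyDatum.negWord, reeWordU, g2a, g2b, g2ab, g2aab, g2aaab,
    g2aaabb, List.map_cons, List.map_nil, hn.1, hn.2.1, hn.2.2.1, hn.2.2.2.1, hn.2.2.2.2.1,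
    hn.2.2.2.2.2, pow_succ, mul_comm 2 (3 ^ m), pow_mul, th_natCast]
  push_cast
  simp only [pow_zero, one_mul, mul_assoc, two_eq, neg_mul]

theorem n0_eq_natG : (n0 : GL chevG2.Idx K) = natG nN := by
  simp only [n0, w0, nWord, List.map_cons, List.map_nil, List.prod_cons, List.prod_nil, nS, nG,
    simple_vals.1, simple_vals.2, natG, nN, wordG, mul_one]
  push_cast
  rw [show chevG2.neg 7 = 4 by decide +kernel, show chevG2.neg 6 = 5 by decide +kernel, inv_one,
    two_eq]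
  simp only [mul_assoc]

theorem n0_eq : (n0 : GL chevG2.Idx K) = R m 0 0 1 * om (R m 2 2 2) * R m 2 0 1 := by
  rw [n0_eq_natG, natG, Ree3.word_eq (by decide) (by decide) nN_eq]
  show natG _ = _
  rw [natG_append, natG_append, natG_rU (m := m), natG_rV (m := m), natG_rU (m := m)]
  norm_num

theorem tor_neg_one : (tor m (-1) : GL chevG2.Idx K) =
    om (R m 0 0 1) * R m 0 0 1 * om (R m 1 1 1) * R m 2 1 2 := by
  have e : (tor m (-1) : GL chevG2.Idx K) = natG hN := by
    show torusHom _ = _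
    rw [torusHom_tp, Units.coe_map]
    simp only [hG, nG, natG, hN, List.map_cons, List.map_nil, wordG, List.prod_cons,
      List.prod_nil, mul_one]
    push_cast
    rw [show (th K m).toMonoidHom (-1 : K) = -1 from (map_neg (th K m) 1).trans (by rw [map_one]),
      show chevG2.neg 7 = 4 by decide +kernel, show chevG2.neg 6 = 5 by decide +kernel, inv_neg,
      inv_one, neg_neg, two_eq]
    simp only [mul_assoc]
  rw [e, natG, Ree3.word_eq (by decide) (by decide) hN_eq]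
  show natG _ = _
  rw [natG_append, natG_append, natG_append, natG_rV (m := m), natG_rU (m := m),
    natG_rV (m := m), natG_rU (m := m)]
  norm_num

theorem n0_mem_G1 : (n0 : GL chevG2.Idx K) ∈ twistedG2 K (3 ^ m) := by
  rw [n0_eq (m := m)]
  exact mul_mem (mul_mem (R_mem_G1 _ _ _) (omR_mem_G1 _ _ _)) (R_mem_G1 _ _ _)

theorem tor_neg_one_mem_G1 : (tor m (-1) : GL chevG2.Idx K) ∈ twistedG2 K (3 ^ m) := by
  rw [tor_neg_one]
  exact mul_mem (mul_mem (mul_mem (omR_mem_G1 _ _ _) (R_mem_G1 _ _ _)) (omR_mem_G1 _ _ _))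
    (R_mem_G1 _ _ _)

theorem n0_mem_fx (hm : IsTheta K m) : (n0 : GL chevG2.Idx K) ∈ fx m :=
  twistedG2_le_fx hm n0_mem_G1

theorem n0_mem_monomial : (n0 : GL chevG2.Idx K) ∈ chevG2.monomialSubgroup K :=
  nWord_mem facts_chevG2 w0

theorem n0_isMon :
    IsMon facts_chevG2.{u} (n0 : GL chevG2.Idx K) (pWord facts_chevG2.{u} w0) :=
  isMon_nWord facts_chevG2 w0

end Ree

end Cfsg.Agent.Chev
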